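import Mathlib
import Cfsg.Agent.H67.Cross
import Cfsg.Agent.H64.CrossChev
import Cfsg.Agent.H61.SUNode
set_option linter.all false

/-!
# Cross characteristic: the special unitary groups

* `noPCov_SU` : `SU_N(q)`, `N ≥ 3`, has no perfect central extension with kernel of prime order `r ≠ p`, provided
  `NoCE p r (SU 3 F q)` holds if `N` is odd.
-/

set_option autoImplicit false

namespace Cfsg.Agent.H61.SUCross

open Matrix (SpecialLinearGroup)
open Cfsg Cfsg.Agent.LieClassical.HermBasic Cfsg.Agent.LieClassical.HermSiegel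
open Cfsg.Agent.ChevalleyStructure.CoxeterGeom Cfsg.Agent.Tits.Roots
open Cfsg.Agent.TitsThree Cfsg.Agent.TitsThree.Siegel Cfsg.Agent.TitsThree.SiegelGen
  Cfsg.Agent.TitsThree.WittFrame
  Cfsg.Agent.TitsThree.WittWeyl Cfsg.Agent.TitsThree.WBridge Cfsg.Agent.TitsThree.KSideU
  Cfsg.Agent.TitsThree.KSideUDesc Cfsg.Agent.TitsThree.FrameCN
open Cfsg.Agent.Nodes Cfsg.Agent.Nodes.WittRoot Cfsg.Agent.Nodes.WittRGD Cfsg.Agent.Nodes.TypeC
  Cfsg.Agent.Nodes.WittAll Cfsg.Agent.Nodes.WittU Cfsg.Agent.Nodes.BNOf Cfsg.Agent.Nodes.Reps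
  Cfsg.Agent.Nodes.RGDLift Cfsg.Agent.KFacts.MulOdd.Inst
  Cfsg.Agent.OddCyclic.T1Sl2 Cfsg.Agent.H61.RankOne Cfsg.Agent.H61.SUNode Cfsg.Agent.H67
  Cfsg.Agent.H67.Cross
open Cfsg.Agent.Phan (fixedField mem_fixedField card_fixedField)

/-- The product of the orders of independent subgroups. -/
theorem card_prod_le {G B : Type*} [Group G] [CommGroup B] {m : ℕ} (T : Subgroup G) [Finite T]
    (H : Fin m → Subgroup G)
    (hH : ∀ i, H i ≤ T) (χ : Fin m → T →* B) (h1 : ∀ i j, i < j → ∀ t : T, (t : G) ∈ H j → χ i t = 1)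
    (h2 : ∀ i, ∀ t : T, (t : G) ∈ H i → χ i t = 1 → t = 1) : ∏ i, Nat.card (H i) ≤ Nat.card T := by
  classical
  have hfin : ∀ i, Finite (H i) := fun i =>
    Finite.of_injective (fun x : H i => (⟨x, hH i x.2⟩ : T)) fun x y h =>
      Subtype.ext (congrArg (fun z : T => (z : G)) h)
  rw [← Nat.card_pi]
  let inc : (i : Fin m) → H i → T := fun i x => ⟨x, hH i x.2⟩
  refine Nat.card_le_card_of_injective
    (fun t : (i : Fin m) → H i => (List.ofFn fun i => inc i (t i)).prod) ?_
  intro t t' htt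
  have key : ∀ i, ∏ j, χ i (inc j ((t j)⁻¹ * t' j)) = 1 := by
    intro i
    have h3 := congrArg (χ i) htt
    simp only [map_list_prod, List.map_ofFn, List.prod_ofFn, Function.comp_apply] at h3
    have h4 : ∀ j, χ i (inc j ((t j)⁻¹ * t' j)) = (χ i (inc j (t j)))⁻¹ * χ i (inc j (t' j)) := by
      intro j
      rw [← map_inv, ← map_mul]
      rfl
    simp only [h4]
    rw [Finset.prod_mul_distrib, Finset.prod_inv_distrib, h3, inv_mul_cancel]
  have main : ∀ k : ℕ, ∀ i : Fin m, (i : ℕ) = k → t i = t' i := by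
    intro k
    induction k using Nat.strong_induction_on with
    | _ k ih =>
      intro i hi
      have h3 := key i
      rw [Finset.prod_eq_single i] at h3
      · have h4 := h2 i _ (((t i)⁻¹ * t' i)).2 h3
        have h5 : ((t i)⁻¹ * t' i : H i) = 1 := Subtype.ext (congrArg (fun z : T => (z : G)) h4)
        exact inv_mul_eq_one.1 h5
      · intro j _ hj
        rcases lt_or_gt_of_ne hj with h | h
        · have h4 := ih j (by rw [← hi]; exact h) j rfl
          rw [h4, inv_mul_cancel]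
          exact map_one _
        · exact h1 i j h _ (((t j)⁻¹ * t' j)).2
      · intro h; exact absurd (Finset.mem_univ _) h
  funext i
  exact main i i rfl

variable {F : Type*} [Field F] [Fintype F] {q N m : ℕ} (hF : Fintype.card F = q ^ 2)

/-- The model of `SU` over the Witt frame. -/
noncomputable def modelSU (hN : 3 ≤ N) (W : WFrame (PU hF N) m) : Model (toFrame W) (SU N F q) where
  I := IU F q N
  φ := (ofRange F q N).toMonoidHom
  hX := X_mem hF W
  hZ := Z_mem hF W
  ker v g h := by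
    have h1 : g = 1 := (ofRange F q N).injective (h.trans (map_one _).symm)
    rw [h1]
    exact one_mem _
  gen l L h1 h2 := by
    have key : ∀ g : IU F q N, (ofRange F q N) g ∈ L → g.1 ∈ L.map (toLin F q N) :=
      fun g hg => ⟨_, hg, toLin_ofRange g⟩
    refine generation hF hN W l L (fun i j hij => ?_)
      (zt_of_Z W (x := (l, true)) fun p => key _ (h2 p).1)
      (zt_of_Z W (x := (l, false)) fun p => key _ (h2 p).2)
    have hne : i ≠ j := fun h => by rw [h] at hij; omega
    exact ⟨rt_of_X W (x := (i, true)) (y := (j, false)) hne fun t => key _ (h1 i j hij t).1,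
      rt_of_X W (x := (j, true)) (y := (i, false)) (Ne.symm hne) fun t => key _ (h1 i j hij t).2⟩

variable {hF}

theorem map_ofRange (P : Subgroup ((Fin N → F) ≃ₗ[F] (Fin N → F))) :
    (P.subgroupOf (IU F q N)).map (ofRange F q N).toMonoidHom = P.comap (toLin F q N) := by
  ext k
  constructor
  · rintro ⟨g, hg, rfl⟩
    show toLin F q N (ofRange F q N g) ∈ P
    rw [toLin_ofRange]
    exact hg
  · intro hk
    refine ⟨⟨toLin F q N k, k, rfl⟩, hk, ?_⟩
    apply toLin_injective
    exact toLin_ofRange _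

variable (hN : 3 ≤ N) (W : WFrame (PU hF N) m)

theorem T_eq : WittModel.T (modelSU hF hN W) = (Tor (toFrame W) (IU F q N)).comap (toLin F q N) := map_ofRange _

theorem X_eq (x : Fin m → ℤ) : WittModel.X (modelSU hF hN W) x = (rg (toFrame W) x).comap (toLin F q N) :=
  map_ofRange _

theorem Lv_eq (i : Fin m) :
    Lv (WittModel.X (modelSU hF hN W)) i = (Nv (toFrame W) i).comap (toLin F q N) := by
  have hA := amb_U hF W
  unfold Lv Nv
  rw [← map_ofRange, Subgroup.subgroupOf_sup (hA.rg_le _) (hA.rg_le _), Subgroup.map_sup]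
  rfl

theorem Nv_le (i : Fin m) : Nv (toFrame W) i ≤ IU F q N :=
  sup_le ((amb_U hF W).rg_le _) ((amb_U hF W).rg_le _)

/-- The rank one subgroups of `SU` and of the group of the frame. -/
noncomputable def nodeEquiv (i : Fin m) :
    ↥(Lv (WittModel.X (modelSU hF hN W)) i) ≃* ↥(Nv (toFrame W) i) :=
  (MulEquiv.subgroupCongr (Lv_eq hN W i)).trans
    ((((Nv (toFrame W) i).comap (toLin F q N)).equivMapOfInjective (toLin F q N) toLin_injective).trans
      (MulEquiv.subgroupCongr (Subgroup.map_comap_eq_self (Nv_le W i))))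

/-- the characters of the torus -/
noncomputable def chi (i : Fin m) : ↥(WittModel.T (modelSU hF hN W)) →* Fˣ :=
  MonoidHom.toHomUnits
    { toFun := fun t => (HU hF N).h (toLin F q N t (W.e i)) (W.f i)
      map_one' := by
        show (HU hF N).h (toLin F q N 1 (W.e i)) (W.f i) = 1
        rw [map_one]
        show (HU hF N).h (W.e i) (W.f i) = 1
        rw [W.ef, if_pos rfl]
      map_mul' := by
        rintro ⟨s, hs⟩ ⟨t, ht⟩
        show (HU hF N).h (toLin F q N (s * t) (W.e i)) (W.f i) =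
          (HU hF N).h (toLin F q N s (W.e i)) (W.f i) * (HU hF N).h (toLin F q N t (W.e i)) (W.f i)
        rw [T_eq] at hs ht
        obtain ⟨l, -, hl⟩ := hs.2 (i, true)
        obtain ⟨l', -, hl'⟩ := ht.2 (i, true)
        have e1 : toLin F q N s (W.e i) = l • W.e i := hl
        have e2 : toLin F q N t (W.e i) = l' • W.e i := hl'
        rw [map_mul, mul_apply', e2, map_smul, e1, HForm.smul_left, HForm.smul_left, HForm.smul_left,
          W.ef, if_pos rfl]
        ring }

theorem chi_val (i : Fin m) (t : ↥(WittModel.T (modelSU hF hN W))) :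
    ((chi hN W i t : Fˣ) : F) = (HU hF N).h (toLin F q N t (W.e i)) (W.f i) := rfl

theorem apply_e (i : Fin m) (t : ↥(WittModel.T (modelSU hF hN W))) :
    toLin F q N t (W.e i) = ((chi hN W i t : Fˣ) : F) • W.e i := by
  obtain ⟨t, ht⟩ := t
  have ht' := ht
  rw [T_eq] at ht'
  obtain ⟨l, -, hl⟩ := ht'.2 (i, true)
  have e1 : toLin F q N t (W.e i) = l • W.e i := hl
  rw [chi_val]
  show toLin F q N t (W.e i) = ((HU hF N).h (toLin F q N t (W.e i)) (W.f i)) • W.e i
  rw [e1, HForm.smul_left, W.ef, if_pos rfl, mul_one]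

/-- the kind of the last node -/
def Kind (W : WFrame (PU hF N) m) : Prop :=
  W.V0 = ⊥ ∨ ∃ d : Fin N → F, hermForm N F q d d = 1 ∧ W.V0 = Submodule.span F {d}

theorem exists_delta (hF : Fintype.card F = q ^ 2) : ∃ δ : F, δ ^ q = -δ ∧ δ ≠ 0 := by
  obtain ⟨c, hc, h⟩ := exists_trace_zero_ne hF
  exact ⟨c, by linear_combination h, hc⟩

theorem eq_one_of (hK : Kind W) (i : Fin m) {g : (Fin N → F) ≃ₗ[F] (Fin N → F)}
    (hg : g ∈ Nv (toFrame W) i) (hm : Mono (toFrame W) g id) (he : g (W.e i) = W.e i) : g = 1 := by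
  by_cases h : (i : ℕ) + 1 < m
  · exact eq_one_typeI h hg hm he
  · rcases hK with hV0 | ⟨d, hd, hV0⟩
    · obtain ⟨δ, hδ, hδ0⟩ := exists_delta hF
      exact eq_one_even hV0 hδ hδ0 h hg hm he
    · exact eq_one_odd hV0 hd h hg hm he (isIso_IU hF (Nv_le W i hg))

theorem torus_card (hK : Kind W) : ∏ i, Nat.card ↥(WittModel.T (modelSU hF hN W) ⊓
    Lv (WittModel.X (modelSU hF hN W)) i) ≤ Nat.card (WittModel.T (modelSU hF hN W)) := by
  refine card_prod_le (WittModel.T (modelSU hF hN W)) _ (fun i => inf_le_left) (chi hN W) ?_ ?_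
  · intro i j hij t ht
    have h1 := (Subgroup.mem_inf.1 ht).2
    rw [Lv_eq] at h1
    have h2 : toLin F q N t (W.e i) = W.e i := fix_of_mem (Fr := toFrame W) hij h1
    refine Units.ext ?_
    rw [chi_val, h2, W.ef, if_pos rfl, Units.val_one]
  · intro i t ht h0
    have h1 := (Subgroup.mem_inf.1 ht).2
    rw [Lv_eq] at h1
    have h2 := apply_e hN W i t
    rw [h0, Units.val_one, one_smul] at h2
    have h3 : (t : SU N F q) ∈ (Tor (toFrame W) (IU F q N)).comap (toLin F q N) := by
      rw [← T_eq hN W]; exact t.2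
    have h4 := eq_one_of W hK i h1 h3.2 h2
    apply Subtype.ext
    apply toLin_injective
    rw [h4]
    exact (map_one _).symm

theorem noCE_node (W : WFrame (PU hF N) m) (hK : Kind W) {p r : ℕ} (hp : p.Prime) [CharP F p] (hr : r.Prime) (hne : r ≠ p)
    (h3 : W.V0 ≠ ⊥ → NoCE p r (SU 3 F q)) (i : Fin m) : NoCE p r ↥(Nv (toFrame W) i) := by
  by_cases h : (i : ℕ) + 1 < m
  · obtain ⟨e, -⟩ := RankOne.exists_equiv (Fr := toFrame W) (ne_nx h)
    exact (H64.CrossChev.noCE_SL (F := F) hp hr hne).congr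
      (e.symm.trans (MulEquiv.subgroupCongr (Nv_eq_P1 h).symm))
  · by_cases hV0 : W.V0 = ⊥
    · obtain ⟨δ, hδ, hδ0⟩ := exists_delta hF
      obtain ⟨e, -⟩ := LastEven.exists_equiv (i := i) hV0 hδ hδ0
      haveI : CharP (fixedField hF) p :=
        (RingHom.charP_iff (fixedField hF).subtype (fixedField hF).subtype_injective p).2 inferInstance
      exact (H64.CrossChev.noCE_SL (F := fixedField hF) hp hr hne).congr
        (e.symm.trans (MulEquiv.subgroupCongr (Nv_eq_ZG h).symm))
    · obtain ⟨d, hd, hV1⟩ := hK.resolve_left hV0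
      obtain ⟨W', d', hd', hV0'⟩ := exists_wframe_odd (N := 3) hF (m := 1) rfl
      obtain ⟨e, -⟩ := LastOdd.exists_equiv (i := i) hV1 hd hV0' hd'
      exact (h3 hV0).congr (e.symm.trans (MulEquiv.subgroupCongr (Nv_eq_ZG h).symm))

/-- The datum. -/
theorem cdatum (hN : 3 ≤ N) (W : WFrame (PU hF N) m) (hm : 0 < m) (hK : Kind W) {p r : ℕ} [hp : Fact p.Prime] [CharP F p] (hr : r.Prime) (hne : r ≠ p)
    (h3 : W.V0 ≠ ⊥ → NoCE p r (SU 3 F q)) : NoPCov r (SU N F q) := by
  classical
  obtain ⟨p0, hp0, -⟩ := exists_adm hF W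
  have R := rgdC_model (modelSU hF hN W) (AmbT.of_amb (amb_U hF W) p) hp0 (CoxeterMatrix.B m).toCoxeterSystem
  have : Finite (CoxeterMatrix.B m).Group := finite_W (CoxeterMatrix.B m).toCoxeterSystem
  refine CDatum.noPCov (cs := (CoxeterMatrix.B m).toCoxeterSystem) (h := isCartan m) (p := p) (T := _) (n := _)
    (X := _) { toRGD := R, gen := ?_, prime := hp.out, prime' := hr, ne := hne, card_le := ?_, rk := ?_ }
  · exact WittModel.G1_eq_top _ hm _
  · exact torus_card hN W hK
  · intro i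
    exact (noCE_node W hK hp.out hr hne h3 i).congr (nodeEquiv hN W i).symm

/-- **The special unitary groups in cross characteristic.** -/
theorem noPCov_SU {F : Type*} [Field F] [Fintype F] {q N : ℕ} (hF : Fintype.card F = q ^ 2) (hN : 3 ≤ N)
    {p r : ℕ} (hp : p.Prime) [CharP F p] (hr : r.Prime) (hne : r ≠ p)
    (h3 : Odd N → NoCE p r (SU 3 F q)) : NoPCov r (SU N F q) := by
  haveI : Fact p.Prime := ⟨hp⟩
  obtain ⟨m, hm⟩ : ∃ m, N = 2 * m ∨ N = 2 * m + 1 := ⟨N / 2, by omega⟩
  rcases hm with hm | hm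
  · obtain ⟨W, hW⟩ := exists_wframe_even hF hm
    exact cdatum hN W (by omega) (Or.inl hW) hr hne fun h => absurd hW h
  · obtain ⟨W, d, hd, hW⟩ := exists_wframe_odd hF hm
    exact cdatum hN W (by omega) (Or.inr ⟨d, hd, hW⟩) hr hne fun _ => h3 ⟨m, hm⟩

end Cfsg.Agent.H61.SUCross
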