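import Mathlib
import Cfsg.Agent.H67.Cross
import Cfsg.Agent.H64.CrossChev
import Cfsg.Agent.KFacts.MulOdd.UThree
import Cfsg.Agent.PermutationGroups.ZassReduction
import Cfsg.Agent.TitsThree.KSideU
set_option linter.all false

-- part: H61/CE
section
/-!
# More criteria for `NoCE p r P`

* `false_of_commutator` : a subgroup `K` of index prime to `r` with `c ∉ [K, K]`;
* `central_of_central` : lifts of central elements are central;
* `NoCE.of_sl` : a subgroup `R` generated by `p`-elements with `NoCE p r R`, normalised by `x`, such that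
  `⟨R, x⟩` has index prime to `r`;
* `NoCE.of_three` : `r = 3`, an abelian subgroup `A` (two generators, transposition) and an element `s` of order 3.
-/

set_option autoImplicit false
set_option linter.style.haveILetI false

namespace Cfsg.Agent.H61.CE

open Subgroup Cfsg.Agent.H67 Cfsg.Agent.H67.Cross
open scoped commutatorElement

universe u v

section basic

variable {p r : ℕ} {H : Type u} [Group H] {P : Type v} [Group P] {f : H →* P} {c : H}

theorem false_of_commutator [Finite H] (hp : p.Prime) (hr : r.Prime) (hne : r ≠ p) (hcr : c ^ r = 1)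
    (hcen : ∀ x, c * x = x * c)
    (hgen : closure {x : H | ∃ k : ℕ, x ^ p ^ k = 1} = ⊤) {K : Subgroup H} (hK : ¬ r ∣ K.index)
    (hcK : c ∈ K) (hcc : (⟨c, hcK⟩ : K) ∉ commutator K) : False := by
  have h1 : ∀ (k : ℕ) (g₀ : H), g₀⁻¹ * c ^ k * g₀ ∈ K → g₀⁻¹ * c ^ k * g₀ = c ^ k := by
    intro k g₀ _
    have h2 : Commute c g₀ := hcen g₀
    rw [mul_assoc, (h2.pow_left k).eq]; group
  have h3 := MonoidHom.transfer_eq_pow (Abelianization.of : K →* Abelianization K) c h1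
  refine false_of_hom hp hr hne hgen (MonoidHom.transfer (Abelianization.of : K →* Abelianization K)) hcr ?_
  rw [h3]
  intro h4
  have h5 : (⟨c, hcK⟩ : K) ^ K.index ∈ commutator K := (QuotientGroup.eq_one_iff (N := commutator K) _).1 h4
  have h6 : Nat.Coprime K.index r := (Nat.Coprime.symm ((Nat.Prime.coprime_iff_not_dvd hr).2 hK))
  apply hcc
  have h7 : (⟨c, hcK⟩ : K) ^ r = 1 := Subtype.ext hcr
  obtain ⟨m, -, hm⟩ := Nat.exists_mul_mod_eq_one_of_coprime h6 hr.one_lt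
  have h8 : ((⟨c, hcK⟩ : K) ^ K.index) ^ m = ⟨c, hcK⟩ := by
    rw [← pow_mul, ← Nat.div_add_mod (K.index * m) r, hm, pow_add, pow_mul, h7, one_pow, one_mul, pow_one]
  rw [← h8]
  exact pow_mem h5 m

/-- Lifts of central elements are central. -/
theorem central_of_central (hp : p.Prime) (hr : r.Prime) (hne : r ≠ p) (hcr : c ^ r = 1)
    (hcen : ∀ x, c * x = x * c)
    (hker : ∀ x, f x = 1 ↔ x ∈ zpowers c) (hgen : closure {x : H | ∃ k : ℕ, x ^ p ^ k = 1} = ⊤) {z : H}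
    (hz : f z ∈ center P) (x : H) : z * x = x * z := by
  have key : ∀ x : H, ∃ k : ℤ, z * x = c ^ k * (x * z) := by
    intro x
    have h1 : f (z * x * (x * z)⁻¹) = 1 := by
      rw [map_mul, map_mul, map_inv, map_mul, mem_center_iff.1 hz (f x), mul_inv_cancel]
    obtain ⟨k, hk⟩ := mem_zpowers_iff.1 ((hker _).1 h1)
    exact ⟨k, by rw [hk]; group⟩
  have hcz : ∀ k : ℤ, ∀ x, c ^ k * x = x * c ^ k := fun k x => ((show Commute c x from hcen x).zpow_left k).eq
  have hx : x ∈ closure {x : H | ∃ k : ℕ, x ^ p ^ k = 1} := by rw [hgen]; trivial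
  induction hx using closure_induction with
  | mem x hx =>
    obtain ⟨m, hm⟩ := hx
    obtain ⟨k, hk⟩ := key x
    -- `z x^n = c^(k n) x^n z`
    have h2 : ∀ n : ℕ, z * x ^ n = (c ^ k) ^ n * (x ^ n * z) := by
      intro n
      induction n with
      | zero => simp
      | succ n ih =>
        have h3 := hcz k (x ^ n)
        calc z * x ^ (n + 1) = (z * x ^ n) * x := by rw [pow_succ]; group
          _ = (c ^ k) ^ n * (x ^ n * (z * x)) := by rw [ih]; group
          _ = (c ^ k) ^ n * ((x ^ n * c ^ k) * (x * z)) := by rw [hk]; group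
          _ = (c ^ k) ^ n * ((c ^ k * x ^ n) * (x * z)) := by rw [← h3]
          _ = (c ^ k) ^ (n + 1) * (x ^ (n + 1) * z) := by rw [pow_succ (c ^ k), pow_succ x]; group
    have h3 := h2 (p ^ m)
    rw [hm, mul_one, one_mul] at h3
    have h4 : (c ^ k) ^ p ^ m = 1 := mul_eq_right.1 h3.symm
    have h5 : (c ^ k) ^ r = 1 := by
      rw [← zpow_natCast, ← zpow_mul, mul_comm, zpow_mul, zpow_natCast, hcr, one_zpow]
    have h6 : c ^ k = 1 := orderOf_eq_one_iff.1 (Nat.eq_one_of_dvd_coprimes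
      (Nat.Coprime.pow_left m ((Nat.coprime_primes hp hr).2 (Ne.symm hne)))
      (orderOf_dvd_of_pow_eq_one h4) (orderOf_dvd_of_pow_eq_one h5))
    rw [hk, h6, one_mul]
  | one => rw [mul_one, one_mul]
  | mul x y _ _ hx hy => rw [← mul_assoc, hx, mul_assoc, hy, mul_assoc]
  | inv x _ hx => exact ((show Commute z x from hx).inv_right).eq

end basic

/-- **Criterion with a normalised subgroup of type `NoCE`.** -/
theorem NoCE.of_sl {p r : ℕ} (hp : p.Prime) (hr : r.Prime) (hne : r ≠ p) {P : Type v} [Group P]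
    {R : Subgroup P} (hR : NoCE p r R) (hRgen : R ≤ closure {y : P | y ∈ R ∧ ∃ k : ℕ, y ^ p ^ k = 1}) {x : P}
    (hx : x ∈ normalizer (R : Set P)) (hidx : ¬ r ∣ (R ⊔ zpowers x).index) : NoCE p r P := by
  intro H _ _ f c hf hc1 hcr hcen hker hgen
  set R0 : Subgroup H := closure {y : H | (∃ k : ℕ, y ^ p ^ k = 1) ∧ f y ∈ R} with hR0
  set S : Subgroup P := R ⊔ zpowers x with hS
  set K : Subgroup H := S.comap f with hK
  have hKi : K.index = S.index := S.index_comap_of_surjective hf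
  have hfc : f c = 1 := (hker c).2 (mem_zpowers c)
  have hcK : c ∈ K := by
    show f c ∈ S
    rw [hfc]; exact one_mem S
  have hcop : ∀ k : ℕ, Nat.Coprime (p ^ k) r := fun k =>
    Nat.Coprime.pow_left k ((Nat.coprime_primes hp hr).2 (Ne.symm hne))
  -- lifts
  have hlift : ∀ y ∈ R, ∃ y' ∈ R0, f y' = y := by
    intro y hy
    have h1 : y ∈ closure {y : P | y ∈ R ∧ ∃ k : ℕ, y ^ p ^ k = 1} := hRgen hy
    have h2 : closure {y : P | y ∈ R ∧ ∃ k : ℕ, y ^ p ^ k = 1} ≤ R0.map f := by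
      rw [closure_le]
      rintro y ⟨hy, k, hk⟩
      obtain ⟨z, rfl⟩ := hf y
      have h3 : f (z ^ p ^ k) = 1 := by rw [map_pow, hk]
      obtain ⟨j, hj⟩ := mem_zpowers_iff.1 ((hker _).1 h3)
      rcases Nat.eq_zero_or_pos k with rfl | hk0
      · rw [pow_zero, pow_one] at hk
        rw [hk]; exact one_mem _
      obtain ⟨m, -, hm⟩ := Nat.exists_mul_mod_eq_one_of_coprime (hcop k).symm
        (Nat.one_lt_pow hk0.ne' hp.one_lt)
      have h4 : f (z ^ (r * m)) = f z := by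
        rw [map_pow, ← Nat.div_add_mod (r * m) (p ^ k), hm, pow_add, pow_mul, hk, one_pow, one_mul, pow_one]
      refine ⟨z ^ (r * m), subset_closure ⟨⟨k, ?_⟩, by rw [h4]; exact hy⟩, h4⟩
      rw [← pow_mul, mul_comm, pow_mul, ← hj, ← zpow_natCast, ← zpow_mul, mul_comm, zpow_mul, zpow_natCast,
        pow_mul, hcr, one_pow, one_zpow]
    exact h2 h1
  -- `c ∉ R0`
  have hmapR : ∀ y ∈ R0, f y ∈ R := by
    intro y hy
    have : R0 ≤ R.comap f := by
      rw [hR0, closure_le]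
      rintro y ⟨-, hy⟩
      exact hy
    exact this hy
  have hcR0 : c ∉ R0 := by
    intro hc
    let g : R0 →* R := (f.comp R0.subtype).codRestrict R fun y => hmapR y y.2
    refine hR R0 g ⟨c, hc⟩ ?_ (fun h0 => hc1 (congrArg Subtype.val h0)) (Subtype.ext hcr)
      (fun y => Subtype.ext (hcen y)) ?_ ?_
    · rintro ⟨y, hy⟩
      obtain ⟨y', hy', e⟩ := hlift y hy
      exact ⟨⟨y', hy'⟩, Subtype.ext e⟩
    · intro y
      have h1 : g y = 1 ↔ f (y : H) = 1 := by rw [← Subtype.coe_inj]; rfl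
      rw [h1, hker, mem_zpowers_iff, mem_zpowers_iff]
      refine exists_congr fun k => ?_
      rw [← Subtype.coe_inj]
      rfl
    · rw [eq_top_iff]
      intro y _
      have h1 : R0 ≤ (closure {x : R0 | ∃ k : ℕ, x ^ p ^ k = 1}).map R0.subtype := by
        conv_lhs => rw [hR0]
        rw [closure_le]
        rintro y ⟨⟨k, hk⟩, hy⟩
        have hyR : y ∈ R0 := subset_closure ⟨⟨k, hk⟩, hy⟩
        exact ⟨⟨y, hyR⟩, subset_closure ⟨k, Subtype.ext hk⟩, rfl⟩
      obtain ⟨y', hy', e⟩ := h1 y.2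
      have : y' = y := Subtype.ext e
      rwa [← this]
  have hnorm : ∀ h : H, f h ∈ normalizer (R : Set P) → ∀ y ∈ R0, h * y * h⁻¹ ∈ R0 := by
    intro h hh y hy
    rw [hR0] at hy ⊢
    induction hy using closure_induction with
    | mem y hy =>
      obtain ⟨⟨k, hk⟩, hy⟩ := hy
      refine subset_closure ⟨⟨k, ?_⟩, ?_⟩
      · rw [conj_pow, hk, mul_one, mul_inv_cancel]
      · rw [map_mul, map_mul, map_inv]
        exact (mem_normalizer_iff.1 hh _).1 hy
    | one => rw [mul_one, mul_inv_cancel]; exact one_mem _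
    | mul y z _ _ hy hz =>
      have : h * (y * z) * h⁻¹ = (h * y * h⁻¹) * (h * z * h⁻¹) := by group
      rw [this]; exact mul_mem hy hz
    | inv y _ hy =>
      have : h * y⁻¹ * h⁻¹ = (h * y * h⁻¹)⁻¹ := by group
      rw [this]; exact inv_mem hy
  obtain ⟨x', hx'⟩ := hf x
  have hzx : zpowers x ≤ normalizer (R : Set P) := zpowers_le.2 hx
  have hzx' : ∀ k : ℤ, f (x' ^ k) ∈ normalizer (R : Set P) := by
    intro k
    rw [map_zpow, hx']
    exact zpow_mem hx k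
  have hcz : ∀ k : ℤ, ∀ x, c ^ k * x = x * c ^ k := fun k x => ((show Commute c x from hcen x).zpow_left k).eq
  -- the elements of `K`
  have hel : ∀ h ∈ K, ∃ r ∈ R0, ∃ k j : ℤ, h = r * x' ^ k * c ^ j := by
    intro h hh
    have h1 : f h ∈ ((R ⊔ zpowers x : Subgroup P) : Set P) := hh
    rw [coe_mul_of_right_le_normalizer_left _ _ hzx] at h1
    obtain ⟨g, hg, _, ⟨k, rfl⟩, e⟩ := h1
    obtain ⟨r, hr, hr2⟩ := hlift g hg
    have h2 : f ((r * x' ^ k)⁻¹ * h) = 1 := by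
      have e' : g * x ^ k = f h := e
      rw [map_mul, map_inv, map_mul, map_zpow, hx', hr2, ← e', inv_mul_cancel]
    obtain ⟨j, hj⟩ := mem_zpowers_iff.1 ((hker _).1 h2)
    exact ⟨r, hr, k, j, by rw [hj]; group⟩
  -- the commutators
  have hcomm : commutator K ≤ R0.subgroupOf K := by
    rw [commutator_eq_closure, closure_le]
    rintro _ ⟨a, b, rfl⟩
    show ⁅a, b⁆ ∈ R0.subgroupOf K
    rw [mem_subgroupOf]
    have main : ∀ r₁ ∈ R0, ∀ r₂ ∈ R0, ∀ k₁ k₂ : ℤ, ⁅r₁ * x' ^ k₁, r₂ * x' ^ k₂⁆ ∈ R0 := by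
      intro r₁ hr₁ r₂ hr₂ k₁ k₂
      have e : ⁅r₁ * x' ^ k₁, r₂ * x' ^ k₂⁆ =
          r₁ * (x' ^ k₁ * r₂ * (x' ^ k₁)⁻¹) * (x' ^ k₂ * r₁⁻¹ * (x' ^ k₂)⁻¹) * r₂⁻¹ := by
        rw [commutatorElement_def]
        have h1 : x' ^ k₁ * x' ^ k₂ = x' ^ k₂ * x' ^ k₁ := by rw [← zpow_add, ← zpow_add, add_comm]
        calc r₁ * x' ^ k₁ * (r₂ * x' ^ k₂) * (r₁ * x' ^ k₁)⁻¹ * (r₂ * x' ^ k₂)⁻¹
            = r₁ * (x' ^ k₁ * r₂ * (x' ^ k₁)⁻¹) * (x' ^ k₁ * x' ^ k₂) * (x' ^ k₁)⁻¹ * r₁⁻¹ * (x' ^ k₂)⁻¹ * r₂⁻¹ := by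
              group
          _ = _ := by rw [h1]; group
      rw [e]
      exact mul_mem (mul_mem (mul_mem hr₁ (hnorm _ (hzx' k₁) _ hr₂)) (hnorm _ (hzx' k₂) _ (inv_mem hr₁)))
        (inv_mem hr₂)
    have e1 : ∀ (j : ℤ) (y z : H), ⁅y * c ^ j, z⁆ = ⁅y, z⁆ := by
      intro j y z
      rw [commutatorElement_def, commutatorElement_def]
      calc y * c ^ j * z * (y * c ^ j)⁻¹ * z⁻¹ = y * (c ^ j * z) * (c ^ j)⁻¹ * y⁻¹ * z⁻¹ := by group
        _ = y * z * y⁻¹ * z⁻¹ := by rw [hcz j z]; group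
    have e2 : ∀ (j : ℤ) (y z : H), ⁅y, z * c ^ j⁆ = ⁅y, z⁆ := by
      intro j y z
      rw [← inv_inj, commutatorElement_inv, commutatorElement_inv, e1]
    obtain ⟨r₁, hr₁, k₁, j₁, h1⟩ := hel a a.2
    obtain ⟨r₂, hr₂, k₂, j₂, h2⟩ := hel b b.2
    have e3 : ((⁅a, b⁆ : K) : H) = ⁅(a : H), (b : H)⁆ := rfl
    rw [e3, h1, h2, e1, e2]
    exact main r₁ hr₁ r₂ hr₂ k₁ k₂
  exact false_of_commutator hp hr hne hcr hcen hgen (by rw [hKi]; exact hidx) hcK fun h => hcR0 (hcomm h)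

/-- The preimage of an abelian group with two generators, inverted and sheared by `w`, is abelian. -/
theorem comm_of_shear {r : ℕ} (hr2 : Odd r) {H P : Type*} [Group H] [Group P] {f : H →* P} {c : H}
    (hf : Function.Surjective f) (hcr : c ^ r = 1) (hcen : ∀ x, c * x = x * c)
    (hker : ∀ x, f x = 1 ↔ x ∈ zpowers c) {a b w : P} (hab : a * b = b * a) (hwa : w * a * w⁻¹ = a⁻¹)
    (hwb : w * b * w⁻¹ = a * b) {A : Subgroup P} (hA : ∀ x ∈ A, ∃ i j : ℤ, x = a ^ i * b ^ j) (x y : H)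
    (hx : f x ∈ A) (hy : f y ∈ A) : x * y = y * x := by
  obtain ⟨a', rfl⟩ := hf a
  obtain ⟨b', rfl⟩ := hf b
  obtain ⟨w', rfl⟩ := hf w
  have hcz : ∀ k : ℤ, ∀ x, c ^ k * x = x * c ^ k := fun k x => ((show Commute c x from hcen x).zpow_left k).eq
  have hlift : ∀ x y : H, f x = f y → ∃ k : ℤ, x = y * c ^ k := by
    intro x y hxy
    have h1 : f (y⁻¹ * x) = 1 := by rw [map_mul, map_inv, hxy, inv_mul_cancel]
    obtain ⟨k, hk⟩ := mem_zpowers_iff.1 ((hker _).1 h1)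
    exact ⟨k, by rw [hk]; group⟩
  obtain ⟨k, hk⟩ := hlift (a' * b') (b' * a') (by rw [map_mul, map_mul, hab])
  obtain ⟨i, hi⟩ := hlift (w' * a' * w'⁻¹) a'⁻¹ (by simpa using hwa)
  obtain ⟨j, hj⟩ := hlift (w' * b' * w'⁻¹) (a' * b') (by simpa using hwb)
  have h1 : w' * (a' * b') * w'⁻¹ = w' * (b' * a' * c ^ k) * w'⁻¹ := by rw [hk]
  have h2 : w' * (a' * b') * w'⁻¹ = (w' * a' * w'⁻¹) * (w' * b' * w'⁻¹) := by group
  have h3 : w' * (b' * a' * c ^ k) * w'⁻¹ = (w' * b' * w'⁻¹) * (w' * a' * w'⁻¹) * c ^ k := by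
    calc w' * (b' * a' * c ^ k) * w'⁻¹ = w' * b' * a' * (c ^ k * w'⁻¹) := by group
      _ = _ := by rw [hcz k]; group
  rw [h2, h3, hi, hj] at h1
  -- `a'⁻¹ c^i a' b' c^j = a' b' c^j a'⁻¹ c^i c^k`
  have h4 : a'⁻¹ * c ^ i * (a' * b' * c ^ j) = b' * c ^ (i + j) := by
    calc a'⁻¹ * c ^ i * (a' * b' * c ^ j) = a'⁻¹ * (c ^ i * (a' * b')) * c ^ j := by group
      _ = a'⁻¹ * ((a' * b') * c ^ i) * c ^ j := by rw [hcz i]
      _ = _ := by rw [zpow_add]; group
  have h5 : a' * b' * c ^ j * (a'⁻¹ * c ^ i) * c ^ k = b' * c ^ (i + j) * (c ^ k * c ^ k) := by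
    calc a' * b' * c ^ j * (a'⁻¹ * c ^ i) * c ^ k = a' * b' * (c ^ j * a'⁻¹) * c ^ i * c ^ k := by group
      _ = b' * a' * c ^ k * (a'⁻¹ * c ^ j) * c ^ i * c ^ k := by rw [hcz j, hk]
      _ = b' * a' * (c ^ k * (a'⁻¹ * c ^ j)) * c ^ i * c ^ k := by group
      _ = b' * a' * ((a'⁻¹ * c ^ j) * c ^ k) * c ^ i * c ^ k := by rw [hcz k]
      _ = b' * (c ^ j * (c ^ k * c ^ i) * c ^ k) := by group
      _ = _ := by rw [hcz k (c ^ i)]; rw [zpow_add]; group
  rw [h4, h5] at h1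
  have h6 : c ^ k * c ^ k = 1 := by
    have := h1.symm
    rwa [mul_eq_left] at this
  have h7 : c ^ k = 1 := by
    obtain ⟨m, hm⟩ := hr2
    have e1 : (c ^ k) ^ r = 1 := by
      rw [← zpow_natCast, ← zpow_mul, mul_comm, zpow_mul, zpow_natCast, hcr, one_zpow]
    rw [hm, pow_succ, pow_mul, pow_two, h6, one_pow, one_mul] at e1
    exact e1
  rw [h7, mul_one] at hk
  have hcomm : Commute a' b' := hk
  obtain ⟨i1, j1, e1⟩ := hA _ hx
  obtain ⟨i2, j2, e2⟩ := hA _ hy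
  obtain ⟨k1, hk1⟩ := hlift x (a' ^ i1 * b' ^ j1) (by rw [e1, map_mul, map_zpow, map_zpow])
  obtain ⟨k2, hk2⟩ := hlift y (a' ^ i2 * b' ^ j2) (by rw [e2, map_mul, map_zpow, map_zpow])
  have hc : ∀ (k : ℤ) (x : H), Commute (c ^ k) x := fun k x => hcz k x
  have c1 : Commute (a' ^ i1 * b' ^ j1) (a' ^ i2 * b' ^ j2) := by
    refine Commute.mul_left (Commute.mul_right ?_ ?_) (Commute.mul_right ?_ ?_)
    · exact (Commute.refl a').zpow_zpow _ _
    · exact hcomm.zpow_zpow _ _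
    · exact hcomm.symm.zpow_zpow _ _
    · exact (Commute.refl b').zpow_zpow _ _
  rw [hk1, hk2]
  exact (Commute.mul_left (Commute.mul_right c1 (hc k2 _).symm) (hc k1 _)).eq

/-- **Criterion with an abelian subgroup and an element acting on it with central fixed points.** -/
theorem NoCE.of_abelian {p r : ℕ} (hp : p.Prime) (hr : r.Prime) (hne : r ≠ p) {P : Type v} [Group P]
    {A N : Subgroup P} {s : P} (hs : ∀ x ∈ A, s * x * s⁻¹ ∈ A)
    (hN : ∀ x ∈ N, ∃ a ∈ A, ∃ i : ℕ, x = a * s ^ i) (hfix : ∀ x ∈ A, s * x = x * s → x ∈ center P)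
    (hidx : ¬ r ∣ N.index)
    (hcomm : ∀ (H : Type) [Group H] [Finite H] (f : H →* P) (c : H), Function.Surjective f →
      c ≠ 1 → c ^ r = 1 → (∀ x, c * x = x * c) → (∀ x, f x = 1 ↔ x ∈ zpowers c) → ∀ x y : H, f x ∈ A →
      f y ∈ A → x * y = y * x) : NoCE p r P := by
  intro H _ _ f c hf hc1 hcr hcen hker hgen
  have hab := hcomm H f c hf hc1 hcr hcen hker
  set A' : Subgroup H := A.comap f with hA'
  set K : Subgroup H := N.comap f with hK
  have hKi : K.index = N.index := N.index_comap_of_surjective hf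
  have hfc : f c = 1 := (hker c).2 (mem_zpowers c)
  have hcK : c ∈ K := by
    show f c ∈ N
    rw [hfc]; exact one_mem N
  have hcA : c ∈ A' := by
    show f c ∈ A
    rw [hfc]; exact one_mem A
  obtain ⟨s', hs'⟩ := hf s
  have hsA : ∀ x ∈ A', s' * x * s'⁻¹ ∈ A' := by
    intro x hx
    show f (s' * x * s'⁻¹) ∈ A
    rw [map_mul, map_mul, map_inv, hs']
    exact hs _ hx
  -- the commutators with `s'`
  let B : Subgroup H :=
    { carrier := {y | ∃ x ∈ A', y = x * (s' * x * s'⁻¹)⁻¹}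
      one_mem' := ⟨1, one_mem _, by group⟩
      mul_mem' := by
        rintro _ _ ⟨x, hx, rfl⟩ ⟨y, hy, rfl⟩
        refine ⟨x * y, mul_mem hx hy, ?_⟩
        have h1 : (s' * x * s'⁻¹)⁻¹ * (y * (s' * y * s'⁻¹)⁻¹) = (y * (s' * y * s'⁻¹)⁻¹) * (s' * x * s'⁻¹)⁻¹ :=
          hab _ _ (inv_mem (hsA x hx)) (mul_mem hy (inv_mem (hsA y hy)))
        calc x * (s' * x * s'⁻¹)⁻¹ * (y * (s' * y * s'⁻¹)⁻¹)
            = x * ((s' * x * s'⁻¹)⁻¹ * (y * (s' * y * s'⁻¹)⁻¹)) := by group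
          _ = _ := by rw [h1]; group
      inv_mem' := by
        rintro _ ⟨x, hx, rfl⟩
        refine ⟨x⁻¹, inv_mem hx, ?_⟩
        have h1 : x⁻¹ * (s' * x * s'⁻¹) = (s' * x * s'⁻¹) * x⁻¹ := hab _ _ (inv_mem hx) (hsA x hx)
        calc (x * (s' * x * s'⁻¹)⁻¹)⁻¹ = (s' * x * s'⁻¹) * x⁻¹ := by group
          _ = x⁻¹ * (s' * x * s'⁻¹) := h1.symm
          _ = _ := by group }
  have hpow : ∀ i : ℕ, ∀ x ∈ A', s' ^ i * x * (s' ^ i)⁻¹ ∈ A' ∧ x * (s' ^ i * x * (s' ^ i)⁻¹)⁻¹ ∈ B := by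
    intro i
    induction i with
    | zero =>
      intro x hx
      rw [pow_zero, one_mul, inv_one, mul_one, mul_inv_cancel]
      exact ⟨hx, one_mem _⟩
    | succ i ih =>
      intro x hx
      obtain ⟨h1, h2⟩ := ih x hx
      have e : s' ^ (i + 1) * x * (s' ^ (i + 1))⁻¹ = s' * (s' ^ i * x * (s' ^ i)⁻¹) * s'⁻¹ := by
        rw [pow_succ']; group
      rw [e]
      refine ⟨hsA _ h1, ?_⟩
      have h3 : (s' ^ i * x * (s' ^ i)⁻¹) * (s' * (s' ^ i * x * (s' ^ i)⁻¹) * s'⁻¹)⁻¹ ∈ B := ⟨_, h1, rfl⟩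
      have h4 := mul_mem h2 h3
      have e2 : x * (s' ^ i * x * (s' ^ i)⁻¹)⁻¹ * ((s' ^ i * x * (s' ^ i)⁻¹) *
          (s' * (s' ^ i * x * (s' ^ i)⁻¹) * s'⁻¹)⁻¹) = x * (s' * (s' ^ i * x * (s' ^ i)⁻¹) * s'⁻¹)⁻¹ := by group
      rwa [e2] at h4
  have hel : ∀ h ∈ K, ∃ x ∈ A', ∃ i : ℕ, h = x * s' ^ i := by
    intro h hh
    obtain ⟨a, ha, i, e⟩ := hN _ hh
    refine ⟨h * (s' ^ i)⁻¹, ?_, i, by group⟩
    show f (h * (s' ^ i)⁻¹) ∈ A
    rw [map_mul, map_inv, map_pow, hs', e]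
    have : a * s ^ i * (s ^ i)⁻¹ = a := by group
    rw [this]; exact ha
  have hcommK : commutator K ≤ B.subgroupOf K := by
    rw [commutator_eq_closure, closure_le]
    rintro _ ⟨a, b, rfl⟩
    show ⁅a, b⁆ ∈ B.subgroupOf K
    rw [mem_subgroupOf]
    obtain ⟨x, hx, i, h1⟩ := hel a a.2
    obtain ⟨y, hy, j, h2⟩ := hel b b.2
    have e3 : ((⁅a, b⁆ : K) : H) = ⁅(a : H), (b : H)⁆ := rfl
    rw [e3, h1, h2, commutatorElement_def]
    have hy1 := hpow i y hy
    have hx1 := hpow j x hx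
    have e4 : x * s' ^ i * (y * s' ^ j) * (x * s' ^ i)⁻¹ * (y * s' ^ j)⁻¹ =
        x * (s' ^ i * y * (s' ^ i)⁻¹) * (s' ^ j * x * (s' ^ j)⁻¹)⁻¹ * y⁻¹ := by
      have h5 : s' ^ i * s' ^ j = s' ^ j * s' ^ i := by rw [← pow_add, ← pow_add, add_comm]
      calc x * s' ^ i * (y * s' ^ j) * (x * s' ^ i)⁻¹ * (y * s' ^ j)⁻¹
          = x * (s' ^ i * y * (s' ^ i)⁻¹) * (s' ^ i * s' ^ j) * (s' ^ i)⁻¹ * x⁻¹ * (s' ^ j)⁻¹ * y⁻¹ := by group
        _ = _ := by rw [h5]; group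
    rw [e4]
    have e5 : (s' ^ i * y * (s' ^ i)⁻¹) * (s' ^ j * x * (s' ^ j)⁻¹)⁻¹ =
        (s' ^ j * x * (s' ^ j)⁻¹)⁻¹ * (s' ^ i * y * (s' ^ i)⁻¹) := hab _ _ hy1.1 (inv_mem hx1.1)
    have e6 : x * (s' ^ i * y * (s' ^ i)⁻¹) * (s' ^ j * x * (s' ^ j)⁻¹)⁻¹ * y⁻¹ =
        (x * (s' ^ j * x * (s' ^ j)⁻¹)⁻¹) * ((s' ^ i * y * (s' ^ i)⁻¹) * y⁻¹) := by
      calc x * (s' ^ i * y * (s' ^ i)⁻¹) * (s' ^ j * x * (s' ^ j)⁻¹)⁻¹ * y⁻¹
          = x * ((s' ^ i * y * (s' ^ i)⁻¹) * (s' ^ j * x * (s' ^ j)⁻¹)⁻¹) * y⁻¹ := by group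
        _ = _ := by rw [e5]; group
    rw [e6]
    refine mul_mem hx1.2 ?_
    have h6 := inv_mem hy1.2
    have e7 : (y * (s' ^ i * y * (s' ^ i)⁻¹)⁻¹)⁻¹ = (s' ^ i * y * (s' ^ i)⁻¹) * y⁻¹ := by group
    rwa [e7] at h6
  refine false_of_commutator hp hr hne hcr hcen hgen (by rw [hKi]; exact hidx) hcK fun h => ?_
  obtain ⟨x, hx, e⟩ : c ∈ B := hcommK h
  have h1 : c * (s' * x) = x * s' := by
    rw [e]
    have h2 : (s' * x * s'⁻¹)⁻¹ * (s' * x * s'⁻¹) = 1 := inv_mul_cancel _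
    calc x * (s' * x * s'⁻¹)⁻¹ * (s' * x) = x * ((s' * x * s'⁻¹)⁻¹ * (s' * x * s'⁻¹)) * s' := by group
      _ = _ := by rw [h2, mul_one]
  have h2 : s * f x = f x * s := by
    have := congrArg f h1
    rw [map_mul, hfc, one_mul, map_mul, map_mul, hs'] at this
    exact this
  have h3 := central_of_central hp hr hne hcr hcen hker hgen (hfix _ hx h2) s'
  rw [h3] at h1
  exact hc1 (mul_eq_right.1 h1)

end Cfsg.Agent.H61.CE
end

-- part: H61/UThreeCE
section
/-!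
# Cross characteristic: `SU_3(q)`

* `noCE_SU3` : `SU_3(q)` has no central extension by a group of prime order `r ≠ p` generated by `p`-elements
  (every `q`, `q = 2` included).
-/

set_option autoImplicit false
set_option linter.style.haveILetI false

namespace Cfsg.Agent.H61.UThreeCE

open Matrix Cfsg Cfsg.Agent.LieClassical.HermBasic Cfsg.Agent.Nodes.RGDTypeA Cfsg.Agent.KFacts.MulOdd.TypeA
  Cfsg.Agent.KFacts.MulOdd.Inst Cfsg.Agent.KFacts.MulOdd.UThree Cfsg.Agent.H67 Cfsg.Agent.H67.Cross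
  Cfsg.Agent.H61.CE
open Cfsg.Agent.ChevalleyStructure.SL2Hom (up lo mem_closure_SL2)
open Cfsg.Agent.TitsThree.KSideU (toLin toLin_injective)

variable {F : Type} [Field F] [Fintype F] {q : ℕ}

/-! ### Numbers -/

theorem card_eq (hF : Fintype.card F = q ^ 2) {s : ℕ} (hs : q = s + 1) :
    Nat.card (SU 3 F q) = (s + 1) ^ 3 * (s * (s + 2)) * ((s + 2) * (s ^ 2 + s + 1)) := by
  rw [card_SU hF, hs]
  have h1 : (s + 1) ^ 2 - 1 = s * (s + 2) := by
    rw [Nat.sub_eq_iff_eq_add (by nlinarith)]; ring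
  rw [h1]
  ring

theorem q_eq (hF : Fintype.card F = q ^ 2) : ∃ s, q = s + 1 ∧ 1 ≤ s := by
  have := two_le hF
  exact ⟨q - 1, by omega, by omega⟩

theorem p_dvd (hF : Fintype.card F = q ^ 2) {p : ℕ} (hp : p.Prime) [CharP F p] {r : ℕ} (hr : r.Prime)
    (h : r ∣ q) : r = p := by
  obtain ⟨p', k, hp', hch, hq, hk⟩ := exists_prime_pow hF
  have e : p = p' := CharP.eq F ‹_› hch
  subst e
  rw [hq] at h
  exact (Nat.prime_dvd_prime_iff_eq hr hp).1 (hr.dvd_of_dvd_pow h)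

/-! ### The Levi complement -/

/-- The diagonal element normalising `SU_2`. -/
theorem exists_x (hF : Fintype.card F = q ^ 2) : ∃ x : SU 3 F q, x ∈ AA F q ∧ x ^ (q + 1) = 1 ∧
    (∀ z : F, z * z ^ q = 1 → ∃ k : ℤ, (x ^ k).1.1 2 2 = z) ∧
    (∀ k : ℤ, x ^ k ∈ (jj F q).range → x ^ k = 1) := by
  obtain ⟨g, hg, hgen⟩ := exists_gen hF
  have hg0 : g ≠ 0 := by rintro rfl; rw [zero_mul] at hg; exact zero_ne_one hg
  have hp : ∏ i, (![g, 1, g⁻¹] : Fin 3 → F) i = 1 := by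
    rw [Fin.prod_univ_three]
    show g * 1 * g⁻¹ = 1
    rw [mul_one, mul_inv_cancel₀ hg0]
  have hn : ∀ i, (![g, 1, g⁻¹] : Fin 3 → F) i * (![g, 1, g⁻¹] : Fin 3 → F) i ^ q = 1 := by
    intro i
    fin_cases i
    · exact hg
    · show (1 : F) * 1 ^ q = 1
      rw [one_pow, one_mul]
    · show g⁻¹ * g⁻¹ ^ q = 1
      rw [inv_pow, ← mul_inv, hg, inv_one]
  have hx : dg _ hp hn ∈ AA F q := dg_mem _ hp hn
  have hx2 : (dg _ hp hn).1.1 2 2 = g⁻¹ := by
    show Matrix.diagonal (![g, 1, g⁻¹] : Fin 3 → F) 2 2 = g⁻¹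
    simp
  have hx1 : (dg _ hp hn).1.1 1 1 = 1 := by
    show Matrix.diagonal (![g, 1, g⁻¹] : Fin 3 → F) 1 1 = 1
    simp
  have hone : ∀ n : ℕ, (dg _ hp hn ^ n).1.1 1 1 = 1 := by
    intro n
    induction n with
    | zero => rw [pow_zero]; rfl
    | succ n ih => rw [pow_succ, mul_diag_apply hx, ih, hx1, one_mul]
  have honeZ : ∀ n : ℤ, (dg _ hp hn ^ n).1.1 1 1 = 1 := by
    rintro (n | n)
    · rw [Int.ofNat_eq_natCast, zpow_natCast]; exact hone n
    · rw [zpow_negSucc]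
      have h1 := mul_diag_apply (pow_mem hx (n + 1)) (dg _ hp hn ^ (n + 1))⁻¹ 1 1
      rw [inv_mul_cancel, hone, mul_one] at h1
      exact h1.symm
  have hext : ∀ y ∈ AA F q, y.1.1 1 1 = 1 → y.1.1 2 2 = 1 → y = 1 := by
    intro y hy h1 h2
    refine ext_diag hy (one_mem _) ?_ ?_
    · have h3 := prod_diag hy
      rw [h1, h2, mul_one, mul_one] at h3
      rw [h3]; rfl
    · rw [h1]; rfl
  refine ⟨dg _ hp hn, hx, ?_, ?_, ?_⟩
  · refine hext _ (pow_mem hx _) (hone _) ?_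
    have h1 := zpow_apply hx ((q + 1 : ℕ) : ℤ)
    rw [zpow_natCast, zpow_natCast, hx2] at h1
    rw [h1, inv_pow, pow_succ', hg, inv_one]
  · intro z hz
    obtain ⟨k, hk⟩ := hgen z hz
    refine ⟨-k, ?_⟩
    rw [zpow_apply hx, hx2, _root_.inv_zpow, _root_.zpow_neg, inv_inv, hk]
  · intro k hk
    exact hext _ (zpow_mem hx k) (honeZ k) (mem_range_jj.1 hk).2.2.2.2

theorem card_SU2 (hF : Fintype.card F = q ^ 2) : Nat.card (SU 2 F q) = q * (q ^ 2 - 1) := by
  have h := Cfsg.Agent.S0278.result (F := F) hF 2 (by norm_num)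
  rw [Finset.prod_range_succ, Finset.prod_range_one] at h
  norm_num [Nat.even_iff] at h
  refine Nat.eq_of_mul_eq_mul_left (show 0 < q + 1 by omega) ?_
  rw [h]; ring

theorem aa_le_normalizer {x : SU 3 F q} (hx : x ∈ AA F q) :
    x ∈ Subgroup.normalizer ((jj F q).range : Set (SU 3 F q)) := by
  have key : ∀ y ∈ AA F q, ∀ d ∈ (jj F q).range, y * d * y⁻¹ ∈ (jj F q).range := by
    intro y hy d hd'
    obtain ⟨h1, h2, h3, h4, h5⟩ := mem_range_jj.1 hd'
    have hyi := inv_mem hy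
    refine mem_range_jj.2 ⟨?_, ?_, ?_, ?_, ?_⟩
    · rw [mul_diag_apply hyi, diag_mul_apply hy, h1]; ring
    · rw [mul_diag_apply hyi, diag_mul_apply hy, h2]; ring
    · rw [mul_diag_apply hyi, diag_mul_apply hy, h3]; ring
    · rw [mul_diag_apply hyi, diag_mul_apply hy, h4]; ring
    · rw [mul_diag_apply hyi, diag_mul_apply hy, h5, mul_one, ← diag_mul_apply hy, mul_inv_cancel]; rfl
  rw [Subgroup.mem_normalizer_iff]
  intro d
  refine ⟨key x hx d, fun h => ?_⟩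
  have h1 := key _ (inv_mem hx) _ h
  have e : x⁻¹ * (x * d * x⁻¹) * x⁻¹⁻¹ = d := by group
  rwa [e] at h1

theorem card_sup (hF : Fintype.card F = q ^ 2) : ∃ x : SU 3 F q,
    x ∈ Subgroup.normalizer ((jj F q).range : Set (SU 3 F q)) ∧
    Nat.card ↥((jj F q).range ⊔ Subgroup.zpowers x) = q * (q ^ 2 - 1) * (q + 1) := by
  obtain ⟨x, hxA, hxq, hxs, hxR⟩ := exists_x hF
  have hxn := aa_le_normalizer hxA
  refine ⟨x, hxn, ?_⟩
  have hxz : Subgroup.zpowers x ≤ Subgroup.normalizer ((jj F q).range : Set (SU 3 F q)) :=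
    Subgroup.zpowers_le.2 hxn
  have hord : Nat.card (Subgroup.zpowers x) = q + 1 := by
    apply le_antisymm
    · rw [Nat.card_zpowers]
      exact Nat.le_of_dvd (Nat.succ_pos q) (orderOf_dvd_of_pow_eq_one hxq)
    · rw [← card_norm_eq_one hF]
      refine Nat.card_le_card_of_surjective (fun y : Subgroup.zpowers x =>
        (⟨y.1.1.1 2 2, ?_⟩ : {z : F // z * z ^ q = 1})) ?_
      · have h1 : (y : SU 3 F q) ∈ AA F q := (Subgroup.zpowers_le.2 hxA) y.2
        exact norm_diag hF h1 2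
      · rintro ⟨z, hz⟩
        obtain ⟨k, hk⟩ := hxs z hz
        exact ⟨⟨x ^ k, k, rfl⟩, Subtype.ext hk⟩
  have hR : Nat.card (jj F q).range = q * (q ^ 2 - 1) := by
    rw [← card_SU2 hF]
    exact (Nat.card_congr (MonoidHom.ofInjective jj_injective).toEquiv).symm
  rw [← hR, ← hord, ← Nat.card_prod]
  refine (Nat.card_congr (Equiv.ofBijective (fun y : (jj F q).range × Subgroup.zpowers x =>
    (⟨y.1 * y.2, mul_mem (Subgroup.mem_sup_left y.1.2) (Subgroup.mem_sup_right y.2.2)⟩ :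
      ↥((jj F q).range ⊔ Subgroup.zpowers x))) ⟨?_, ?_⟩)).symm
  · rintro ⟨⟨a, ha⟩, ⟨b, hb⟩⟩ ⟨⟨a', ha'⟩, ⟨b', hb'⟩⟩ h
    have h1 : a * b = a' * b' := congrArg Subtype.val h
    have h2 : a'⁻¹ * a = b' * b⁻¹ := by
      rw [inv_mul_eq_iff_eq_mul, ← mul_assoc, ← h1]; group
    obtain ⟨k, hk⟩ := mul_mem hb' (inv_mem hb)
    have h3 : b' * b⁻¹ = 1 := by
      have h4 := hxR k
      have hk' : x ^ k = b' * b⁻¹ := hk
      rw [hk'] at h4
      apply h4
      rw [← h2]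
      exact mul_mem (inv_mem ha') ha
    rw [h3] at h2
    have e1 : a = a' := (inv_mul_eq_one.1 h2).symm
    have e2 : b = b' := (mul_inv_eq_one.1 h3).symm
    subst e1 e2
    rfl
  · rintro ⟨y, hy⟩
    have h1 : y ∈ (((jj F q).range ⊔ Subgroup.zpowers x : Subgroup (SU 3 F q)) : Set (SU 3 F q)) := hy
    rw [Subgroup.coe_mul_of_right_le_normalizer_left _ _ hxz] at h1
    obtain ⟨g, hg, b, hb, e⟩ := h1
    exact ⟨⟨⟨g, hg⟩, ⟨b, hb⟩⟩, Subtype.ext e⟩

/-- The primes not dividing `q² - q + 1`. -/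
theorem caseA (hF : Fintype.card F = q ^ 2) {p r : ℕ} (hp : p.Prime) [CharP F p] (hr : r.Prime) (hne : r ≠ p)
    {s : ℕ} (hs : q = s + 1) (hrs : ¬ r ∣ s ^ 2 + s + 1) : NoCE p r (SU 3 F q) := by
  obtain ⟨x, hxn, hcard⟩ := card_sup hF
  obtain ⟨p', k, hp', hch, hqk, hk⟩ := exists_prime_pow hF
  have e : p = p' := CharP.eq F ‹_› hch
  subst e
  haveI : Fact p.Prime := ⟨hp⟩
  have hcardK : Nat.card (GaloisField p k) = q := by rw [GaloisField.card p k hk.ne', hqk]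
  haveI : Finite (GaloisField p k) := Nat.finite_of_card_ne_zero (by rw [hcardK]; exact (q_pos hF).ne')
  haveI := Fintype.ofFinite (GaloisField p k)
  obtain ⟨e⟩ := Cfsg.Agent.S0281.result (K := GaloisField p k) hF (by rw [← Nat.card_eq_fintype_card, hcardK])
  let φ : SpecialLinearGroup (Fin 2) (GaloisField p k) →* SU 3 F q := (jj F q).comp e.symm.toMonoidHom
  have hφr : φ.range = (jj F q).range := by
    rw [MonoidHom.range_comp, MonoidHom.range_eq_top.2 e.symm.surjective, ← MonoidHom.range_eq_map]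
  have hsl := H64.CrossChev.noCE_SL (F := GaloisField p k) hp hr hne
  refine NoCE.of_sl hp hr hne (R := (jj F q).range) (hsl.congr (e.symm.trans (MonoidHom.ofInjective jj_injective)))
    ?_ hxn ?_
  · rw [← hφr]
    rintro _ ⟨g, rfl⟩
    have hg := mem_closure_SL2 g
    induction hg using Subgroup.closure_induction with
    | mem y hy =>
      refine Subgroup.subset_closure ⟨⟨y, rfl⟩, 1, ?_⟩
      rw [pow_one, ← map_pow]
      have hup : ∀ (t : GaloisField p k) (n : ℕ), up t ^ n = up (n * t) := by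
        intro t n
        induction n with
        | zero =>
          rw [pow_zero, Nat.cast_zero, zero_mul]
          apply Subtype.ext
          show (1 : Matrix (Fin 2) (Fin 2) (GaloisField p k)) = !![1, 0; 0, 1]
          exact Matrix.one_fin_two
        | succ n ih =>
          rw [pow_succ, ih]
          apply Subtype.ext
          show !![1, (n : GaloisField p k) * t; 0, 1] * !![1, t; 0, 1] =
            (!![1, ((n + 1 : ℕ) : GaloisField p k) * t; 0, 1] : Matrix (Fin 2) (Fin 2) (GaloisField p k))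
          ext i j
          fin_cases i <;> fin_cases j <;> simp [Matrix.mul_apply, Fin.sum_univ_two]
          ring
      have hlo : ∀ (t : GaloisField p k) (n : ℕ), lo t ^ n = lo (n * t) := by
        intro t n
        induction n with
        | zero =>
          rw [pow_zero, Nat.cast_zero, zero_mul]
          apply Subtype.ext
          show (1 : Matrix (Fin 2) (Fin 2) (GaloisField p k)) = !![1, 0; 0, 1]
          exact Matrix.one_fin_two
        | succ n ih =>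
          rw [pow_succ, ih]
          apply Subtype.ext
          show !![1, 0; (n : GaloisField p k) * t, 1] * !![1, 0; t, 1] =
            (!![1, 0; ((n + 1 : ℕ) : GaloisField p k) * t, 1] : Matrix (Fin 2) (Fin 2) (GaloisField p k))
          ext i j
          fin_cases i <;> fin_cases j <;> simp [Matrix.mul_apply, Fin.sum_univ_two]
          ring
      have hup0 : up (0 : GaloisField p k) = 1 := by
        have := hup 0 0; rw [pow_zero, mul_zero] at this; exact this.symm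
      have hlo0 : lo (0 : GaloisField p k) = 1 := by
        have := hlo 0 0; rw [pow_zero, mul_zero] at this; exact this.symm
      rcases hy with ⟨t, rfl⟩ | ⟨t, rfl⟩
      · rw [hup, CharP.cast_eq_zero, zero_mul, hup0, map_one]
      · rw [hlo, CharP.cast_eq_zero, zero_mul, hlo0, map_one]
    | one => rw [map_one]; exact one_mem _
    | mul a b _ _ ha hb => rw [map_mul]; exact mul_mem ha hb
    | inv a _ ha => rw [map_inv]; exact inv_mem ha
  · have h1 := Subgroup.card_mul_index ((jj F q).range ⊔ Subgroup.zpowers x)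
    rw [hcard, card_eq hF hs] at h1
    have hs1 : 1 ≤ s := by obtain ⟨s', hs', h⟩ := q_eq hF; omega
    have h2 : q ^ 2 - 1 = s * (s + 2) := by
      rw [hs, Nat.sub_eq_iff_eq_add (by nlinarith)]; ring
    rw [h2] at h1
    generalize ((jj F q).range ⊔ Subgroup.zpowers x).index = i at h1 ⊢
    have h3 : i = (s + 1) ^ 2 * (s ^ 2 + s + 1) := by
      refine Nat.eq_of_mul_eq_mul_left (show 0 < (s + 1) * (s * (s + 2)) * (s + 1 + 1) by positivity) ?_
      rw [hs] at h1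
      rw [h1]
      ring
    rw [h3]
    intro h4
    rcases (Nat.Prime.dvd_mul hr).1 h4 with h5 | h5
    · exact hne (p_dvd hF hp hr (by rw [hs]; exact hr.dvd_of_dvd_pow h5))
    · exact hrs h5

/-! ### Cyclic Sylow subgroups -/

/-- An element of order a power of `r` with a fixed vector. -/
theorem eq_one_of_fix (hF : Fintype.card F = q ^ 2) {p r : ℕ} (hp : p.Prime) [CharP F p] (hr : r.Prime)
    (hne : r ≠ p) (h3 : r ≠ 3)
    {s : ℕ} (hs : q = s + 1) (hrs : r ∣ s ^ 2 + s + 1) {g : SU 3 F q} {k : ℕ} (hg : g ^ r ^ k = 1)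
    {v : Fin 3 → F} (hv : v ≠ 0) (hgv : toLin F q 3 g v = v) : g = 1 := by
  classical
  haveI : Fact r.Prime := ⟨hr⟩
  set γ := toLin F q 3 g with hγ
  have hγr : γ ^ r ^ k = 1 := by rw [hγ, ← map_pow, hg, map_one]
  let U : Submodule F (Fin 3 → F) := LinearMap.ker ((γ : (Fin 3 → F) →ₗ[F] (Fin 3 → F)) - 1)
  have hU : ∀ v, v ∈ U ↔ γ v = v := by
    intro v
    rw [LinearMap.mem_ker, LinearMap.sub_apply, sub_eq_zero]
    rfl
  haveI : Finite ((Fin 3 → F) ≃ₗ[F] (Fin 3 → F)) :=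
    Finite.of_injective (fun g : (Fin 3 → F) ≃ₗ[F] (Fin 3 → F) => (g : (Fin 3 → F) → (Fin 3 → F)))
      DFunLike.coe_injective
  have hpg : IsPGroup r (Subgroup.zpowers γ) := by
    rw [IsPGroup.iff_card]
    rw [Nat.card_zpowers]
    obtain ⟨j, -, hj⟩ := (Nat.dvd_prime_pow hr).1 (orderOf_dvd_of_pow_eq_one hγr)
    exact ⟨j, hj⟩
  have hmod := hpg.card_modEq_card_fixedPoints (Fin 3 → F)
  have hfix : Nat.card (MulAction.fixedPoints (Subgroup.zpowers γ) (Fin 3 → F)) = Nat.card U := by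
    refine Nat.card_congr (Equiv.subtypeEquivRight fun v => ?_)
    rw [hU]
    constructor
    · intro h
      exact h ⟨γ, Subgroup.mem_zpowers γ⟩
    · rintro h ⟨y, hy⟩
      have h1 : γ ∈ MulAction.stabilizer ((Fin 3 → F) ≃ₗ[F] (Fin 3 → F)) v := h
      exact (Subgroup.zpowers_le.2 h1) hy
  have hcU : Nat.card U = (q ^ 2) ^ Module.finrank F U := by
    rw [Module.natCard_eq_pow_finrank (K := F), Nat.card_eq_fintype_card, hF]
  have hcV : Nat.card (Fin 3 → F) = (q ^ 2) ^ 3 := by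
    rw [Nat.card_fun, Nat.card_eq_fintype_card, hF, Nat.card_fin]
  rw [hfix, hcU, hcV] at hmod
  have hle : Module.finrank F U ≤ 3 := by
    have := Submodule.finrank_le U
    rwa [Module.finrank_fin_fun] at this
  have hpos : 0 < Module.finrank F U := by
    rw [Module.finrank_pos_iff_exists_ne_zero]
    exact ⟨⟨v, (hU v).2 hgv⟩, fun h => hv (congrArg Subtype.val h)⟩
  -- `q ^ 3 ≡ -1`
  have hq0 : ((q : ℕ) : ZMod r) ≠ 0 := by
    intro h
    rw [ZMod.natCast_eq_zero_iff] at h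
    exact hne (p_dvd hF hp hr h)
  have hq1 : ((q : ℕ) : ZMod r) ^ 2 - q + 1 = 0 := by
    have h1 : ((s ^ 2 + s + 1 : ℕ) : ZMod r) = 0 := (ZMod.natCast_eq_zero_iff _ _).2 hrs
    rw [hs]
    push_cast at h1 ⊢
    linear_combination h1
  have h30 : (3 : ZMod r) ≠ 0 := by
    intro h
    have h1 : ((3 : ℕ) : ZMod r) = 0 := by exact_mod_cast h
    rw [ZMod.natCast_eq_zero_iff] at h1
    exact h3 ((Nat.prime_dvd_prime_iff_eq hr Nat.prime_three).1 h1)
  have hmod' : (((q : ℕ) : ZMod r) ^ 2) ^ 3 = (((q : ℕ) : ZMod r) ^ 2) ^ Module.finrank F U := by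
    have := (ZMod.natCast_eq_natCast_iff _ _ _).2 hmod
    push_cast at this
    exact this
  have h6 : ((q : ℕ) : ZMod r) ^ 3 = -1 := by linear_combination ((q : ZMod r) + 1) * hq1
  have hd : Module.finrank F U = 3 := by
    by_contra hd
    have h7 : ((q : ℕ) : ZMod r) + 1 = 0 := by
      have h8 : Module.finrank F U = 1 ∨ Module.finrank F U = 2 := by omega
      rcases h8 with h8 | h8
      · rw [h8] at hmod'
        -- `q^6 = q^2`, `q^6 = 1`
        have h9 : ((q : ℕ) : ZMod r) ^ 2 = 1 := by linear_combination -hmod' + (((q : ℕ) : ZMod r) ^ 3 - 1) * h6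
        -- `q^3 = q = -1`
        linear_combination h6 - (q : ZMod r) * h9
      · rw [h8] at hmod'
        have h9 : ((q : ℕ) : ZMod r) ^ 4 = 1 := by linear_combination -hmod' + (((q : ℕ) : ZMod r) ^ 3 - 1) * h6
        -- `q^4 = -q`
        have h10 : -((q : ℕ) : ZMod r) = 1 := by linear_combination h9 - (q : ZMod r) * h6
        linear_combination -h10
    have h8 : (3 : ZMod r) = 0 := by linear_combination hq1 - ((q : ZMod r) - 2) * h7
    exact h30 h8
  have htop : U = ⊤ := Submodule.eq_top_of_finrank_eq (by rw [hd, Module.finrank_fin_fun])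
  apply toLin_injective
  rw [map_one]
  ext1 w
  show γ w = w
  rw [← hU, htop]
  trivial

theorem caseB (hF : Fintype.card F = q ^ 2) {p r : ℕ} (hp : p.Prime) [CharP F p] (hr : r.Prime) (hne : r ≠ p)
    (h3 : r ≠ 3) {s : ℕ} (hs : q = s + 1) (hrs : r ∣ s ^ 2 + s + 1) : NoCE p r (SU 3 F q) := by
  haveI : Fact r.Prime := ⟨hr⟩
  refine NoCE.of_cyclic_sylow hp hr hne fun S => ?_
  have hr2 : r ≠ 2 := by
    rintro rfl
    have h1 : s ^ 2 + s + 1 = s * (s + 1) + 1 := by ring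
    have h2 := Nat.even_mul_succ_self s
    rw [h1] at hrs
    obtain ⟨a, ha⟩ := h2
    omega
  let φ : S →* MulAut (Multiplicative (Fin 3 → F)) :=
    { toFun := fun g => AddEquiv.toMultiplicative (toLin F q 3 g).toAddEquiv
      map_one' := by
        refine MulEquiv.ext fun v => ?_
        show Multiplicative.ofAdd (toLin F q 3 1 (Multiplicative.toAdd v)) = v
        rw [map_one]; rfl
      map_mul' := by
        intro a b
        refine MulEquiv.ext fun v => ?_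
        show Multiplicative.ofAdd (toLin F q 3 (a * b) (Multiplicative.toAdd v)) = _
        rw [map_mul]; rfl }
  have hφ : ∀ g : S, g ≠ 1 → ∀ v, φ g v = v → v = 1 := by
    intro g hg v hv
    by_contra hv1
    obtain ⟨k, hk⟩ := S.isPGroup' g
    apply hg
    apply Subtype.ext
    exact eq_one_of_fix hF hp hr hne h3 hs hrs (k := k) (congrArg Subtype.val hk)
      (v := Multiplicative.toAdd v) hv1 hv
  have htop : ¬ r ∣ (⊤ : Subgroup S).index := by
    rw [Subgroup.index_top]; exact hr.one_lt.ne' ∘ Nat.dvd_one.1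
  let T : Sylow r S := (S.isPGroup'.to_subgroup ⊤).toSylow htop
  rcases Cfsg.Agent.PermutationGroups.ZassReduction.sylow_cyclic_or_quaternion φ hφ r T with h | ⟨h, -⟩
  · have hT : IsCyclic (⊤ : Subgroup S) := h
    exact (isCyclic_of_surjective (Subgroup.topEquiv : (⊤ : Subgroup S) ≃* S) Subgroup.topEquiv.surjective)
  · exact absurd h hr2

/-! ### The prime 3 -/

/-- the permutation matrix of order 3 -/
def sg (hF : Fintype.card F = q ^ 2) : SU 3 F q :=
  ⟨⟨!![0, 0, 1; 1, 0, 0; 0, 1, 0], by simp [Matrix.det_fin_three]⟩, by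
    have hz := zero_pow_q hF
    refine (mem_SU_iff _).2 fun u v => ?_
    rw [herm_def, herm_def]
    simp only [Matrix.mulVec, dotProduct, Fin.sum_univ_three]
    simp
    ring⟩

theorem sg_val (hF : Fintype.card F = q ^ 2) : (sg hF).1.1 = !![0, 0, 1; 1, 0, 0; 0, 1, 0] := rfl

/-- the cycle -/
def rho : Equiv.Perm (Fin 3) := finRotate 3

theorem rho_pow : rho ^ 3 = 1 := by decide

theorem mono_sg (hF : Fintype.card F = q ^ 2) : Mono rho (sg hF).1 := by
  intro a b hab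
  rw [sg_val] at hab
  fin_cases a <;> fin_cases b <;> first | rfl | (exfalso; apply hab; simp)

theorem sg_cube (hF : Fintype.card F = q ^ 2) : sg hF ^ 3 = 1 := by
  apply Subtype.ext
  apply Subtype.ext
  show (!![0, 0, 1; 1, 0, 0; 0, 1, 0] : Matrix (Fin 3) (Fin 3) F) ^ 3 = 1
  rw [pow_succ, pow_two]
  ext i j
  fin_cases i <;> fin_cases j <;> simp [Matrix.mul_apply, Fin.sum_univ_three]

/-- the monomial matrices over the alternating group -/
def NN3 (F : Type) [Field F] [Fintype F] (q : ℕ) : Subgroup (SU 3 F q) where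
  carrier := {g | ∃ i : ℕ, Mono (rho ^ i) g.1}
  one_mem' := ⟨0, mono_one⟩
  mul_mem' := by
    rintro a b ⟨i, hi⟩ ⟨j, hj⟩
    exact ⟨i + j, by rw [pow_add]; exact hi.mul hj⟩
  inv_mem' := by
    rintro a ⟨i, hi⟩
    refine ⟨2 * i, ?_⟩
    have h1 := Mono.inv hi
    have h2 : (rho ^ i)⁻¹ = rho ^ (2 * i) := by
      rw [inv_eq_iff_mul_eq_one, ← pow_add, show i + 2 * i = 3 * i by ring, pow_mul, rho_pow, one_pow]
    rwa [h2] at h1

theorem mem_NN3 {g : SU 3 F q} : g ∈ NN3 F q ↔ ∃ i : ℕ, Mono (rho ^ i) g.1 := Iff.rfl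

theorem mono_sg_pow (hF : Fintype.card F = q ^ 2) (i : ℕ) : Mono (rho ^ i) (sg hF ^ i).1 := (mono_sg hF).pow i

theorem exists_of_mem_NN3 (hF : Fintype.card F = q ^ 2) {g : SU 3 F q} (hg : g ∈ NN3 F q) :
    ∃ a ∈ AA F q, ∃ i : ℕ, g = a * sg hF ^ i := by
  obtain ⟨i, hi⟩ := hg
  refine ⟨g * (sg hF ^ i)⁻¹, ?_, i, by group⟩
  have h1 := hi.mul (Mono.inv (mono_sg_pow hF i))
  rwa [mul_inv_cancel] at h1

theorem card_NN3 (hF : Fintype.card F = q ^ 2) : Nat.card (NN3 F q) = (q + 1) * (q + 1) * 3 := by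
  have h3 : (q + 1) * (q + 1) * 3 = Nat.card (AA F q × Fin 3) := by
    rw [Nat.card_prod, card_AA hF, Nat.card_fin]
  rw [h3]
  have hmem : ∀ y : AA F q × Fin 3, (y.1 : SU 3 F q) * sg hF ^ (y.2 : ℕ) ∈ NN3 F q := by
    rintro ⟨⟨a, ha⟩, i⟩
    refine ⟨i, ?_⟩
    have h1 := (mem_AA.1 ha).mul (mono_sg_pow hF i)
    rwa [one_mul] at h1
  refine (Nat.card_congr (Equiv.ofBijective (fun y : AA F q × Fin 3 =>
    (⟨(y.1 : SU 3 F q) * sg hF ^ (y.2 : ℕ), hmem y⟩ : NN3 F q)) ⟨?_, ?_⟩)).symm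
  · rintro ⟨⟨a, ha⟩, i⟩ ⟨⟨b, hb⟩, j⟩ h
    have h1 : a * sg hF ^ (i : ℕ) = b * sg hF ^ (j : ℕ) := congrArg Subtype.val h
    have m1 : Mono (rho ^ (i : ℕ)) (a * sg hF ^ (i : ℕ)).1 := by
      have := (mem_AA.1 ha).mul (mono_sg_pow hF i)
      rwa [one_mul] at this
    have m2 : Mono (rho ^ (j : ℕ)) (b * sg hF ^ (j : ℕ)).1 := by
      have := (mem_AA.1 hb).mul (mono_sg_pow hF j)
      rwa [one_mul] at this
    rw [← h1] at m2
    have h2 : (rho ^ (i : ℕ)) 0 = (rho ^ (j : ℕ)) 0 := by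
      have h3 := Mono.apply_ne_zero m1 0
      exact m2 _ _ h3
    have hdec : ∀ i j : Fin 3, (rho ^ (i : ℕ)) 0 = (rho ^ (j : ℕ)) 0 → i = j := by decide
    have hij : i = j := hdec i j h2
    subst hij
    have h4 : a = b := mul_right_cancel h1
    subst h4
    rfl
  · rintro ⟨g, hg⟩
    obtain ⟨a, ha, i, e⟩ := exists_of_mem_NN3 hF hg
    refine ⟨⟨⟨a, ha⟩, ⟨i % 3, Nat.mod_lt _ (by norm_num)⟩⟩, Subtype.ext ?_⟩
    show a * sg hF ^ (i % 3) = g
    rw [e]
    congr 1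
    conv_rhs => rw [← Nat.div_add_mod i 3, pow_add, pow_mul, sg_cube, one_pow, one_mul]

theorem sg_fix (hF : Fintype.card F = q ^ 2) {x : SU 3 F q} (hx : x ∈ AA F q) (h : sg hF * x = x * sg hF) :
    x ∈ Subgroup.center (SU 3 F q) := by
  have h1 : x.1.1 0 0 = x.1.1 1 1 := by
    have e := congrArg (fun z : SU 3 F q => z.1.1 1 0) h
    simp only [mul_diag_apply hx, diag_mul_apply hx, sg_val] at e
    simpa using e
  have h2 : x.1.1 1 1 = x.1.1 2 2 := by
    have e := congrArg (fun z : SU 3 F q => z.1.1 2 1) h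
    simp only [mul_diag_apply hx, diag_mul_apply hx, sg_val] at e
    simpa using e
  rw [Subgroup.mem_center_iff]
  intro g
  apply Subtype.ext
  apply Subtype.ext
  ext i j
  rw [mul_diag_apply hx, diag_mul_apply hx]
  have h3 : ∀ i, x.1.1 i i = x.1.1 0 0 := by
    intro i
    fin_cases i
    · rfl
    · exact h1.symm
    · exact (h1.trans h2).symm
  rw [h3 i, h3 j, mul_comm]

theorem caseC (hF : Fintype.card F = q ^ 2) {p : ℕ} (hp : p.Prime) (hne : 3 ≠ p) (h3 : 3 ∣ q + 1) :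
    NoCE p 3 (SU 3 F q) := by
  refine NoCE.of_abelian hp Nat.prime_three hne (A := AA F q) (N := NN3 F q) (s := sg hF) ?_
    (fun x hx => exists_of_mem_NN3 hF hx) (fun x hx h => sg_fix hF hx h.symm.symm) ?_ ?_
  · intro x hx
    have h1 := ((mono_sg hF).mul (mem_AA.1 hx)).mul (Mono.inv (mono_sg hF))
    rwa [mul_one, mul_inv_cancel] at h1
  · obtain ⟨s, hs, hs1⟩ := q_eq hF
    have h1 := Subgroup.card_mul_index (NN3 F q)
    rw [card_NN3 hF, card_eq hF hs] at h1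
    generalize (NN3 F q).index = i at h1 ⊢
    have h2 : 3 * i = (s + 1) ^ 3 * s * (s ^ 2 + s + 1) := by
      refine Nat.eq_of_mul_eq_mul_left (show 0 < (s + 2) * (s + 2) by positivity) ?_
      have h4 : (s + 2) * (s + 2) * (3 * i) = (q + 1) * (q + 1) * 3 * i := by rw [hs]; ring
      rw [h4, h1]
      ring
    rintro ⟨j, rfl⟩
    obtain ⟨m, hm⟩ : ∃ m, s = 3 * m + 1 := ⟨s / 3, by omega⟩
    subst hm
    have h5 : (3 * m + 1) ^ 2 + (3 * m + 1) + 1 = 3 * (3 * m ^ 2 + 3 * m + 1) := by ring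
    have h6 : 3 * j = (3 * m + 1 + 1) ^ 3 * (3 * m + 1) * (3 * m ^ 2 + 3 * m + 1) := by
      refine Nat.eq_of_mul_eq_mul_left (show 0 < 3 by norm_num) ?_
      rw [h2, h5]; ring
    have h7 : 3 ∣ (3 * m + 1 + 1) ^ 3 * (3 * m + 1) * (3 * m ^ 2 + 3 * m + 1) := ⟨j, h6.symm⟩
    rcases (Nat.Prime.dvd_mul Nat.prime_three).1 h7 with h8 | h8
    · rcases (Nat.Prime.dvd_mul Nat.prime_three).1 h8 with h9 | h9
      · have := Nat.prime_three.dvd_of_dvd_pow h9
        omega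
      · omega
    · have : 3 * m ^ 2 + 3 * m + 1 = 3 * (m ^ 2 + m) + 1 := by ring
      omega
  · intro H _ _ f c hf hc1 hcr hcen hker x y hx hy
    obtain ⟨g, hg, hgen⟩ := exists_gen hF
    have hg0 : g ≠ 0 := by rintro rfl; rw [zero_mul] at hg; exact zero_ne_one hg
    have hgi : g⁻¹ * g⁻¹ ^ q = 1 := by rw [inv_pow, ← mul_inv, hg, inv_one]
    have ha1 : ∏ i, (![g, g⁻¹, 1] : Fin 3 → F) i = 1 := by
      rw [Fin.prod_univ_three]
      show g * g⁻¹ * 1 = 1
      rw [mul_one, mul_inv_cancel₀ hg0]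
    have ha2 : ∀ i, (![g, g⁻¹, 1] : Fin 3 → F) i * (![g, g⁻¹, 1] : Fin 3 → F) i ^ q = 1 := by
      intro i
      fin_cases i
      · exact hg
      · exact hgi
      · show (1 : F) * 1 ^ q = 1
        rw [one_pow, one_mul]
    have hb1 : ∏ i, (![1, g, g⁻¹] : Fin 3 → F) i = 1 := by
      rw [Fin.prod_univ_three]
      show 1 * g * g⁻¹ = 1
      rw [one_mul, mul_inv_cancel₀ hg0]
    have hb2 : ∀ i, (![1, g, g⁻¹] : Fin 3 → F) i * (![1, g, g⁻¹] : Fin 3 → F) i ^ q = 1 := by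
      intro i
      fin_cases i
      · show (1 : F) * 1 ^ q = 1
        rw [one_pow, one_mul]
      · exact hg
      · exact hgi
    set a : SU 3 F q := dg _ ha1 ha2 with ha
    set b : SU 3 F q := dg _ hb1 hb2 with hb
    have haA : a ∈ AA F q := dg_mem _ ha1 ha2
    have hbA : b ∈ AA F q := dg_mem _ hb1 hb2
    have a00 : a.1.1 0 0 = g := by show Matrix.diagonal (![g, g⁻¹, 1] : Fin 3 → F) 0 0 = g; simp
    have a11 : a.1.1 1 1 = g⁻¹ := by show Matrix.diagonal (![g, g⁻¹, 1] : Fin 3 → F) 1 1 = _; simp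
    have a22 : a.1.1 2 2 = 1 := by show Matrix.diagonal (![g, g⁻¹, 1] : Fin 3 → F) 2 2 = _; simp
    have b00 : b.1.1 0 0 = 1 := by show Matrix.diagonal (![1, g, g⁻¹] : Fin 3 → F) 0 0 = _; simp
    have b11 : b.1.1 1 1 = g := by show Matrix.diagonal (![1, g, g⁻¹] : Fin 3 → F) 1 1 = _; simp
    have b22 : b.1.1 2 2 = g⁻¹ := by show Matrix.diagonal (![1, g, g⁻¹] : Fin 3 → F) 2 2 = _; simp
    have hcomm : ∀ {u v : SU 3 F q}, u ∈ AA F q → v ∈ AA F q → u * v = v * u := by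
      intro u v hu hv
      refine ext_diag (mul_mem hu hv) (mul_mem hv hu) ?_ ?_
      · rw [diag_mul_apply hu, diag_mul_apply hv, mul_comm]
      · rw [diag_mul_apply hu, diag_mul_apply hv, mul_comm]
    set w : SU 3 F q := jj F q (w2 hF) with hw
    have hwv : w.1.1 = !![0, 1, 0; -1, 0, 0; 0, 0, 1] := w_val hF
    refine comm_of_shear (r := 3) (by decide) hf hcr hcen hker (a := a) (b := b) (w := w)
      (hcomm haA hbA) ?_ ?_ (A := AA F q) ?_ x y hx hy
    · -- `w a w⁻¹ = a⁻¹`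
      rw [mul_inv_eq_iff_eq_mul, eq_inv_mul_iff_mul_eq]
      apply Subtype.ext
      apply Subtype.ext
      ext i j
      rw [diag_mul_apply haA, mul_diag_apply haA, hwv]
      fin_cases i <;> fin_cases j <;> simp [a00, a11, a22, hg0]
    · rw [mul_inv_eq_iff_eq_mul]
      apply Subtype.ext
      apply Subtype.ext
      ext i j
      rw [diag_mul_apply (mul_mem haA hbA), mul_diag_apply hbA, hwv, diag_mul_apply haA]
      fin_cases i <;> fin_cases j <;> simp [a00, a11, a22, b00, b11, b22, hg0]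
    · intro z hz
      obtain ⟨i, hi⟩ := hgen _ (norm_diag hF hz 0)
      obtain ⟨j, hj⟩ := hgen _ (norm_diag hF hz 1)
      have zp : ∀ {u : SU 3 F q}, u ∈ AA F q → ∀ (m : Fin 3) (k : ℤ), (u ^ k).1.1 m m = u.1.1 m m ^ k := by
        intro u hu m k
        have hn : ∀ n : ℕ, (u ^ n).1.1 m m = u.1.1 m m ^ n := by
          intro n
          induction n with
          | zero => rw [pow_zero, pow_zero]; exact Matrix.one_apply_eq m
          | succ n ih => rw [pow_succ, mul_diag_apply hu, ih, pow_succ]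
        rcases k with n | n
        · rw [Int.ofNat_eq_natCast, zpow_natCast, zpow_natCast, hn]
        · rw [zpow_negSucc, zpow_negSucc, ← hn]
          have h1 := mul_diag_apply (pow_mem hu (n + 1)) (u ^ (n + 1))⁻¹ m m
          rw [inv_mul_cancel] at h1
          have h2 : (1 : SU 3 F q).1.1 m m = 1 := Matrix.one_apply_eq m
          exact eq_inv_of_mul_eq_one_left (h1.symm.trans h2)
      refine ⟨i, i + j, ext_diag hz (mul_mem (zpow_mem haA _) (zpow_mem hbA _)) ?_ ?_⟩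
      · rw [diag_mul_apply (zpow_mem haA _), zp haA, zp hbA, a00, b00, hi, _root_.one_zpow, mul_one]
      · rw [diag_mul_apply (zpow_mem haA _), zp haA, zp hbA, a11, b11, hj, _root_.inv_zpow, zpow_add₀ hg0]
        field_simp

/-- **`SU_3(q)` in cross characteristic.** -/
theorem noCE_SU3 (hF : Fintype.card F = q ^ 2) {p r : ℕ} (hp : p.Prime) [CharP F p] (hr : r.Prime) (hne : r ≠ p) :
    NoCE p r (SU 3 F q) := by
  obtain ⟨s, hs, -⟩ := q_eq hF
  by_cases h1 : r ∣ s ^ 2 + s + 1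
  · by_cases h3 : r = 3
    · subst h3
      refine caseC hF hp hne ?_
      have h4 : s % 3 = 1 := by
        have h5 : s % 3 = 0 ∨ s % 3 = 1 ∨ s % 3 = 2 := by omega
        obtain ⟨m, hm⟩ : ∃ m, s = 3 * m + s % 3 := ⟨s / 3, by omega⟩
        rcases h5 with h5 | h5 | h5
        · rw [h5] at hm
          rw [hm] at h1
          have e : (3 * m + 0) ^ 2 + (3 * m + 0) + 1 = 3 * (3 * m ^ 2 + m) + 1 := by ring
          omega
        · exact h5
        · rw [h5] at hm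
          rw [hm] at h1
          have e : (3 * m + 2) ^ 2 + (3 * m + 2) + 1 = 3 * (3 * m ^ 2 + 5 * m + 2) + 1 := by ring
          omega
      omega
    · exact caseB hF hp hr hne h3 hs h1
  · exact caseA hF hp hr hne hs h1

end Cfsg.Agent.H61.UThreeCE
end
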