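import Mathlib
import Cfsg.Agent.Prune
set_option linter.all false
prune_inst 0x7f00000000000000000000000000000000000000000000000000000000000000000000000000000000000000000000000000000000000000000000000000000000000000000000000000000000000000003fffffffffffffffffffffffffffbeffbdffffffff
open scoped Cfsg.Agent.FastGrp

/-!
# Gluing automorphisms of subspaces (helper61)

* `exists_det` : an automorphism trivial on a proper subspace with prescribed determinant;
* `exists_glue` : an automorphism of `W`, trivial on `W ⊓ W'`, extends to an automorphism of `V` trivial on `W'`;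
  the determinant can be made `1` if `W ⊔ W' ≠ ⊤` (`exists_glue_det`), and is that of the given automorphism if
  `W ⊔ W' = ⊤` (`det_glue`);
* `exists_map_det` : `SL(V)` is transitive on the proper subspaces of a given dimension.
-/

set_option autoImplicit false

namespace Cfsg.Agent.H61.GowGlue

open Module

universe u v

variable {K : Type u} [Field K] {V : Type v} [AddCommGroup V] [Module K V] [FiniteDimensional K V]

/-- the dilation `x ↦ x + (c - 1) f x • v`, `f v = 1` -/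
theorem exists_dil (f : Dual K V) (v : V) (hf : f v = 1) (c : Kˣ) :
    ∃ d : V ≃ₗ[K] V, LinearEquiv.det d = c ∧ (∀ x, d x = x + (f x * (c - 1)) • v) := by
  have h1 : 1 + f (((c : K) - 1) • v) = c := by
    rw [map_smul, hf, smul_eq_mul, mul_one]; ring
  have hu : IsUnit (1 + f (((c : K) - 1) • v)) := by rw [h1]; exact c.isUnit
  refine ⟨LinearEquiv.dilatransvection hu, ?_, fun x => ?_⟩
  · apply Units.ext
    rw [LinearEquiv.coe_det, LinearEquiv.dilatransvection.coe_toLinearMap, LinearMap.transvection.det, h1]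
  · rw [LinearEquiv.dilatransvection.apply, smul_smul]

theorem exists_det (W : Submodule K V) (hW : W ≠ ⊤) (c : Kˣ) :
    ∃ d : V ≃ₗ[K] V, LinearEquiv.det d = c ∧ ∀ w ∈ W, d w = w := by
  obtain ⟨f, hf0, hf⟩ := Submodule.exists_le_ker_of_lt_top W (lt_top_iff_ne_top.2 hW)
  obtain ⟨v, hv⟩ : ∃ v, f v ≠ 0 := by
    by_contra h
    push Not at h
    exact hf0 (LinearMap.ext h)
  obtain ⟨d, hd, hd'⟩ := exists_dil f ((f v)⁻¹ • v) (by rw [map_smul, smul_eq_mul, inv_mul_cancel₀ hv]) c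
  refine ⟨d, hd, fun w hw => ?_⟩
  rw [hd', show f w = 0 from hf hw, zero_mul, zero_smul, add_zero]

/-- **Gluing** -/
theorem exists_glue (W W' : Submodule K V) (u : W ≃ₗ[K] W) (hu : ∀ w : W, (w : V) ∈ W' → u w = w) :
    ∃ e : V ≃ₗ[K] V, (∀ w : W, e w = u w) ∧ ∀ w' ∈ W', e w' = w' := by
  obtain ⟨P', hP'⟩ := exists_isCompl (W'.comap W.subtype)
  let P : Submodule K V := P'.map W.subtype
  have hPW : P ≤ W := by
    rintro _ ⟨x, -, rfl⟩
    exact x.2
  have hdis : Disjoint W' P := by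
    rw [Submodule.disjoint_def]
    rintro _ hx ⟨y, hy, rfl⟩
    have h1 : y ∈ W'.comap W.subtype ⊓ P' := ⟨hx, hy⟩
    rw [hP'.inf_eq_bot, Submodule.mem_bot] at h1
    rw [h1, map_zero]
  obtain ⟨W'', hW'', hc⟩ := hdis.exists_isCompl
  let π : V →ₗ[K] P := P.projectionOnto W'' hc.symm
  have hπ0 : ∀ x ∈ W'', π x = 0 := fun x hx => by
    change P.projectionOnto W'' hc.symm x = 0
    exact Submodule.projectionOnto_apply_right hc.symm ⟨x, hx⟩
  have hπ1 : ∀ x : P, π x = x := fun x => Submodule.projectionOnto_apply_left hc.symm x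
  let e₀ : V →ₗ[K] V := LinearMap.id + (W.subtype ∘ₗ ((u : W →ₗ[K] W) - LinearMap.id)) ∘ₗ (Submodule.inclusion hPW) ∘ₗ π
  have he0 : ∀ x, e₀ x = x + ((u (Submodule.inclusion hPW (π x)) : V) - (π x : V)) := fun x => by
    change x + (((u (Submodule.inclusion hPW (π x)) - (Submodule.inclusion hPW (π x)) : W)) : V) = _
    rfl
  have hW' : ∀ w' ∈ W', e₀ w' = w' := by
    intro w hw
    rw [he0, hπ0 w (hW'' hw), map_zero, map_zero]
    simp
  have hW : ∀ w : W, e₀ w = u w := by
    intro w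
    have h1 : w ∈ W'.comap W.subtype ⊔ P' := by rw [hP'.sup_eq_top]; trivial
    obtain ⟨d, hd, p, hp, rfl⟩ := Submodule.mem_sup.1 h1
    have hd2 : e₀ (d : V) = d := hW' _ hd
    have hpP : (p : V) ∈ P := ⟨p, hp, rfl⟩
    have hp2 : e₀ (p : V) = u p := by
      have h2 : π (p : V) = ⟨p, hpP⟩ := hπ1 ⟨p, hpP⟩
      rw [he0, h2]
      change (p : V) + ((u p : V) - (p : V)) = _
      abel
    rw [Submodule.coe_add, map_add, map_add, hd2, hp2, hu d hd]
    rfl
  have hinj : Function.Injective e₀ := by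
    rw [← LinearMap.ker_eq_bot, Submodule.eq_bot_iff]
    intro x hx
    rw [LinearMap.mem_ker] at hx
    have hxW : x ∈ W := by
      have h2 := he0 x
      rw [hx] at h2
      have h3 : x = (π x : V) - (u (Submodule.inclusion hPW (π x)) : V) := by
        exact (eq_neg_of_add_eq_zero_left h2.symm).trans (neg_sub _ _)
      rw [h3]
      exact W.sub_mem (hPW (π x).2) (u _).2
    have h2 := hW ⟨x, hxW⟩
    rw [show e₀ ((⟨x, hxW⟩ : W) : V) = 0 from hx] at h2
    have h3 : u ⟨x, hxW⟩ = 0 := Subtype.ext h2.symm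
    rw [LinearEquiv.map_eq_zero_iff] at h3
    exact congrArg Subtype.val h3
  exact ⟨LinearEquiv.ofInjectiveEndo e₀ hinj, hW, hW'⟩

/-- **Gluing with determinant one** -/
theorem exists_glue_det (W W' : Submodule K V) (hWW : W ⊔ W' ≠ ⊤) (u : W ≃ₗ[K] W)
    (hu : ∀ w : W, (w : V) ∈ W' → u w = w) :
    ∃ e : V ≃ₗ[K] V, LinearEquiv.det e = 1 ∧ (∀ w : W, e w = u w) ∧ ∀ w' ∈ W', e w' = w' := by
  obtain ⟨e, he1, he2⟩ := exists_glue W W' u hu
  obtain ⟨d, hd1, hd2⟩ := exists_det (W ⊔ W') hWW (LinearEquiv.det e)⁻¹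
  refine ⟨e * d, ?_, fun w => ?_, fun w hw => ?_⟩
  · rw [map_mul, hd1, mul_inv_cancel]
  · rw [LinearEquiv.mul_apply, hd2 _ (Submodule.mem_sup_left w.2), he1]
  · rw [LinearEquiv.mul_apply, hd2 _ (Submodule.mem_sup_right hw), he2 w hw]

theorem exists_ext_det (W : Submodule K V) (hW : W ≠ ⊤) (u : W ≃ₗ[K] W) :
    ∃ e : V ≃ₗ[K] V, LinearEquiv.det e = 1 ∧ ∀ w : W, e w = u w := by
  obtain ⟨e, h1, h2, -⟩ := exists_glue_det W ⊥ (by rwa [sup_bot_eq]) u (fun w hw => by
    rw [Submodule.mem_bot] at hw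
    have : w = 0 := Subtype.ext hw
    rw [this, map_zero])
  exact ⟨e, h1, h2⟩

/-- **The determinant of a glued automorphism** -/
theorem det_glue (W W' : Submodule K V) (hWW : W ⊔ W' = ⊤) (u : W ≃ₗ[K] W) (e : V ≃ₗ[K] V)
    (h1 : ∀ w : W, e w = u w) (h2 : ∀ w' ∈ W', e w' = w') : LinearEquiv.det e = LinearEquiv.det u := by
  have hle : W ≤ W.comap (e : V →ₗ[K] V) := fun w hw => by
    change e w ∈ W
    rw [h1 ⟨w, hw⟩]
    exact (u _).2
  have h3 := LinearMap.det_eq_det_mul_det W (e : V →ₗ[K] V) hle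
  apply Units.ext
  rw [LinearEquiv.coe_det, LinearEquiv.coe_det, h3]
  have e1 : (e : V →ₗ[K] V).restrict hle = (u : W →ₗ[K] W) := by
    ext w
    exact h1 w
  have e2 : W.mapQ W (e : V →ₗ[K] V) hle = LinearMap.id := by
    ext x
    have hx : x ∈ W ⊔ W' := by rw [hWW]; trivial
    obtain ⟨a, ha, b, hb, rfl⟩ := Submodule.mem_sup.1 hx
    rw [LinearMap.comp_apply, LinearMap.comp_apply, Submodule.mkQ_apply, Submodule.mapQ_apply, LinearMap.id_apply,
      Submodule.Quotient.eq]
    change e (a + b) - (a + b) ∈ W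
    rw [map_add, h2 b hb, add_sub_add_right_eq_sub, h1 ⟨a, ha⟩]
    exact W.sub_mem (u _).2 ha
  rw [e1, e2, LinearMap.det_id, mul_one]

/-- **Transitivity on subspaces** -/
theorem exists_map (W W' : Submodule K V) (h : finrank K W = finrank K W') :
    ∃ e : V ≃ₗ[K] V, W.map (e : V →ₗ[K] V) = W' := by
  obtain ⟨C, hC⟩ := exists_isCompl W
  obtain ⟨C', hC'⟩ := exists_isCompl W'
  have h1 := Submodule.finrank_add_eq_of_isCompl hC
  have h2 := Submodule.finrank_add_eq_of_isCompl hC'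
  obtain ⟨a⟩ := FiniteDimensional.nonempty_linearEquiv_of_finrank_eq h
  obtain ⟨b⟩ := FiniteDimensional.nonempty_linearEquiv_of_finrank_eq (show finrank K C = finrank K C' by omega)
  refine ⟨((Submodule.prodEquivOfIsCompl W C hC).symm.trans (a.prodCongr b)).trans
    (Submodule.prodEquivOfIsCompl W' C' hC'), ?_⟩
  apply Submodule.eq_of_le_of_finrank_eq
  · rintro _ ⟨w, hw, rfl⟩
    have e1 : (Submodule.prodEquivOfIsCompl W C hC).symm w = (⟨w, hw⟩, 0) := by
      rw [LinearEquiv.symm_apply_eq]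
      simp
    change Submodule.prodEquivOfIsCompl W' C' hC' ((a.prodCongr b) ((Submodule.prodEquivOfIsCompl W C hC).symm w)) ∈ W'
    rw [e1]
    simp
  · rw [LinearEquiv.finrank_map_eq, h]

theorem exists_map_det (W W' : Submodule K V) (h : finrank K W = finrank K W') (hW : W ≠ ⊤) :
    ∃ e : V ≃ₗ[K] V, LinearEquiv.det e = 1 ∧ W.map (e : V →ₗ[K] V) = W' := by
  obtain ⟨e, he⟩ := exists_map W W' h
  obtain ⟨d, hd1, hd2⟩ := exists_det W hW (LinearEquiv.det e)⁻¹
  refine ⟨e * d, ?_, ?_⟩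
  · rw [map_mul, hd1, mul_inv_cancel]
  · rw [← he]
    ext x
    constructor
    · rintro ⟨w, hw, rfl⟩
      refine ⟨w, hw, ?_⟩
      change e w = e (d w)
      rw [hd2 w hw]
    · rintro ⟨w, hw, rfl⟩
      refine ⟨w, hw, ?_⟩
      change e (d w) = e w
      rw [hd2 w hw]

end Cfsg.Agent.H61.GowGlue
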