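import Cfsg.Agent.H921.SporCo
import Cfsg.Agent.H921.SporMore_m3
import Cfsg.Agent.H175.BdSp_m3
import Cfsg.Agent.H921.SporJ1
import Cfsg.Agent.H921.SporSuz
import Cfsg.Agent.FastGrp
import Cfsg.Agent.Prune
set_option linter.all false
open scoped Cfsg.Agent.FastGrp

/-!
# Frobenius groups `r : e` in sporadic groups (helper61)

`Fb r e X`: `X` contains elements `a`, `x` of orders `r` and `e` such that `x` acts on `⟨a⟩` as an automorphism of
order `e`.
-/

set_option autoImplicit false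
set_option maxRecDepth 100000

namespace Cfsg.Agent.H61.SpAlt

open Cfsg Cfsg.Agent.H921.Spor

universe v w

/-- `X` contains a Frobenius group `r : e`, `r` prime -/
def Fb (r e : ℕ) (X : Type v) [Group X] : Prop :=
  ∃ (a x : X) (k : ℕ), orderOf a = r ∧ orderOf x = e ∧ x * a * x⁻¹ = a ^ k ∧
    ∀ i < e, 0 < i → k ^ i % r ≠ 1 % r

theorem Fb.map {r e : ℕ} {X : Type v} {Y : Type w} [Group X] [Group Y] (h : Fb r e X) (f : X →* Y)
    (hf : Function.Injective f) : Fb r e Y := by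
  obtain ⟨a, x, k, ha, hx, hc, hk⟩ := h
  refine ⟨f a, f x, k, by rw [orderOf_injective f hf, ha], by rw [orderOf_injective f hf, hx], ?_, hk⟩
  rw [← map_inv, ← map_mul, ← map_mul, hc, map_pow]

theorem Fb.congr {r e : ℕ} {X : Type v} {Y : Type w} [Group X] [Group Y] (h : Fb r e X) (f : X ≃* Y) : Fb r e Y :=
  h.map f.toMonoidHom f.injective

theorem Fb.of_le {r e : ℕ} {G : Type*} [Group G] {H K : Subgroup G} (h : Fb r e H) (hle : H ≤ K) : Fb r e K :=
  h.map _ (Subgroup.inclusion_injective hle)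

theorem conj_pow_pow {X : Type*} [Group X] {a x : X} {k : ℕ} (h : x * a * x⁻¹ = a ^ k) (i : ℕ) :
    x ^ i * a * (x ^ i)⁻¹ = a ^ k ^ i := by
  induction i with
  | zero => simp
  | succ i ih =>
    have h1 : x ^ (i + 1) * a * (x ^ (i + 1))⁻¹ = x * (x ^ i * a * (x ^ i)⁻¹) * x⁻¹ := by
      rw [pow_succ', mul_inv_rev]
      group
    rw [h1, ih, ← conj_pow, h, ← pow_mul, pow_succ']

theorem Fb.mk' {X : Type v} [Group X] {r e k : ℕ} {a x : X} (hr : r.Prime) (he : 0 < e) (ha : a ^ r = 1) (ha1 : a ≠ 1)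
    (hx : x ^ e = 1) (hc : x * a * x⁻¹ = a ^ k) (hk : ∀ i < e, 0 < i → k ^ i % r ≠ 1 % r) : Fb r e X := by
  have := Fact.mk hr
  have hoa : orderOf a = r := orderOf_eq_prime ha ha1
  refine ⟨a, x, k, hoa, ?_, hc, hk⟩
  have h1 : orderOf x ∣ e := orderOf_dvd_of_pow_eq_one hx
  have h2 : orderOf x ≤ e := Nat.le_of_dvd he h1
  have h3 : 0 < orderOf x := Nat.pos_of_dvd_of_pos h1 he
  by_contra hne
  refine hk (orderOf x) (by omega) h3 ?_
  have h4 := conj_pow_pow hc (orderOf x)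
  rw [pow_orderOf_eq_one, one_mul, inv_one, mul_one] at h4
  have h5 : a ^ k ^ orderOf x = a ^ 1 := by rw [← h4, pow_one]
  rw [pow_eq_pow_iff_modEq, hoa] at h5
  exact h5

/-- smaller complements -/
theorem Fb.pow {X : Type v} [Group X] {r e d : ℕ} (he : 0 < e) (hd : 0 < d) (h : Fb r (e * d) X) : Fb r e X := by
  obtain ⟨a, x, k, ha, hx, hc, hk⟩ := h
  refine ⟨a, x ^ d, k ^ d, ha, ?_, conj_pow_pow hc d, ?_⟩
  · rw [orderOf_pow_of_dvd hd.ne' (by rw [hx]; exact Dvd.intro_left _ rfl), hx, Nat.mul_div_cancel _ hd]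
  · intro i hi hi0
    rw [← pow_mul]
    refine hk (d * i) ?_ (Nat.mul_pos hd hi0)
    rw [mul_comm e d]
    exact (Nat.mul_lt_mul_left hd).2 hi

/-- the checks for words -/
def chkF (eq : List ℕ → List ℕ → Bool) (ne : List ℕ → Bool) (r e k : ℕ) (u v : List ℕ) : Bool :=
  eq (Wd.rep u r) [] && ne u && eq (v ++ u) (Wd.rep u k ++ v) && eq (Wd.rep v e) []

theorem fb_of_wd {T : Type v} [Group T] (w : Wd T) {r e k : ℕ} (u v : List ℕ) (hr : r.Prime) (he : 0 < e)
    (h : chkF w.eq w.ne r e k u v = true) (hk : ∀ i < e, 0 < i → k ^ i % r ≠ 1 % r) : Fb r e T := by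
  unfold chkF at h
  simp only [Bool.and_eq_true] at h
  obtain ⟨⟨⟨h1, h2⟩, h3⟩, h4⟩ := h
  refine Fb.mk' hr he (a := w.W u) (x := w.W v) ?_ (w.ne_sound h2) ?_ (k := k) ?_ hk
  · rw [← w.W_rep, w.eq_sound h1, w.nil]
  · rw [← w.W_rep, w.eq_sound h4, w.nil]
  · rw [mul_inv_eq_iff_eq_mul, ← w.app, w.eq_sound h3, w.app, w.W_rep]

/-! ### The words -/

theorem fb_Suz : Fb 11 10 Cfsg.Spor.Suz :=
  fb_of_wd Suz.wd (r := 11) (k := 2) [0] [2] (by norm_num) (by norm_num) (by decide +kernel) (by decide)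

theorem fb_He : Fb 17 8 Cfsg.Spor.He :=
  fb_of_wd He.wd (r := 17) (k := 9) [1, 2, 3, 5]
    [1, 0, 3, 5, 2, 3, 4, 3, 5, 1, 2, 5, 6, 3, 5, 0, 4, 3, 2, 5, 6, 1, 0, 3, 6, 2, 3, 2, 3, 2, 6, 3, 5, 1, 2, 3, 6, 2,
    3, 2, 6, 3, 2, 0, 2, 3, 1, 2, 3, 4, 1, 2, 1, 3, 2, 3, 4, 2, 0, 1, 2, 3, 2, 1, 0, 3, 2, 3]
    (by norm_num) (by norm_num) (by decide +kernel) (by decide)

theorem fb_J3_nineteen {F : Type} [Field F] [Fintype F] {ω : F} (hF : Fintype.card F = 4)
    (H : Cfsg.Agent.J3.Core.Good ω) : Fb 19 9 (Cfsg.Spor.J3 F ω) := by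
  obtain ⟨G⟩ := Cfsg.Agent.J3.Elts.exists_gens hF H
  have h : chkF J3.eqs J3.nes 19 9 4 [4, 8, 12] [9, 6, 2, 4, 12, 8, 12, 2, 6, 0, 12, 7, 0, 3, 1, 12, 4] = true := by
    decide +kernel
  exact fb_of_wd (J3.wd hF H G) _ _ (by norm_num) (by norm_num) h (by decide)

theorem fb_J3_seventeen {F : Type} [Field F] [Fintype F] {ω : F} (hF : Fintype.card F = 4)
    (H : Cfsg.Agent.J3.Core.Good ω) : Fb 17 8 (Cfsg.Spor.J3 F ω) := by
  obtain ⟨G⟩ := Cfsg.Agent.J3.Elts.exists_gens hF H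
  have h : chkF J3.eqs J3.nes 17 8 9 [8, 12]
      [12, 6, 10, 9, 12, 6, 1, 3, 8, 12, 1, 6, 12, 10, 3, 10, 1, 12, 0, 3, 12, 7, 12, 6, 0, 12, 7, 3, 12] = true := by
    decide +kernel
  exact fb_of_wd (J3.wd hF H G) _ _ (by norm_num) (by norm_num) h (by decide)

/-! ### `J1` -/

section JOne

open Cfsg.Agent.SporadicB.J1.Mat Cfsg.Agent.SporadicB.J1.Data Cfsg.Agent.SporadicB.J1.Main

theorem fb_J1_of_check {p e α : ℕ} (hp : p.Prime) (he : 0 < e) (w v : List Nat)
    (hx : powC (evC w) p cI = cI) (hx1 : diffC (evC w) cI = true) (hv : powC (evC v) e cI = cI)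
    (hα : mulC (evC v) (evC w) = mulC (powC (evC w) α cI) (evC v))
    (hk : ∀ i < e, 0 < i → α ^ i % p ≠ 1 % p) : Fb p e Cfsg.Spor.J1 := by
  refine Fb.mk' hp he (a := ev w) (x := ev v) (((rep_ev w).pow p).eq Rep.one hx)
    ((rep_ev w).ne Rep.one hx1) (((rep_ev v).pow e).eq Rep.one hv) (k := α) ?_ hk
  have h1 : ev v * ev w = ev w ^ α * ev v := ((rep_ev v).mul (rep_ev w)).eq (((rep_ev w).pow α).mul (rep_ev v)) hα
  rw [h1, mul_inv_cancel_right]

theorem fb_J1 : Fb 19 6 Cfsg.Spor.J1 :=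
  fb_J1_of_check (by norm_num) (by norm_num) [3, 0] [0, 1, 0, 1, 1, 2, 3, 3, 2, 3, 0, 3, 2] (α := 8) (by decide +kernel)
    (by decide +kernel) (by decide +kernel) (by decide +kernel) (by decide)

end JOne

/-! ### The Mathieu groups -/

section Mathieu

open Cfsg.Agent.SporadicA.GolayBase Cfsg.Agent.SporadicA.GolayPerm Cfsg.Agent.SporadicStructure.M24El
open Cfsg.Agent.H921.Spor.M24

/-- the checks for packed permutations -/
def chkM (r e k X A : ℕ) : Bool :=
  ok X && ok A && Nat.beq (ppow X r) idP && ((List.range 24).any fun i => !Nat.beq (papp X i) i) &&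
  Nat.beq (pcomp A X) (pcomp (ppow X k) A) && Nat.beq (ppow A e) idP

theorem fb_of_chkM {r e k X A : ℕ} (hr : r.Prime) (he : 0 < e) (h : chkM r e k X A = true)
    (hk : ∀ i < e, 0 < i → k ^ i % r ≠ 1 % r) {K : Subgroup (Equiv.Perm GolayPt)}
    (hXK : (el X : Equiv.Perm GolayPt) ∈ K) (hAK : (el A : Equiv.Perm GolayPt) ∈ K) : Fb r e K := by
  unfold chkM at h
  simp only [Bool.and_eq_true] at h
  obtain ⟨⟨⟨⟨⟨hX, hA⟩, hXr⟩, hX1⟩, hc⟩, hAe⟩ := h
  have hXr' : el X ^ r = 1 := by rw [← el_ppow hX, Nat.eq_of_beq_eq_true hXr, el_idP]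
  have hAe' : el A ^ e = 1 := by rw [← el_ppow hA, Nat.eq_of_beq_eq_true hAe, el_idP]
  have hX1' : el X ≠ 1 := by
    rw [List.any_eq_true] at hX1
    obtain ⟨i, hi, h1⟩ := hX1
    refine el_ne_one hX (List.mem_range.1 hi) ?_
    intro h2
    rw [h2] at h1
    simp at h1
  have hc' : el A * el X = el X ^ k * el A := by
    rw [← el_pcomp hA hX, Nat.eq_of_beq_eq_true hc, el_pcomp (ok_ppow hX k) hA, el_ppow hX]
  refine Fb.mk' hr he (a := (⟨_, hXK⟩ : K)) (x := (⟨_, hAK⟩ : K)) (k := k) ?_ ?_ ?_ ?_ hk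
  · apply Subtype.ext
    have := congrArg (fun z : M24 => (z : Equiv.Perm GolayPt)) hXr'
    simpa using this
  · intro h0
    apply hX1'
    apply Subtype.ext
    exact congrArg (fun z : K => (z : Equiv.Perm GolayPt)) h0
  · apply Subtype.ext
    have := congrArg (fun z : M24 => (z : Equiv.Perm GolayPt)) hAe'
    simpa using this
  · rw [mul_inv_eq_iff_eq_mul]
    apply Subtype.ext
    have := congrArg (fun z : M24 => (z : Equiv.Perm GolayPt)) hc'
    simpa using this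

theorem fb_M11_eleven : Fb 11 5 Cfsg.Spor.M11 :=
  fb_of_chkM (X := 221539224934219212257031234801320352) (A := 482463145814578371037647286143366240) (k := 3)
    (by norm_num) (by norm_num) (by decide +kernel) (by decide) (mem_M11 (by decide +kernel))
    (mem_M11 (by decide +kernel))

theorem fb_M11_five : Fb 5 4 Cfsg.Spor.M11 :=
  fb_of_chkM (X := 321056211833753938169171953528737056) (A := 879751195998581591598133589983924256) (k := 2)
    (by norm_num) (by norm_num) (by decide +kernel) (by decide) (mem_M11 (by decide +kernel))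
    (mem_M11 (by decide +kernel))

theorem fb_M22_eleven : Fb 11 5 Cfsg.Spor.M22 :=
  fb_of_chkM (X := 983220875880356000483982095899367776) (A := 971586097767224052852166069785921568) (k := 3)
    (by norm_num) (by norm_num) (by decide +kernel) (by decide) (mem_M22 (by decide +kernel))
    (mem_M22 (by decide +kernel))

theorem fb_M22_five : Fb 5 4 Cfsg.Spor.M22 :=
  fb_of_chkM (X := 970005348254152877516597543475170336) (A := 962297760236121545398375556909217152) (k := 2)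
    (by norm_num) (by norm_num) (by decide +kernel) (by decide) (mem_M22 (by decide +kernel))
    (mem_M22 (by decide +kernel))

theorem fb_M12_eleven : Fb 11 5 Cfsg.Spor.M12 := fb_M11_eleven.of_le M11_le
theorem fb_M12_five : Fb 5 4 Cfsg.Spor.M12 := fb_M11_five.of_le M11_le

theorem fb_HS_eleven : Fb 11 5 Cfsg.Spor.HS := by
  obtain ⟨f, hf⟩ := Cfsg.Agent.H921.Spor.Co.exists_HS
  exact fb_M22_eleven.map f hf

theorem fb_HS_five : Fb 5 4 Cfsg.Spor.HS := by
  obtain ⟨f, hf⟩ := Cfsg.Agent.H921.Spor.Co.exists_HS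
  exact fb_M22_five.map f hf

theorem fb_McL_eleven : Fb 11 5 Cfsg.Spor.McL := by
  obtain ⟨f, hf⟩ := Cfsg.Agent.H921.Spor.Co.exists_McL
  exact fb_M22_eleven.map f hf

theorem fb_McL_five : Fb 5 4 Cfsg.Spor.McL := by
  obtain ⟨f, hf⟩ := Cfsg.Agent.H921.Spor.Co.exists_McL
  exact fb_M22_five.map f hf

end Mathieu

end Cfsg.Agent.H61.SpAlt
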