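import Cfsg.Agent.H998.SpSmallF
import Cfsg.Agent.S0577
import Cfsg.Agent.H380.AltSpecTen
import Cfsg.Agent.H402.LwU43_m3
import Cfsg.Agent.H61.SpAltFb
import Cfsg.Agent.H946.RadD4_m3
import Cfsg.Agent.CpAutLy.Row
import Cfsg.Agent.H379.J2Spec
import Cfsg.Agent.H904.HSIso
import Cfsg.Agent.H904.McLCent
import Cfsg.Agent.H805.NilSuz
import Cfsg.Agent.Fischer.Fi22PtsRep
import Cfsg.Agent.HN.A12Group
import Cfsg.Agent.J2.HundredGens
import Cfsg.Agent.S1619
import Cfsg.Agent.CpAutTThree.JTwo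
import Cfsg.Agent.J2.HundredFast
import Cfsg.Agent.Lib.Cores
import Cfsg.Agent.SporadicRecognition.SuzOrder
import Cfsg.Agent.Lib.PermNetFix
import Cfsg.Agent.Lib.PermNetFast
import Cfsg.Agent.FastGrp
import Cfsg.Agent.Prune
set_option linter.all false

-- part: H998/SpAlt/Act
section
prune_inst 0x7f00000000000000000000000000000000000000000000000000000000000000000000000000000000000000000000000000000000000000000000000000000000000000000000000000000000000000003fffffffffffffffffffffffffffbeffbdffffffff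
set_option linter.all false
open scoped Cfsg.Agent.FastGrp

/-!
# The action on a normal abelian `s`-subgroup, norms (helper998, for S3666)
-/

set_option autoImplicit false

namespace Cfsg.Agent.H998.SpAlt

open Subgroup

universe u v

/-- the conjugation action on an abelian normal subgroup, written additively -/
theorem exists_act {G : Type u} [Group G] (V : Subgroup G) [V.Normal] (hc : ∀ a ∈ V, ∀ b ∈ V, a * b = b * a) :
    ∃ (A : Type u) (_ : AddCommGroup A) (ρ : G →* AddMonoid.End A) (ι : A → G), Function.Injective ι ∧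
      (∀ a, ι a ∈ V) ∧ (∀ v ∈ V, ∃ a, ι a = v) ∧ (∀ a b, ι (a + b) = ι a * ι b) ∧
      ∀ g a, ι (ρ g a) = g * ι a * g⁻¹ := by
  let _i : CommGroup ↥V := { (inferInstance : Group ↥V) with
    mul_comm := fun a b => Subtype.ext (hc a a.2 b b.2) }
  let ρ : G →* AddMonoid.End (Additive ↥V) :=
    { toFun := fun g => (MulAut.conjNormal g : ↥V ≃* ↥V).toMonoidHom.toAdditive
      map_one' := by
        ext a
        rw [map_one]
        rfl
      map_mul' := fun g h => by
        ext a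
        rw [map_mul]
        rfl }
  refine ⟨Additive ↥V, inferInstance, ρ, fun a => ((Additive.toMul a : ↥V) : G), ?_, ?_, ?_, ?_, ?_⟩
  · intro a b h
    exact Additive.toMul.injective (Subtype.ext h)
  · intro a
    exact (Additive.toMul a).2
  · intro v hv
    exact ⟨Additive.ofMul ⟨v, hv⟩, rfl⟩
  · intro a b
    rfl
  · intro g a
    rfl

section Ring

variable {R : Type*} [Ring R] {G : Type*} [Group G] (ρ : G →* R)

/-- the norm element -/
def nm (g : G) (m : ℕ) : R := ∑ i ∈ Finset.range m, ρ g ^ i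

/-- **Frobenius groups and norms.** -/
theorem frob_norm {T : Subgroup G} [Fintype T] {x : G} {m : ℕ} (hm : 1 ≤ m) (hn : ∀ a ∈ T, x * a * x⁻¹ ∈ T)
    (hfpf : ∀ i, 0 < i → i < m → ∀ a ∈ T, x ^ i * a * (x ^ i)⁻¹ = a → a = 1) (h0 : nm ρ x m = 0) :
    ∑ a : T, ρ (a : G) = (Fintype.card T : R) := by
  have hpow : ∀ i : ℕ, ∀ a ∈ T, x ^ i * a * (x ^ i)⁻¹ ∈ T := by
    intro i
    induction i with
    | zero => intro a ha; simpa using ha
    | succ i ih =>
      intro a ha
      have e : x ^ (i + 1) * a * (x ^ (i + 1))⁻¹ = x * (x ^ i * a * (x ^ i)⁻¹) * x⁻¹ := by rw [pow_succ']; group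
      rw [e]
      exact hn _ (ih a ha)
  -- for `0 < i < m` the map `a ↦ a x^i a⁻¹ x^-i` is a bijection
  have key : ∀ i, 0 < i → i < m → ∑ a : T, ρ (a : G) * ρ x ^ i * ρ ((a : G)⁻¹) = (∑ a : T, ρ (a : G)) * ρ x ^ i := by
    intro i hi him
    let φ : T → T := fun a => a * ⟨x ^ i * (a : G)⁻¹ * (x ^ i)⁻¹, hpow i _ (T.inv_mem a.2)⟩
    have hφ : Function.Injective φ := by
      intro a b hab
      have h1 : (a : G) * (x ^ i * (a : G)⁻¹ * (x ^ i)⁻¹) = (b : G) * (x ^ i * (b : G)⁻¹ * (x ^ i)⁻¹) :=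
        congrArg Subtype.val hab
      have h2 : x ^ i * ((b : G)⁻¹ * a) * (x ^ i)⁻¹ = (b : G)⁻¹ * a := by
        have h3 : (b : G)⁻¹ * ((a : G) * (x ^ i * (a : G)⁻¹ * (x ^ i)⁻¹)) * (x ^ i * (a : G) * (x ^ i)⁻¹) =
            (b : G)⁻¹ * ((b : G) * (x ^ i * (b : G)⁻¹ * (x ^ i)⁻¹)) * (x ^ i * (a : G) * (x ^ i)⁻¹) := by rw [h1]
        calc x ^ i * ((b : G)⁻¹ * a) * (x ^ i)⁻¹ =
            (b : G)⁻¹ * ((b : G) * (x ^ i * (b : G)⁻¹ * (x ^ i)⁻¹)) * (x ^ i * (a : G) * (x ^ i)⁻¹) := by group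
          _ = (b : G)⁻¹ * ((a : G) * (x ^ i * (a : G)⁻¹ * (x ^ i)⁻¹)) * (x ^ i * (a : G) * (x ^ i)⁻¹) := h3.symm
          _ = (b : G)⁻¹ * a := by group
      have h4 := hfpf i hi him _ (T.mul_mem (T.inv_mem b.2) a.2) h2
      exact Subtype.ext (inv_mul_eq_one.1 h4).symm
    have hbij : Function.Bijective φ := Finite.injective_iff_bijective.1 hφ
    rw [Finset.sum_mul]
    rw [← Function.Bijective.sum_comp hbij (fun b : T => ρ (b : G) * ρ x ^ i)]
    refine Finset.sum_congr rfl fun a _ => ?_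
    show ρ (a : G) * ρ x ^ i * ρ ((a : G)⁻¹) = ρ ((a : G) * (x ^ i * (a : G)⁻¹ * (x ^ i)⁻¹)) * ρ x ^ i
    rw [← map_pow, ← map_mul, ← map_mul, ← map_mul]
    congr 1
    group
  have h1 : ∑ a : T, ρ (a : G) * nm ρ x m * ρ ((a : G)⁻¹) = 0 := by
    rw [h0]
    simp
  have h2 : ∑ a : T, ρ (a : G) * nm ρ x m * ρ ((a : G)⁻¹) =
      (Fintype.card T : R) + ∑ i ∈ Finset.Ico 1 m, (∑ a : T, ρ (a : G)) * ρ x ^ i := by
    unfold nm
    simp_rw [Finset.mul_sum, Finset.sum_mul]
    rw [Finset.sum_comm, Finset.range_eq_Ico, Finset.sum_eq_sum_Ico_succ_bot (by omega)]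
    congr 1
    · have : ∀ a : T, ρ (a : G) * ρ x ^ 0 * ρ ((a : G)⁻¹) = 1 := fun a => by
        rw [pow_zero, mul_one, ← map_mul, mul_inv_cancel, map_one]
      rw [Finset.sum_congr rfl fun a _ => this a, Finset.sum_const, Finset.card_univ, nsmul_one]
    · refine Finset.sum_congr rfl fun i hi => ?_
      rw [Finset.mem_Ico] at hi
      rw [key i (by omega) hi.2, Finset.sum_mul]
  have h3 : ∑ i ∈ Finset.Ico 1 m, (∑ a : T, ρ (a : G)) * ρ x ^ i = - ∑ a : T, ρ (a : G) := by
    rw [← Finset.mul_sum]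
    have h4 : ∑ i ∈ Finset.Ico 1 m, ρ x ^ i = -1 := by
      have h5 : nm ρ x m = 1 + ∑ i ∈ Finset.Ico 1 m, ρ x ^ i := by
        unfold nm
        rw [Finset.range_eq_Ico, Finset.sum_eq_sum_Ico_succ_bot (by omega), pow_zero]
      rw [h0] at h5
      exact (eq_neg_of_add_eq_zero_right h5.symm)
    rw [h4, mul_neg, mul_one]
  rw [h1, h3] at h2
  exact (sub_eq_zero.1 (by rw [sub_eq_add_neg]; exact h2.symm)).symm

/-- `T` acts trivially -/
theorem frob_trivial {s : ℕ} (hs : (s : R) = 0) {T : Subgroup G} [Fintype T] (hcop : (Fintype.card T).Coprime s)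
    {x : G} {m : ℕ} (hm : 1 ≤ m)
    (hn : ∀ a ∈ T, x * a * x⁻¹ ∈ T) (hfpf : ∀ i, 0 < i → i < m → ∀ a ∈ T, x ^ i * a * (x ^ i)⁻¹ = a → a = 1)
    (h0 : nm ρ x m = 0) : ∀ a ∈ T, ρ a = 1 := by
  intro b hb
  have h1 := frob_norm ρ hm hn hfpf h0
  have h2 : ρ b * ∑ a : T, ρ (a : G) = ∑ a : T, ρ (a : G) := by
    rw [Finset.mul_sum]
    let φ : T → T := fun a => ⟨b, hb⟩ * a
    have hφ : Function.Bijective φ := Group.mulLeft_bijective _
    rw [← Function.Bijective.sum_comp hφ (fun a : T => ρ (a : G))]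
    refine Finset.sum_congr rfl fun a _ => ?_
    show ρ b * ρ (a : G) = ρ (b * (a : G))
    rw [map_mul]
  rw [h1] at h2
  -- `card T` is invertible
  obtain ⟨u, w, huw⟩ := (Nat.isCoprime_iff_coprime.2 hcop : IsCoprime ((Fintype.card T : ℕ) : ℤ) (s : ℤ))
  have h3 : ((u : ℤ) : R) * (Fintype.card T : R) = 1 := by
    have h4 : ((u * (Fintype.card T : ℕ) + w * s : ℤ) : R) = 1 := by rw [huw, Int.cast_one]
    push_cast at h4
    rwa [hs, mul_zero, add_zero] at h4
  have h5 : (Fintype.card T : R) * ((u : ℤ) : R) = 1 := by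
    rw [← h3]
    exact (Nat.cast_commute (Fintype.card T) ((u : ℤ) : R)).eq
  calc ρ b = ρ b * ((Fintype.card T : R) * ((u : ℤ) : R)) := by rw [h5, mul_one]
    _ = (ρ b * (Fintype.card T : R)) * ((u : ℤ) : R) := by rw [mul_assoc]
    _ = 1 := by rw [h2, h5]

end Ring

section Norm

variable {G : Type u} [Group G] {V : Subgroup G} {s : ℕ} (hs : s.Prime)
  (he : ∀ v ∈ V, v ^ s = 1) {A : Type u} [AddCommGroup A] (ρ : G →* AddMonoid.End A) {ι : A → G}
  (h1 : Function.Injective ι) (h2 : ∀ a, ι a ∈ V) (h4 : ∀ a b, ι (a + b) = ι a * ι b)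
  (h5 : ∀ g a, ι (ρ g a) = g * ι a * g⁻¹)

include h4 in
theorem iota_zero : ι 0 = 1 := by
  have h := h4 0 0
  rw [add_zero] at h
  exact (mul_eq_left.1 h.symm)

include h4 h5 in
theorem iota_pow (g : G) (a : A) (m : ℕ) : (ι a * g) ^ m = ι (nm ρ g m a) * g ^ m := by
  induction m with
  | zero => rw [pow_zero, pow_zero, mul_one]; exact (iota_zero h4).symm
  | succ m ih =>
    have e : nm ρ g (m + 1) a = nm ρ g m a + (ρ g ^ m) a := by
      unfold nm
      rw [Finset.sum_range_succ]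
      rfl
    rw [pow_succ, ih, e, h4, ← map_pow, h5, pow_succ]
    group

include hs he h1 h2 h4 h5 in
/-- **Norms and element orders.** -/
theorem has_of_norm {g : G} {m : ℕ} (hg : g ^ m ∈ V) (hmin : ∀ k : ℕ, g ^ k ∈ V → m ∣ k) (hn : nm ρ g m ≠ 0) :
    Has G (m * s) := by
  have main : ∀ y : G, (∀ k : ℕ, y ^ k ∈ V → m ∣ k) → y ^ m ∈ V → y ^ m ≠ 1 → Has G (m * s) := by
    intro y hy hym hy1
    refine ⟨y, Nat.dvd_antisymm ?_ ?_⟩
    · apply orderOf_dvd_of_pow_eq_one
      rw [pow_mul]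
      exact he _ hym
    · obtain ⟨c, hc⟩ := hy (orderOf y) (by rw [pow_orderOf_eq_one]; exact one_mem V)
      have h6 : (y ^ m) ^ c = 1 := by rw [← pow_mul, ← hc, pow_orderOf_eq_one]
      have h7 : orderOf (y ^ m) = s := orderOf_eq_prime (he _ hym) hy1 (hp := ⟨hs⟩)
      have h8 : s ∣ c := h7 ▸ orderOf_dvd_of_pow_eq_one h6
      rw [hc]
      exact Nat.mul_dvd_mul_left m h8
  by_cases hg1 : g ^ m = 1
  · obtain ⟨a, ha⟩ : ∃ a, nm ρ g m a ≠ 0 := by
      by_contra hcon
      push Not at hcon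
      exact hn (by ext a; exact hcon a)
    have hp := iota_pow ρ h4 h5 g a m
    refine main (ι a * g) ?_ ?_ ?_
    · intro k hk
      rw [iota_pow ρ h4 h5] at hk
      exact hmin k ((V.mul_mem_cancel_left (h2 _)).1 hk)
    · rw [hp, hg1, mul_one]
      exact h2 _
    · rw [hp, hg1, mul_one]
      intro h
      exact ha (h1 (h.trans (iota_zero h4).symm))
  · exact main g hmin hg hg1

end Norm

end Cfsg.Agent.H998.SpAlt
end

-- part: H998/SpAlt/Pull_mg
section
prune_inst 0x7f00000000000000000000000000000000000000000000000000000000000000000000000000000000000000000000000000000000000000000000000000000000000000000000000000000000000000003fffffffffffffffffffffffffffbeffbdffffffff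
set_option linter.all false
open scoped Cfsg.Agent.FastGrp

-- part: H998/SpAlt/Pull
section
/-!
# From the structure `K, S` to a surjection with solvable kernel (helper998, for S3666)

`St G X` is the structure `Struct G X` of helper403 (H403/Reduce), repeated here to keep the closure small.
-/

set_option autoImplicit false
set_option linter.unusedSectionVars false

namespace Cfsg.Agent.H998.SpAlt

open Subgroup

universe u v

/-- the same as `Cfsg.Agent.H403.Struct` -/
def St (G : Type*) [Group G] (X : Type*) [Group X] : Prop :=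
  ∃ (K : Subgroup G) (_ : K.Normal) (S : Subgroup (G ⧸ K)) (_ : S.Normal), Group.IsSolvable ↥K ∧
    centralizer (S : Set (G ⧸ K)) = ⊥ ∧ Nonempty (↥S ≃* X) ∧
    ∀ p : ℕ, p.Prime → p ≠ 2 → p ∣ Nat.card G → (¬ ∃ x : G, orderOf x = 2 * p) →
      ∀ k : ℕ, p ^ k ∣ Nat.card G → p ^ k ∣ Nat.card X

/-- automorphisms of odd order are inner -/
def OI (X : Type*) [Group X] : Prop := ∀ φ : MulAut X, Odd (orderOf φ) → ∃ k : X, φ = MulAut.conj k

theorem OI.congr {X : Type u} {Y : Type v} [Group X] [Group Y] (e : X ≃* Y) (h : OI X) : OI Y := by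
  intro φ hφ
  obtain ⟨k, hk⟩ := h ((MulAut.congr e).symm φ) (by rw [MulEquiv.orderOf_eq]; exact hφ)
  refine ⟨e k, ?_⟩
  have h1 : φ = MulAut.congr e (MulAut.conj k) := by rw [← hk, MulEquiv.apply_symm_apply]
  rw [h1]
  ext y
  simp [MulAut.congr]

section

variable {G : Type u} [Group G] [Finite G] (K : Subgroup G) [K.Normal] (S : Subgroup (G ⧸ K)) [S.Normal]

omit [Finite G] in
theorem mem_of_odd (hC : centralizer (S : Set (G ⧸ K)) = ⊥) (hO : OI ↥S) {g : G ⧸ K} (hg : Odd (orderOf g)) :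
    g ∈ S := by
  let c : G ⧸ K →* MulAut ↥S := MulAut.conjNormal
  have h1 : Odd (orderOf (c g)) := by
    obtain ⟨m, hm⟩ := orderOf_map_dvd c g
    rw [hm] at hg
    exact (Nat.odd_mul.1 hg).1
  obtain ⟨s, hs⟩ := hO _ h1
  have h2 : (s : G ⧸ K)⁻¹ * g ∈ centralizer (S : Set (G ⧸ K)) := by
    rw [mem_centralizer_iff]
    intro y hy
    have h3 : ((c g ⟨y, hy⟩ : ↥S) : G ⧸ K) = ((MulAut.conj s ⟨y, hy⟩ : ↥S) : G ⧸ K) := by rw [hs]
    have h4 : ((c g ⟨y, hy⟩ : ↥S) : G ⧸ K) = g * y * g⁻¹ := MulAut.conjNormal_apply g ⟨y, hy⟩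
    rw [h4, MulAut.conj_apply, Subgroup.coe_mul, Subgroup.coe_mul, Subgroup.coe_inv] at h3
    calc y * ((s : G ⧸ K)⁻¹ * g) = (s : G ⧸ K)⁻¹ * ((s : G ⧸ K) * y * (s : G ⧸ K)⁻¹) * g := by group
      _ = (s : G ⧸ K)⁻¹ * (g * y * g⁻¹) * g := by rw [← h3]
      _ = _ := by group
  rw [hC, mem_bot, inv_mul_eq_one] at h2
  rw [← h2]
  exact s.2

/-- a prime whose full part of `|G|` divides `|S|` does not divide `|K|` -/
theorem not_dvd_K {r : ℕ} (hr : r.Prime) (h : ∀ k, r ^ k ∣ Nat.card G → r ^ k ∣ Nat.card ↥S) : ¬ r ∣ Nat.card ↥K := by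
  intro hK
  have hG : Nat.card G ≠ 0 := Nat.card_pos.ne'
  have h1 := h _ (Nat.ordProj_dvd (Nat.card G) r)
  have h3 : Nat.card ↥K * Nat.card ↥S ∣ Nat.card G := by
    have h1 : Nat.card G = Nat.card ↥K * Nat.card (G ⧸ K) := by
      rw [mul_comm]
      exact Subgroup.card_eq_card_quotient_mul_card_subgroup K
    rw [h1]
    exact Nat.mul_dvd_mul_left _ (Subgroup.card_subgroup_dvd_card S)
  have h2 : r ^ ((Nat.card G).factorization r + 1) ∣ Nat.card G := by
    rw [pow_succ']
    exact (Nat.mul_dvd_mul hK h1).trans h3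
  have h3 := (hr.pow_dvd_iff_le_factorization hG).1 h2
  omega

/-- elements of odd order prime to `|K|` -/
theorem has_S (hC : centralizer (S : Set (G ⧸ K)) = ⊥) (hO : OI ↥S) {m : ℕ} (hm : Odd m)
    (hcop : Nat.Coprime m (Nat.card ↥K)) (h : Has G m) : Has ↥S m := by
  obtain ⟨g, hg⟩ := h
  have h1 : orderOf (QuotientGroup.mk' K g) = m := by
    apply Nat.dvd_antisymm
    · rw [← hg]; exact orderOf_map_dvd _ _
    · have h2 := orderOf_dvd_mul_card (QuotientGroup.mk' K) g
      rw [QuotientGroup.ker_mk', hg] at h2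
      exact hcop.dvd_of_dvd_mul_right h2
  have h2 : QuotientGroup.mk' K g ∈ S := mem_of_odd K S hC hO (by rw [h1]; exact hm)
  exact ⟨⟨_, h2⟩, by rw [Subgroup.orderOf_mk, h1]⟩

/-- the preimage of `S` -/
theorem exists_surj {X : Type v} [Group X] (e : ↥S ≃* X) (hK : Group.IsSolvable ↥K) :
    ∃ (G0 : Subgroup G) (f : ↥G0 →* X), Function.Surjective f ∧ Group.IsSolvable ↥f.ker ∧ Nat.card f.ker = Nat.card ↥K := by
  let G0 : Subgroup G := S.comap (QuotientGroup.mk' K)
  let f0 : ↥G0 →* ↥S := ((QuotientGroup.mk' K).comp G0.subtype).codRestrict S fun g => g.2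
  have hf0 : Function.Surjective f0 := by
    rintro ⟨x, hx⟩
    obtain ⟨g, rfl⟩ := QuotientGroup.mk'_surjective K x
    exact ⟨⟨g, hx⟩, rfl⟩
  have hKG : K ≤ G0 := by
    intro k hk
    show QuotientGroup.mk' K k ∈ S
    rw [QuotientGroup.mk'_apply, (QuotientGroup.eq_one_iff k).2 hk]
    exact one_mem S
  let f : ↥G0 →* X := e.toMonoidHom.comp f0
  have hmem : ∀ g : ↥G0, g ∈ f.ker ↔ (g : G) ∈ K := by
    intro g
    rw [MonoidHom.mem_ker]
    constructor
    · intro h
      have h1 : f0 g = 1 := (map_eq_one_iff e e.injective).1 h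
      have h2 : (f0 g : G ⧸ K) = 1 := congrArg Subtype.val h1
      exact (QuotientGroup.eq_one_iff (g : G)).1 h2
    · intro h
      have h2 : f0 g = 1 := Subtype.ext ((QuotientGroup.eq_one_iff (g : G)).2 h)
      show e (f0 g) = 1
      rw [h2, map_one]
  let j : ↥f.ker →* ↥K := ((G0.subtype.comp f.ker.subtype)).codRestrict K fun g => (hmem g.1).1 g.2
  have hj : Function.Injective j := by
    intro a b h
    have h1 : ((j a : ↥K) : G) = ((j b : ↥K) : G) := by rw [h]
    exact Subtype.ext (Subtype.ext h1)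
  have hj' : Function.Surjective j := by
    rintro ⟨k, hk⟩
    exact ⟨⟨⟨k, hKG hk⟩, (hmem _).2 hk⟩, rfl⟩
  refine ⟨G0, f, e.surjective.comp hf0, Group.isSolvable_of_isSolvable_injective (f := j) hj,
    Nat.card_congr (Equiv.ofBijective j ⟨hj, hj'⟩)⟩

end

end Cfsg.Agent.H998.SpAlt
end

-- part: H998/SpAlt/Layer
section
/-!
# Layers of a solvable normal subgroup (helper998, for S3666)

* `exists_layer` : if a prime satisfying `π` divides the order of the solvable kernel of `f : G →* X`, there are a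
  quotient `G'` of `G` and a minimal normal elementary abelian `s`-subgroup `V` of `G'` in the kernel of
  `f' : G' →* X` with `π s`, and no prime satisfying `π` divides `|ker f' : V|`;
* `trivial_has` : if an element outside the kernel acts trivially on `V` then `m s` is an element order for every
  element order `m` of `X` prime to `s`.
-/

set_option autoImplicit false

namespace Cfsg.Agent.H998.SpAlt

open Subgroup

universe u v

/-- minimal normal subgroups in solvable normal subgroups -/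
theorem exists_minimal {G : Type u} [Group G] [Finite G] {K : Subgroup G} (hKn : K.Normal)
    (hK : Group.IsSolvable ↥K) (hne : K ≠ ⊥) :
    ∃ (V : Subgroup G) (s : ℕ), V.Normal ∧ V ≤ K ∧ V ≠ ⊥ ∧ (∀ a ∈ V, ∀ b ∈ V, a * b = b * a) ∧ s.Prime ∧
      (∀ v ∈ V, v ^ s = 1) ∧ ∀ W : Subgroup G, W.Normal → W ≤ V → W = ⊥ ∨ W = V := by
  classical
  obtain ⟨V, hV⟩ := Set.Finite.exists_minimal (s := {M : Subgroup G | M.Normal ∧ M ≤ K ∧ M ≠ ⊥})
    (Set.toFinite _) ⟨K, hKn, le_rfl, hne⟩
  obtain ⟨⟨hVn, hVK, hV1⟩, hVmin⟩ := hV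
  have hmin : ∀ W : Subgroup G, W.Normal → W ≤ V → W = ⊥ ∨ W = V := by
    intro W hW hWV
    by_cases h : W = ⊥
    · exact Or.inl h
    · exact Or.inr (le_antisymm hWV (hVmin ⟨hW, hWV.trans hVK, h⟩ hWV))
  have hcomm : ∀ a ∈ V, ∀ b ∈ V, a * b = b * a := by
    have h1 : (⁅V, V⁆ : Subgroup G).Normal := inferInstance
    rcases hmin _ h1 (Subgroup.commutator_le_left V V) with h | h
    · intro a ha b hb
      have h2 := Subgroup.commutator_mem_commutator ha hb
      rw [h, mem_bot] at h2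
      exact commutatorElement_eq_one_iff_mul_comm.1 h2
    · exfalso
      have hVs : Group.IsSolvable ↥V := Group.isSolvable_of_isSolvable_injective (f := Subgroup.inclusion hVK)
        (Subgroup.inclusion_injective hVK)
      have h2 : ∀ n : ℕ, (derivedSeries ↥V n).map V.subtype = V := by
        intro n
        induction n with
        | zero =>
          rw [derivedSeries_zero, ← MonoidHom.range_eq_map, Subgroup.range_subtype]
        | succ n ih =>
          rw [derivedSeries_succ, Subgroup.map_commutator, ih, h]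
      obtain ⟨n, hn⟩ := hVs.solvable
      have h3 := h2 n
      rw [hn, Subgroup.map_bot] at h3
      exact hV1 h3.symm
  have hcard : Nat.card V ≠ 1 := fun h => hV1 (Subgroup.card_eq_one.1 h)
  obtain ⟨s, hs, hsd⟩ := Nat.exists_prime_and_dvd hcard
  have hfs : Fact s.Prime := ⟨hs⟩
  refine ⟨V, s, hVn, hVK, hV1, hcomm, hs, ?_, hmin⟩
  let W : Subgroup G :=
    { carrier := {v | v ∈ V ∧ v ^ s = 1}
      mul_mem' := by
        rintro a b ⟨ha, ha'⟩ ⟨hb, hb'⟩
        refine ⟨V.mul_mem ha hb, ?_⟩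
        have : Commute a b := hcomm a ha b hb
        rw [this.mul_pow, ha', hb', one_mul]
      one_mem' := ⟨V.one_mem, one_pow _⟩
      inv_mem' := by
        rintro a ⟨ha, ha'⟩
        exact ⟨V.inv_mem ha, by rw [inv_pow, ha', inv_one]⟩ }
  have hWn : W.Normal := by
    constructor
    rintro n ⟨hn, hn'⟩ g
    exact ⟨hVn.conj_mem n hn g, by rw [conj_pow, hn', mul_one, mul_inv_cancel]⟩
  have hWV : W ≤ V := fun v hv => hv.1
  rcases hmin W hWn hWV with h | h
  · exfalso
    obtain ⟨x, hx⟩ := exists_prime_orderOf_dvd_card' s hsd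
    have h1 : (x : G) ∈ W := ⟨x.2, by rw [← hx, ← Subgroup.orderOf_coe, pow_orderOf_eq_one]⟩
    rw [h, mem_bot] at h1
    have h2 : x = 1 := Subtype.ext h1
    rw [h2, orderOf_one] at hx
    exact hs.one_lt.ne hx
  · intro v hv
    rw [← h] at hv
    exact hv.2

/-- **layers** -/
theorem exists_layer {X : Type v} [Group X] (π : ℕ → Prop) : ∀ (n : ℕ) (G : Type u) [Group G] [Finite G],
    Nat.card G = n → ∀ f : G →* X, Function.Surjective f → Group.IsSolvable ↥f.ker →
    (∃ p, p.Prime ∧ π p ∧ p ∣ Nat.card f.ker) →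
    ∃ (G' : Type u) (_ : Group G') (_ : Finite G') (q : G →* G') (f' : G' →* X) (V : Subgroup G') (s : ℕ),
      Function.Surjective q ∧ (∀ g, f' (q g) = f g) ∧ V.Normal ∧ V ≤ f'.ker ∧ V ≠ ⊥ ∧
      (∀ a ∈ V, ∀ b ∈ V, a * b = b * a) ∧ s.Prime ∧ π s ∧ (∀ v ∈ V, v ^ s = 1) ∧
      (∀ W : Subgroup G', W.Normal → W ≤ V → W = ⊥ ∨ W = V) ∧
      (∀ p, p.Prime → π p → ¬ p ∣ V.relIndex f'.ker) ∧ Group.IsSolvable ↥f'.ker := by
  intro n
  induction n using Nat.strong_induction_on with
  | _ n ih =>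
    intro G _ _ hG f hf hsol hp
    obtain ⟨p, hpp, hπ, hpd⟩ := hp
    have hne : f.ker ≠ ⊥ := by
      intro h
      rw [h, Subgroup.card_bot] at hpd
      exact hpp.one_lt.ne' (Nat.dvd_one.1 hpd)
    obtain ⟨V, s, hVn, hVK, hV1, hVc, hs, hVs, hVm⟩ := exists_minimal f.normal_ker hsol hne
    by_cases hcase : ∀ p, p.Prime → π p → ¬ p ∣ V.relIndex f.ker
    · refine ⟨G, inferInstance, inferInstance, MonoidHom.id G, f, V, s, Function.surjective_id, fun g => rfl, hVn, hVK,
        hV1, hVc, hs, ?_, hVs, hVm, hcase, hsol⟩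
      -- `p` divides `|V|`, hence `p = s`
      have h1 : Nat.card V * V.relIndex f.ker = Nat.card f.ker := by
        have h2 := Subgroup.relIndex_mul_relIndex (⊥ : Subgroup G) V f.ker bot_le hVK
        rwa [Subgroup.relIndex_bot_left, Subgroup.relIndex_bot_left] at h2
      rw [← h1] at hpd
      rcases hpp.dvd_mul.1 hpd with h | h
      · have hVp : IsPGroup s ↥V := fun v => ⟨1, Subtype.ext (by rw [pow_one]; exact hVs v v.2)⟩
        have := Fact.mk hs
        obtain ⟨k, hk⟩ := (IsPGroup.iff_card).1 hVp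
        rw [hk] at h
        rw [← (Nat.prime_dvd_prime_iff_eq hpp hs).1 (hpp.dvd_of_dvd_pow h)]
        exact hπ
      · exact absurd h (hcase p hpp hπ)
    · push Not at hcase
      obtain ⟨p', hp', hπ', hd'⟩ := hcase
      let f1 : G ⧸ V →* X := QuotientGroup.lift V f fun v hv => hVK hv
      have hf1 : Function.Surjective f1 := by
        intro x
        obtain ⟨g, rfl⟩ := hf x
        exact ⟨(g : G ⧸ V), rfl⟩
      have hk1 : f1.ker = f.ker.map (QuotientGroup.mk' V) := by
        ext z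
        obtain ⟨g, rfl⟩ := QuotientGroup.mk'_surjective V z
        constructor
        · intro h
          exact ⟨g, h, rfl⟩
        · rintro ⟨g', hg', e⟩
          rw [← e]
          exact hg'
      have hsol1 : Group.IsSolvable ↥f1.ker := by
        rw [hk1]
        exact Group.isSolvable_of_surjective (f := (QuotientGroup.mk' V).subgroupMap f.ker)
          ((QuotientGroup.mk' V).subgroupMap_surjective f.ker)
      have hcard1 : Nat.card f1.ker = V.relIndex f.ker := by
        have h2 : Nat.card ↥(f.ker.map (QuotientGroup.mk' V)) = V.relIndex f.ker := by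
          have h3 : ((QuotientGroup.mk' V).ker).relIndex f.ker = Nat.card ↥(f.ker.map (QuotientGroup.mk' V)) :=
            Subgroup.relIndex_ker _ _
          rw [QuotientGroup.ker_mk'] at h3
          exact h3.symm
        rw [hk1, h2]
      have hlt : Nat.card (G ⧸ V) < n := by
        have h1 := Subgroup.card_eq_card_quotient_mul_card_subgroup V
        have h2 : 1 < Nat.card V := by
          have h3 : Nat.card V ≠ 1 := fun h => hV1 (Subgroup.card_eq_one.1 h)
          have h4 : 0 < Nat.card V := Nat.card_pos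
          omega
        have h3 : 0 < Nat.card (G ⧸ V) := Nat.card_pos
        rw [← hG, h1]
        exact lt_mul_of_one_lt_right h3 h2
      obtain ⟨G', i1, i2, q, f', V', s', h1, h2, h3⟩ := ih _ hlt (G ⧸ V) rfl f1 hf1 hsol1
        ⟨p', hp', hπ', by rw [hcard1]; exact hd'⟩
      exact ⟨G', i1, i2, q.comp (QuotientGroup.mk' V), f', V', s', h1.comp (QuotientGroup.mk'_surjective V),
        fun g => h2 _, h3⟩

section

/-- the action of `G ⧸ V` on `V` -/
theorem exists_qact {G : Type u} [Group G] [Finite G] {V : Subgroup G} (hVn : V.Normal) (hV1 : V ≠ ⊥)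
    (hc : ∀ a ∈ V, ∀ b ∈ V, a * b = b * a) {s : ℕ} (hs : s.Prime) (he : ∀ v ∈ V, v ^ s = 1) :
    ∃ (A : Type u) (_ : AddCommGroup A) (_ : Nontrivial A) (_ : Finite A) (ρ : G ⧸ V →* AddMonoid.End A),
      (∀ a : A, s • a = 0) ∧ (∀ g : G ⧸ V, nm ρ g (orderOf g) ≠ 0 → Has G (orderOf g * s)) ∧
      ((∀ W : Subgroup G, W.Normal → W ≤ V → W = ⊥ ∨ W = V) →
        ∀ B : AddSubgroup A, (∀ g, ∀ b ∈ B, ρ g b ∈ B) → B = ⊥ ∨ B = ⊤) := by
  obtain ⟨A, iA, ρ, ι, h1, h2, h3, h4, h5⟩ := exists_act V hc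
  have h0 := iota_zero h4
  have hker : ∀ v ∈ V, ρ v = 1 := by
    intro v hv
    ext a
    apply h1
    rw [h5, hc v hv _ (h2 a)]
    show ι a * v * v⁻¹ = ι a
    group
  have hnt : Nontrivial A := by
    obtain ⟨⟨v, hv⟩, hv1'⟩ := Subgroup.ne_bot_iff_exists_ne_one.1 hV1
    have hv1 : v ≠ 1 := fun h => hv1' (Subtype.ext h)
    obtain ⟨a, rfl⟩ := h3 v hv
    exact ⟨a, 0, fun h => hv1 (by rw [h, h0])⟩
  have hsmul : ∀ (a : A) (n : ℕ), ι (n • a) = ι a ^ n := by
    intro a n
    induction n with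
    | zero => rw [zero_smul, h0, pow_zero]
    | succ n ih => rw [succ_nsmul, h4, ih, pow_succ]
  refine ⟨A, iA, hnt, Finite.of_injective ι h1, QuotientGroup.lift V ρ hker, ?_, ?_, ?_⟩
  · intro a
    apply h1
    rw [hsmul, h0]
    exact he _ (h2 a)
  · intro g hg
    obtain ⟨g, rfl⟩ := QuotientGroup.mk_surjective g
    refine has_of_norm (g := g) (V := V) hs he ρ h1 h2 h4 h5 ?_ ?_ ?_
    · rw [← QuotientGroup.eq_one_iff, QuotientGroup.mk_pow, pow_orderOf_eq_one]
    · intro k hk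
      rw [← QuotientGroup.eq_one_iff, QuotientGroup.mk_pow] at hk
      exact orderOf_dvd_of_pow_eq_one hk
    · intro h
      apply hg
      rw [← h]
      rfl
  · intro hmin B hB
    let W : Subgroup G :=
      { carrier := {v | ∃ b ∈ B, ι b = v}
        mul_mem' := by
          rintro _ _ ⟨a, ha, rfl⟩ ⟨b, hb, rfl⟩
          exact ⟨a + b, B.add_mem ha hb, h4 a b⟩
        one_mem' := ⟨0, B.zero_mem, h0⟩
        inv_mem' := by
          rintro _ ⟨a, ha, rfl⟩
          refine ⟨-a, B.neg_mem ha, ?_⟩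
          rw [eq_inv_iff_mul_eq_one, ← h4, neg_add_cancel, h0] }
    have hWn : W.Normal := by
      constructor
      rintro _ ⟨b, hb, rfl⟩ g
      exact ⟨ρ g b, hB (g : G ⧸ V) b hb, h5 g b⟩
    have hWV : W ≤ V := by
      rintro _ ⟨b, -, rfl⟩
      exact h2 b
    rcases hmin W hWn hWV with h | h
    · left
      rw [eq_bot_iff]
      intro b hb
      have h6 : ι b ∈ W := ⟨b, hb, rfl⟩
      rw [h, mem_bot] at h6
      exact AddSubgroup.mem_bot.2 (h1 (h6.trans h0.symm))
    · right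
      rw [eq_top_iff]
      intro a _
      have h6 : ι a ∈ W := by rw [h]; exact h2 a
      obtain ⟨b, hb, e⟩ := h6
      rwa [← h1 e]

variable {G : Type*} [Group G] [Finite G] {G1 : Type*} [Group G1] [Finite G1] {X : Type*} [Group X]
  {A : Type*} [AddCommGroup A] [Nontrivial A] {ρ : G1 →* AddMonoid.End A} {s : ℕ}

omit [Nontrivial A] in
theorem nsmul_ne {n : ℕ} (hs : s.Prime) (hA : ∀ a : A, s • a = 0) (hn : ¬ s ∣ n) {a : A} (ha : a ≠ 0) : n • a ≠ 0 := by
  intro h
  have h1 : addOrderOf a ∣ n := addOrderOf_dvd_of_nsmul_eq_zero h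
  have h2 : addOrderOf a ∣ s := addOrderOf_dvd_of_nsmul_eq_zero (hA a)
  rcases (Nat.dvd_prime hs).1 h2 with h3 | h3
  · exact ha (AddMonoid.addOrderOf_eq_one_iff.1 h3)
  · exact hn (h3 ▸ h1)

/-- **an element outside the kernel acting trivially** -/
theorem trivial_has [hX : IsSimpleGroup X] (f : G1 →* X) (hf : Function.Surjective f) (hs : s.Prime)
    (hA : ∀ a : A, s • a = 0) (hnm : ∀ g : G1, nm ρ g (orderOf g) ≠ 0 → Has G (orderOf g * s))
    (hG : ∀ m, Has G1 m → Has G m) {t : G1} (ht : ρ t = 1) (ht1 : f t ≠ 1) {x0 : X} {m : ℕ} (hx : orderOf x0 = m)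
    (hm : m.Coprime s) : Has G (m * s) := by
  have h1 : (ρ.ker.map f).Normal := Subgroup.Normal.map inferInstance f hf
  rcases h1.eq_bot_or_eq_top with h | h
  · exfalso
    have h2 : f t ∈ ρ.ker.map f := ⟨t, ht, rfl⟩
    rw [h, mem_bot] at h2
    exact ht1 h2
  · have h2 : x0 ∈ ρ.ker.map f := by rw [h]; exact mem_top _
    obtain ⟨c, hc, rfl⟩ := h2
    have hc1 : ρ c = 1 := hc
    have hmd : m ∣ orderOf c := hx ▸ orderOf_map_dvd f c
    by_cases hsn : s ∣ orderOf c
    · exact hG _ (has_of_dvd c (hm.mul_dvd_of_dvd_of_dvd hmd hsn))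
    · refine (hnm c ?_).dvd (Nat.mul_dvd_mul_right hmd s)
      intro h0
      obtain ⟨a, ha⟩ := exists_ne (0 : A)
      refine nsmul_ne hs hA hsn ha ?_
      have h3 : nm ρ c (orderOf c) a = orderOf c • a := by
        unfold nm
        rw [hc1]
        simp only [one_pow, Finset.sum_const, Finset.card_range]
        rfl
      rw [← h3, h0]
      rfl

end

end Cfsg.Agent.H998.SpAlt
end

-- part: H998/SpAlt/JTwoA
section
/-!
# Extensions of `J₂` by `2`-groups without elements of order 14, 20 (helper998, for S3666)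

`f : G1 →* X` surjective with kernel a `2`-group.
* `cent_triv` : `C_M(y) = 1` for `y` of type 5A;
* `exists_frob` : a lift of a Frobenius group `p : n`.
-/

set_option autoImplicit false

namespace Cfsg.Agent.H998.SpAlt

open Subgroup

universe u v

section

variable {G1 : Type u} [Group G1] [Finite G1] {X : Type v} [Group X] {f : G1 →* X}

theorem isPGroup_ker (h2 : ∀ p, p.Prime → p ≠ 2 → ¬ p ∣ Nat.card f.ker) : IsPGroup 2 ↥f.ker := by
  have : Fact (Nat.Prime 2) := ⟨Nat.prime_two⟩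
  rw [IsPGroup.iff_card]
  refine ⟨_, Nat.eq_prime_pow_of_unique_prime_dvd Nat.card_pos.ne' fun {d} hd hdd => ?_⟩
  by_contra h
  exact h2 d hd h hdd

theorem not_dvd_ker (hM : IsPGroup 2 ↥f.ker) {p : ℕ} (hp : p.Prime) (hp2 : p ≠ 2) : ¬ p ∣ Nat.card f.ker := by
  have : Fact (Nat.Prime 2) := ⟨Nat.prime_two⟩
  obtain ⟨k, hk⟩ := (IsPGroup.iff_card).1 hM
  rw [hk]
  intro h
  exact hp2 ((Nat.prime_dvd_prime_iff_eq hp Nat.prime_two).1 (hp.dvd_of_dvd_pow h))

/-- `2`-elements commuting with `y` commute with `C_M(y)` -/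
theorem comm_two (hM : IsPGroup 2 ↥f.ker) (h20 : ¬ Has G1 20) {y d m : G1} (hy : orderOf y = 5)
    (hd : ∃ k : ℕ, d ^ 2 ^ k = 1) (hdy : d * y = y * d) (hm : m ∈ f.ker) (hmy : m * y = y * m) : d * m = m * d := by
  have : Fact (Nat.Prime 2) := ⟨Nat.prime_two⟩
  set C : Subgroup G1 := f.ker ⊓ centralizer {y} with hC
  have hC2 : IsPGroup 2 ↥C := hM.to_le inf_le_left
  have hd2 : IsPGroup 2 ↥(zpowers d) := by
    obtain ⟨k, hk⟩ := hd
    rw [IsPGroup.iff_card]
    obtain ⟨j, -, hj⟩ := (Nat.dvd_prime_pow Nat.prime_two).1 (orderOf_dvd_of_pow_eq_one hk)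
    exact ⟨j, by rw [Nat.card_zpowers, hj]⟩
  have hdn : zpowers d ≤ normalizer (C : Set G1) := by
    rw [zpowers_le, mem_normalizer_iff]
    intro z
    have h1 : ∀ z, z ∈ centralizer ({y} : Set G1) ↔ d * z * d⁻¹ ∈ centralizer ({y} : Set G1) := by
      intro z
      rw [mem_centralizer_singleton_iff, mem_centralizer_singleton_iff]
      constructor
      · intro h
        calc d * z * d⁻¹ * y = d * z * (d⁻¹ * y * d) * d⁻¹ := by group
          _ = d * z * y * d⁻¹ := by rw [show d⁻¹ * y * d = y by rw [mul_assoc, ← hdy]; group]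
          _ = d * (y * z) * d⁻¹ := by rw [← h]; group
          _ = y * (d * z * d⁻¹) := by rw [← mul_assoc, hdy]; group
      · intro h
        have h2 : d⁻¹ * (d * z * d⁻¹ * y) * d = d⁻¹ * (y * (d * z * d⁻¹)) * d := by rw [h]
        have h3 : d⁻¹ * y * d = y := by rw [mul_assoc, ← hdy]; group
        calc z * y = z * (d⁻¹ * y * d) := by rw [h3]
          _ = d⁻¹ * (d * z * d⁻¹ * y) * d := by group
          _ = d⁻¹ * (y * (d * z * d⁻¹)) * d := h2
          _ = (d⁻¹ * y * d) * z := by group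
          _ = y * z := by rw [h3]
    rw [hC, mem_inf, mem_inf, ← h1 z]
    refine and_congr_left fun _ => ⟨fun h => f.normal_ker.conj_mem z h d, fun h => ?_⟩
    have := f.normal_ker.conj_mem _ h d⁻¹
    rwa [inv_inv, show d⁻¹ * (d * z * d⁻¹) * d = z by group] at this
  have hP : IsPGroup 2 ↥(C ⊔ zpowers d) := IsPGroup.to_sup_of_normal_left' hC2 hd2 hdn
  have hPy : C ⊔ zpowers d ≤ centralizer ({y} : Set G1) := by
    rw [sup_le_iff, zpowers_le, mem_centralizer_singleton_iff]
    exact ⟨inf_le_right, hdy⟩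
  have hsq : ∀ u ∈ C ⊔ zpowers d, u * u = 1 := by
    intro u hu
    obtain ⟨k, hk⟩ := hP ⟨u, hu⟩
    have hk' : u ^ 2 ^ k = 1 := congrArg Subtype.val hk
    obtain ⟨j, -, hj⟩ := (Nat.dvd_prime_pow Nat.prime_two).1 (orderOf_dvd_of_pow_eq_one hk')
    rcases Nat.lt_or_ge j 2 with h | h
    · have h3 : orderOf u ∣ 2 := by
        rw [hj]
        interval_cases j <;> norm_num
      rw [← sq]
      exact orderOf_dvd_iff_pow_eq_one.1 h3
    · exfalso
      apply h20
      have h3 : 4 ∣ orderOf u := by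
        rw [hj]
        exact (pow_dvd_pow 2 h : 2 ^ 2 ∣ 2 ^ j)
      have h4 := has_mul (a := u) (b := y) (mem_centralizer_singleton_iff.1 (hPy hu)) h3 (dvd_of_eq hy.symm)
        (by norm_num)
      exact h4
  have hdP : d ∈ C ⊔ zpowers d := mem_sup_right (mem_zpowers d)
  have hmP : m ∈ C ⊔ zpowers d := mem_sup_left ⟨hm, mem_centralizer_singleton_iff.2 hmy⟩
  have e1 := hsq d hdP
  have e2 := hsq m hmP
  have e3 := hsq _ (mul_mem hdP hmP)
  have e4 : d * m = (d * m)⁻¹ := eq_inv_of_mul_eq_one_left e3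
  rw [e4, mul_inv_rev, ← eq_inv_of_mul_eq_one_left e1, ← eq_inv_of_mul_eq_one_left e2]

/-- lifts of involutions commuting with `y` -/
theorem lift_two (hf : Function.Surjective f) (hM : IsPGroup 2 ↥f.ker) {y : G1} (hy : orderOf y = 5) {a0 : X}
    (ha : a0 * a0 = 1) (hc : a0 * f y = f y * a0) : ∃ a : G1, f a = a0 ∧ a * y = y * a ∧ ∃ k : ℕ, a ^ 2 ^ k = 1 := by
  obtain ⟨b, hb, hby⟩ := lift_conj f hf (by norm_num : Nat.Prime 5) (not_dvd_ker hM (by norm_num) (by norm_num)) hy hy
    (h0 := a0) (by rw [hc, mul_inv_cancel_right])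
  have hby' : b * y = y * b := mul_inv_eq_iff_eq_mul.1 hby
  obtain ⟨k, r, hr, he⟩ := Nat.exists_eq_two_pow_mul_odd (n := orderOf b) (orderOf_pos b).ne'
  refine ⟨b ^ r, ?_, ?_, k, ?_⟩
  · rw [map_pow, hb]
    obtain ⟨j, rfl⟩ := hr
    rw [pow_succ, pow_mul, sq, ha, one_pow, one_mul]
  · exact ((show Commute b y from hby').pow_left r).eq
  · rw [← pow_mul, mul_comm r, ← he, pow_orderOf_eq_one]

/-- **`C_M(y) = 1`** for `y` of type 5A. -/
theorem cent_triv (hf : Function.Surjective f) (hM : IsPGroup 2 ↥f.ker) (h20 : ¬ Has G1 20) (h14 : ¬ Has G1 14)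
    {a0 b0 g0 c1 c2 d1 d2 : X} {i j : ℕ} {y : G1} (hy : orderOf y = 5)
    (ha : a0 * a0 = 1) (hay : a0 * f y = f y * a0) (hb : b0 * b0 = 1) (hby : b0 * f y = f y * b0)
    (hg : g0 * f y * g0⁻¹ = f y ^ i * (a0 * b0) ^ j)
    (hc1 : c1 * c1 = 1) (hc1y : c1 * f y = f y * c1) (hc2 : c2 * c2 = 1) (hc2y : c2 * f y = f y * c2)
    (hd1 : d1 * d1 = 1) (hd1y : d1 * (f y ^ i * (a0 * b0) ^ j) = (f y ^ i * (a0 * b0) ^ j) * d1)
    (hd2 : d2 * d2 = 1) (hd2y : d2 * (f y ^ i * (a0 * b0) ^ j) = (f y ^ i * (a0 * b0) ^ j) * d2)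
    (h7 : orderOf (c1 * c2 * (d1 * d2)) = 7) : ∀ m ∈ f.ker, m * y = y * m → m = 1 := by
  have h5p : Nat.Prime 5 := by norm_num
  have h5k : ¬ 5 ∣ Nat.card f.ker := not_dvd_ker hM h5p (by norm_num)
  obtain ⟨a, hfa, haY, ha2⟩ := lift_two hf hM hy ha hay
  obtain ⟨b, hfb, hbY, hb2⟩ := lift_two hf hM hy hb hby
  have hord : orderOf (f y) = 5 := by
    rcases (Nat.dvd_prime h5p).1 (hy ▸ orderOf_map_dvd f y) with h | h
    · exfalso
      have h1 : y ∈ f.ker := MonoidHom.mem_ker.2 (orderOf_eq_one_iff.1 h)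
      exact h5k (hy ▸ Subgroup.orderOf_dvd_natCard _ h1)
    · exact h
  -- `y2`
  set y2' : G1 := y ^ i * (a * b) ^ j with hy2'
  have hfy2' : f y2' = f y ^ i * (a0 * b0) ^ j := by rw [hy2', map_mul, map_pow, map_pow, map_mul, hfa, hfb]
  have hord2 : orderOf (f y2') = 5 := by
    rw [hfy2', ← hg, ← hord]
    exact orderOf_injective (MulAut.conj g0).toMonoidHom (MulAut.conj g0).injective (f y)
  obtain ⟨j', hj1, hj2⟩ := exists_lift_pow f y2' hord2 ((Nat.Prime.coprime_iff_not_dvd h5p).2 h5k)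
  set y2 : G1 := y2' ^ j' with hy2
  have hC1 : ∀ m ∈ f.ker, m * y = y * m → m * y2 = y2 * m := by
    intro m hm hmy
    have h1 : Commute m a := (comm_two hM h20 hy ha2 haY hm hmy).symm
    have h2 : Commute m b := (comm_two hM h20 hy hb2 hbY hm hmy).symm
    have h3 : Commute m y := hmy
    have h4 : Commute m y2' := (h3.pow_right i).mul_right ((h1.mul_right h2).pow_right j)
    exact (h4.pow_right j').eq
  obtain ⟨g, hgf, hgy⟩ := lift_conj f hf h5p h5k hy hj2 (h0 := g0) (by rw [hj1, hfy2', hg])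
  -- the two centralizers
  have hC2 : ∀ m ∈ f.ker, m * y2 = y2 * m → m * y = y * m := by
    set C1 : Subgroup G1 := f.ker ⊓ centralizer {y} with hC1'
    set C2 : Subgroup G1 := f.ker ⊓ centralizer {y2} with hC2'
    have hle : C1 ≤ C2 := by
      rintro m ⟨hm, hmy⟩
      exact ⟨hm, mem_centralizer_singleton_iff.2 (hC1 m hm (mem_centralizer_singleton_iff.1 hmy))⟩
    have hmap : C2 ≤ C1.map (MulAut.conj g).toMonoidHom := by
      rintro m ⟨hm, hmy⟩
      have hmy' := mem_centralizer_singleton_iff.1 hmy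
      refine ⟨g⁻¹ * m * g, ⟨?_, mem_centralizer_singleton_iff.2 ?_⟩, ?_⟩
      · have := f.normal_ker.conj_mem m hm g⁻¹
        rwa [inv_inv] at this
      · rw [← hgy] at hmy'
        calc g⁻¹ * m * g * y = g⁻¹ * (m * (g * y * g⁻¹)) * g := by group
          _ = g⁻¹ * (g * y * g⁻¹ * m) * g := by rw [hmy']
          _ = y * (g⁻¹ * m * g) := by group
      · show g * (g⁻¹ * m * g) * g⁻¹ = m
        group
    have hcard : Nat.card C2 ≤ Nat.card C1 := by
      refine (Subgroup.card_le_of_le hmap).trans ?_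
      exact (Nat.card_congr (C1.equivMapOfInjective _ (MulAut.conj g).injective).symm.toEquiv).le
    have heq : C1 = C2 := Subgroup.eq_of_le_of_card_ge hle hcard
    intro m hm hmy
    have h1 : m ∈ C2 := ⟨hm, mem_centralizer_singleton_iff.2 hmy⟩
    rw [← heq] at h1
    exact mem_centralizer_singleton_iff.1 h1.2
  obtain ⟨e1, hfe1, he1y, he1⟩ := lift_two hf hM hy hc1 hc1y
  obtain ⟨e2, hfe2, he2y, he2⟩ := lift_two hf hM hy hc2 hc2y
  obtain ⟨e3, hfe3, he3y, he3⟩ := lift_two hf hM hj2 hd1 (by rw [hj1, hfy2']; exact hd1y)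
  obtain ⟨e4, hfe4, he4y, he4⟩ := lift_two hf hM hj2 hd2 (by rw [hj1, hfy2']; exact hd2y)
  intro m hm hmy
  have hmy2 := hC1 m hm hmy
  have k1 : Commute m e1 := (comm_two hM h20 hy he1 he1y hm hmy).symm
  have k2 : Commute m e2 := (comm_two hM h20 hy he2 he2y hm hmy).symm
  have k3 : Commute m e3 := (comm_two hM h20 hj2 he3 he3y hm hmy2).symm
  have k4 : Commute m e4 := (comm_two hM h20 hj2 he4 he4y hm hmy2).symm
  have k5 : Commute m (e1 * e2 * (e3 * e4)) := (k1.mul_right k2).mul_right (k3.mul_right k4)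
  have k6 : 7 ∣ orderOf (e1 * e2 * (e3 * e4)) := by
    have h1 := orderOf_map_dvd f (e1 * e2 * (e3 * e4))
    rwa [map_mul, map_mul, map_mul, hfe1, hfe2, hfe3, hfe4, h7] at h1
  by_contra hm1
  obtain ⟨k, hk⟩ := hM ⟨m, hm⟩
  have hk' : m ^ 2 ^ k = 1 := congrArg Subtype.val hk
  have h2m : 2 ∣ orderOf m := by
    obtain ⟨l, -, hl⟩ := (Nat.dvd_prime_pow Nat.prime_two).1 (orderOf_dvd_of_pow_eq_one hk')
    rw [hl]
    refine dvd_pow_self 2 ?_
    rintro rfl
    exact hm1 (orderOf_eq_one_iff.1 hl)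
  exact h14 (has_mul k5.eq h2m k6 (by norm_num))

/-- lifts of Frobenius groups -/
theorem exists_frob (hf : Function.Surjective f) (hM : IsPGroup 2 ↥f.ker) {p : ℕ} (hp : p.Prime) (hp2 : p ≠ 2)
    (h2p : ¬ Has G1 (2 * p)) {x0 h0 : X} {n k : ℕ} (hx : orderOf x0 = p) (hh : h0 ^ n = 1)
    (hc : h0 * x0 * h0⁻¹ = x0 ^ k) (hkn : k ^ n ≡ 1 [MOD p]) (hkp : p.Coprime k) :
    ∃ x h : G1, f x = x0 ∧ f h = h0 ∧ orderOf x = p ∧ h ^ n = 1 ∧ h * x * h⁻¹ = x ^ k := by
  have hpk := not_dvd_ker hM hp hp2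
  obtain ⟨x, hfx, hxo⟩ := exists_lift f hf hx ((Nat.Prime.coprime_iff_not_dvd hp).2 hpk)
  have hxk : orderOf (x ^ k) = p := by
    rw [Nat.Coprime.orderOf_pow (by rw [hxo]; exact hkp), hxo]
  obtain ⟨h, hfh, hhx⟩ := lift_conj f hf hp hpk hxo hxk (h0 := h0) (by rw [hfx, map_pow, hfx, hc])
  refine ⟨x, h, hfx, hfh, hxo, ?_, hhx⟩
  have hpow : ∀ l : ℕ, h ^ l * x * (h ^ l)⁻¹ = x ^ k ^ l := by
    intro l
    induction l with
    | zero => simp
    | succ l ih =>
      have e : h ^ (l + 1) * x * (h ^ (l + 1))⁻¹ = h * (h ^ l * x * (h ^ l)⁻¹) * h⁻¹ := by rw [pow_succ']; group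
      rw [e, ih, ← conj_pow, hhx, ← pow_mul, pow_succ']
  have h1 : h ^ n * x = x * h ^ n := by
    have h2 := hpow n
    have h3 : x ^ k ^ n = x := by
      conv_rhs => rw [← pow_one x]
      rw [pow_eq_pow_iff_modEq, hxo]
      exact hkn
    rw [h3, mul_inv_eq_iff_eq_mul] at h2
    exact h2
  have h2 : h ^ n ∈ f.ker := by rw [MonoidHom.mem_ker, map_pow, hfh, hh]
  by_contra hne
  obtain ⟨l, hl⟩ := hM ⟨h ^ n, h2⟩
  have hl' : (h ^ n) ^ 2 ^ l = 1 := congrArg Subtype.val hl
  have h2m : 2 ∣ orderOf (h ^ n) := by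
    obtain ⟨l', -, hl''⟩ := (Nat.dvd_prime_pow Nat.prime_two).1 (orderOf_dvd_of_pow_eq_one hl')
    rw [hl'']
    refine dvd_pow_self 2 ?_
    rintro rfl
    exact hne (orderOf_eq_one_iff.1 hl'')
  exact h2p (has_mul h1 h2m (dvd_of_eq hxo.symm) ((Nat.coprime_primes Nat.prime_two hp).2 hp2.symm))

end

end Cfsg.Agent.H998.SpAlt
end

-- part: H998/SpAlt/JTwoB
section
/-!
# `J₂` is not a composition factor over 3 of a group with the spectrum of `A₁₀` (helper998, for S3666)
-/

set_option autoImplicit false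

namespace Cfsg.Agent.H998.SpAlt

open Subgroup

universe u v

/-! ### ring computations -/

/-- `A₄` -/
theorem ring_A4 {R : Type*} [Ring R] {T U W : R} (hT : T * T = 1) (hU : U * U = 1) (hTU : T * U = U * T)
    (hWT : W * T = U * W) (hWU : W * U = T * U * W) (h0 : 1 + W + W * W = 0) (h3 : (3 : R) = 0) : T = 1 := by
  have e1 : 1 + T * U * W + U * (W * W) = 0 := by
    have h1 : T * (1 + W + W * W) * T = 0 := by rw [h0, mul_zero, zero_mul]
    have h2 : T * (1 + W + W * W) * T = 1 + T * U * W + U * (W * W) := by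
      have a1 : T * W * T = T * U * W := by rw [mul_assoc, hWT, ← mul_assoc]
      have a2 : T * (W * W) * T = U * (W * W) := by
        calc T * (W * W) * T = T * W * (W * T) := by noncomm_ring
          _ = T * (W * U) * W := by rw [hWT]; noncomm_ring
          _ = (T * T) * U * W * W := by rw [hWU]; noncomm_ring
          _ = _ := by rw [hT]; noncomm_ring
      calc T * (1 + W + W * W) * T = T * T + T * W * T + T * (W * W) * T := by noncomm_ring
        _ = _ := by rw [hT, a1, a2]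
    rw [← h2, h1]
  have e2 : 1 + T * W + T * U * (W * W) = 0 := by
    have h1 : U * (1 + W + W * W) * U = 0 := by rw [h0, mul_zero, zero_mul]
    have a1 : U * (W * U) = T * W := by
      calc U * (W * U) = (U * T) * U * W := by rw [hWU]; noncomm_ring
        _ = T * (U * U) * W := by rw [← hTU]; noncomm_ring
        _ = _ := by rw [hU]; noncomm_ring
    have a2 : W * W * U = T * (W * W) := by
      calc W * W * U = W * (W * U) := by noncomm_ring
        _ = W * T * (U * W) := by rw [hWU]; noncomm_ring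
        _ = U * (W * U) * W := by rw [hWT]; noncomm_ring
        _ = _ := by rw [a1]; noncomm_ring
    have h2 : U * (1 + W + W * W) * U = 1 + T * W + T * U * (W * W) := by
      calc U * (1 + W + W * W) * U = U * U + U * (W * U) + U * (W * W * U) := by noncomm_ring
        _ = 1 + T * W + (U * T) * (W * W) := by rw [hU, a1, a2]; noncomm_ring
        _ = _ := by rw [hTU]
    rw [← h2, h1]
  have e3 : 1 + U * W + T * (W * W) = 0 := by
    have h1 : T * U * (1 + W + W * W) * (T * U) = 0 := by rw [h0, mul_zero, zero_mul]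
    have a0 : T * U * (T * U) = 1 := by
      calc T * U * (T * U) = T * (U * T) * U := by noncomm_ring
        _ = (T * T) * (U * U) := by rw [← hTU]; noncomm_ring
        _ = 1 := by rw [hT, hU, mul_one]
    have a1 : W * (T * U) = T * W := by
      calc W * (T * U) = W * T * U := by noncomm_ring
        _ = U * (W * U) := by rw [hWT]; noncomm_ring
        _ = (U * T) * U * W := by rw [hWU]; noncomm_ring
        _ = T * (U * U) * W := by rw [← hTU]; noncomm_ring
        _ = _ := by rw [hU]; noncomm_ring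
    have a2 : W * W * (T * U) = U * (W * W) := by
      calc W * W * (T * U) = W * (W * (T * U)) := by noncomm_ring
        _ = W * T * W := by rw [a1]; noncomm_ring
        _ = _ := by rw [hWT]; noncomm_ring
    have h2 : T * U * (1 + W + W * W) * (T * U) = 1 + U * W + T * (W * W) := by
      calc T * U * (1 + W + W * W) * (T * U) = T * U * (T * U) + T * U * (W * (T * U)) + T * U * (W * W * (T * U)) := by
            noncomm_ring
        _ = 1 + (T * U) * T * W + T * (U * U) * (W * W) := by rw [a0, a1, a2]; noncomm_ring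
        _ = 1 + U * (T * T) * W + T * (U * U) * (W * W) := by rw [hTU]; noncomm_ring
        _ = _ := by rw [hT, hU]; noncomm_ring
    rw [← h2, h1]
  have e8 : (4 : R) = 1 + 1 + 1 + 1 := by norm_num
  have e4 : 4 + (1 + T + U + T * U) * (W + W * W) = 0 := by
    rw [e8]
    calc (1 + 1 + 1 + 1) + (1 + T + U + T * U) * (W + W * W) =
        (1 + W + W * W) + (1 + T * U * W + U * (W * W)) + (1 + T * W + T * U * (W * W)) + (1 + U * W + T * (W * W)) := by
          noncomm_ring
      _ = 0 := by rw [h0, e1, e2, e3]; simp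
  have e5 : W + W * W = -1 := by
    have : 1 + (W + W * W) = 0 := by rw [← add_assoc]; exact h0
    exact (neg_eq_of_add_eq_zero_right this).symm
  rw [e5, mul_neg, mul_one, ← sub_eq_add_neg, sub_eq_zero] at e4
  have e6 : T * 4 = 4 := by
    calc T * 4 = T * (1 + T + U + T * U) := by rw [← e4]
      _ = T + T * T + T * U + (T * T) * U := by noncomm_ring
      _ = 1 + T + U + T * U := by rw [hT]; noncomm_ring
      _ = 4 := e4.symm
  have e7 : (4 : R) = 1 := by
    have : (4 : R) = 3 + 1 := by norm_num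
    rw [this, h3, zero_add]
  rw [e7, mul_one] at e6
  exact e6

section

variable {G1 : Type u} [Group G1] [Finite G1] {X : Type v} [Group X] {f : G1 →* X}

/-- the lifts of a part of `N(⟨y⟩)` -/
theorem exists_A5 (hf : Function.Surjective f) (hM : IsPGroup 2 ↥f.ker) {y : G1} (hy : orderOf y = 5)
    (hct : ∀ m ∈ f.ker, m * y = y * m → m = 1) {τ0 w0 t0 : X} (hτ : τ0 * τ0 = 1) (hτy : τ0 * f y * τ0⁻¹ = (f y)⁻¹)
    (hw : w0 * w0 * w0 = 1) (hwy : w0 * f y = f y * w0) (ht : t0 * t0 = 1) (hty : t0 * f y = f y * t0)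
    (h12 : t0 * (w0 * t0 * w0⁻¹) = (w0 * t0 * w0⁻¹) * t0)
    (h3 : w0 * (w0 * t0 * w0⁻¹) * w0⁻¹ = t0 * (w0 * t0 * w0⁻¹)) (hτw : τ0 * w0 = w0 * τ0) :
    ∃ τ w t : G1, f τ = τ0 ∧ f w = w0 ∧ f t = t0 ∧ τ * τ = 1 ∧ τ * y * τ⁻¹ = y⁻¹ ∧ w * w * w = 1 ∧ w * y = y * w ∧
      t * t = 1 ∧ t * y = y * t ∧ t * (w * t * w⁻¹) = (w * t * w⁻¹) * t ∧
      w * (w * t * w⁻¹) * w⁻¹ = t * (w * t * w⁻¹) ∧ τ * w = w * τ := by
  have h5p : Nat.Prime 5 := by norm_num
  have h5k : ¬ 5 ∣ Nat.card f.ker := not_dvd_ker hM h5p (by norm_num)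
  obtain ⟨τ, hfτ, e1⟩ := lift_conj f hf h5p h5k hy (x' := y⁻¹) (by rw [orderOf_inv, hy]) (h0 := τ0)
    (by rw [hτy, map_inv])
  obtain ⟨w, hfw, e2⟩ := lift_conj f hf h5p h5k hy hy (h0 := w0) (by rw [hwy, mul_inv_cancel_right])
  obtain ⟨t, hft, e3⟩ := lift_conj f hf h5p h5k hy hy (h0 := t0) (by rw [hty, mul_inv_cancel_right])
  have e2' : w * y = y * w := mul_inv_eq_iff_eq_mul.1 e2
  have e3' : t * y = y * t := mul_inv_eq_iff_eq_mul.1 e3
  set N : Subgroup G1 := normalizer (zpowers y : Set G1) with hN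
  have hNmem : ∀ n : G1, n * y * n⁻¹ ∈ zpowers y → n ∈ N := by
    intro n hn
    rw [hN, mem_normalizer_iff]
    have h1 : (zpowers y).map (MulAut.conj n).toMonoidHom = zpowers y := by
      refine Subgroup.eq_of_le_of_card_ge ?_ ?_
      · rw [Subgroup.map_le_iff_le_comap, zpowers_le]
        exact hn
      · exact (Nat.card_congr ((zpowers y).equivMapOfInjective _ (MulAut.conj n).injective).toEquiv).le
    intro h
    constructor
    · intro hh
      have h2 : (MulAut.conj n) h ∈ (zpowers y).map (MulAut.conj n).toMonoidHom := ⟨h, hh, rfl⟩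
      rw [h1] at h2
      exact h2
    · intro hh
      have h2 : n * h * n⁻¹ ∈ (zpowers y).map (MulAut.conj n).toMonoidHom := by rw [h1]; exact hh
      obtain ⟨h', hh', e⟩ := h2
      have : h' = h := (MulAut.conj n).injective e
      rwa [← this]
  have inj : ∀ u v : G1, u ∈ N → v ∈ N → f u = f v → u = v := by
    intro u v hu hv he
    have h1 : u * v⁻¹ ∈ f.ker := by rw [MonoidHom.mem_ker, map_mul, map_inv, he, mul_inv_cancel]
    have h2 : u * v⁻¹ ∈ N := mul_mem hu (inv_mem hv)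
    have h3 : (u * v⁻¹) * y * (u * v⁻¹)⁻¹ ∈ zpowers y := (mem_normalizer_iff.1 h2 y).1 (mem_zpowers y)
    set n := u * v⁻¹ with hn
    have h4 : n * y * n⁻¹ * y⁻¹ ∈ f.ker := by
      have : n * y * n⁻¹ * y⁻¹ = n * (y * n⁻¹ * y⁻¹) := by group
      rw [this]
      exact mul_mem h1 (f.normal_ker.conj_mem _ (inv_mem h1) y)
    have h5 : n * y * n⁻¹ * y⁻¹ ∈ zpowers y := mul_mem h3 (inv_mem (mem_zpowers y))
    have h6 : n * y * n⁻¹ * y⁻¹ = 1 := by
      have h7 := Subgroup.orderOf_dvd_natCard _ h5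
      rw [Nat.card_zpowers, hy] at h7
      rcases (Nat.dvd_prime h5p).1 h7 with h8 | h8
      · exact orderOf_eq_one_iff.1 h8
      · exact absurd (h8 ▸ Subgroup.orderOf_dvd_natCard _ h4) h5k
    have h7 : n * y = y * n := by
      rw [mul_inv_eq_one, mul_inv_eq_iff_eq_mul] at h6
      exact h6
    exact mul_inv_eq_one.1 (hct n h1 h7)
  have nτ : τ ∈ N := hNmem τ (by rw [e1]; exact inv_mem (mem_zpowers y))
  have nw : w ∈ N := hNmem w (by rw [e2]; exact mem_zpowers y)
  have nt : t ∈ N := hNmem t (by rw [e3]; exact mem_zpowers y)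
  have nu : w * t * w⁻¹ ∈ N := mul_mem (mul_mem nw nt) (inv_mem nw)
  refine ⟨τ, w, t, hfτ, hfw, hft, ?_, e1, ?_, e2', ?_, e3', ?_, ?_, ?_⟩
  · exact inj _ _ (mul_mem nτ nτ) (one_mem _) (by rw [map_mul, hfτ, hτ, map_one])
  · exact inj _ _ (mul_mem (mul_mem nw nw) nw) (one_mem _) (by rw [map_mul, map_mul, hfw, hw, map_one])
  · exact inj _ _ (mul_mem nt nt) (one_mem _) (by rw [map_mul, hft, ht, map_one])
  · exact inj _ _ (mul_mem nt nu) (mul_mem nu nt) (by simp only [map_mul, map_inv, hft, hfw]; exact h12)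
  · exact inj _ _ (mul_mem (mul_mem nw nu) (inv_mem nw)) (mul_mem nt nu)
      (by simp only [map_mul, map_inv, hft, hfw]; exact h3)
  · exact inj _ _ (mul_mem nτ nw) (mul_mem nw nτ) (by rw [map_mul, map_mul, hfτ, hfw, hτw])

end

section

variable {G : Type*} [Group G] {G1 : Type*} [Group G1]
  {A : Type*} [AddCommGroup A] {ρ : G1 →* AddMonoid.End A}

theorem ten_sum {B : AddMonoid.End A} {a b : A} (h1 : B a = b) (h2 : B b = a) :
    (∑ i ∈ Finset.range 10, B ^ i) a = 5 • (a + b) := by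
  have h : ∀ n, (B ^ (2 * n)) a = a := by
    intro n
    induction n with
    | zero => rfl
    | succ n ih =>
      have e : 2 * (n + 1) = 2 * n + 2 := by ring
      rw [e, pow_add]
      show (B ^ (2 * n)) ((B ^ 2) a) = a
      have : (B ^ 2) a = a := by
        rw [sq]
        show B (B a) = a
        rw [h1, h2]
      rw [this, ih]
  have h' : ∀ n, (B ^ (2 * n + 1)) a = b := by
    intro n
    rw [pow_succ']
    show B ((B ^ (2 * n)) a) = b
    rw [h, h1]
  have e : (∑ i ∈ Finset.range 10, B ^ i) a = ∑ i ∈ Finset.range 10, (B ^ i) a := by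
    simp only [Finset.sum_range_succ, Finset.sum_range_zero]
    rfl
  rw [e]
  simp only [Finset.sum_range_succ, Finset.sum_range_zero]
  rw [show (B ^ 0) a = a from rfl, h' 0, h 1, h' 1, h 2, h' 2, h 3, h' 3, h 4, h' 4]
  abel

/-- the case `s = 3` -/
theorem act_three (hA : ∀ a : A, 3 • a = 0) (hnm : ∀ g : G1, nm ρ g (orderOf g) ≠ 0 → Has G (orderOf g * 3))
    (h30 : ¬ Has G 30) (h18 : ¬ Has G 18) {y τ w t : G1} (hy : orderOf y = 5) (hτ : τ * τ = 1) (hτ1 : τ ≠ 1)
    (hτy : τ * y * τ⁻¹ = y⁻¹)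
    (hw : w * w * w = 1) (hw1 : w ≠ 1) (hwy : w * y = y * w) (ht : t * t = 1) (ht1 : t ≠ 1) (hty : t * y = y * t)
    (h12 : t * (w * t * w⁻¹) = (w * t * w⁻¹) * t) (h3 : w * (w * t * w⁻¹) * w⁻¹ = t * (w * t * w⁻¹))
    (hτw : τ * w = w * τ) : ρ t = 1 := by
  set u := w * t * w⁻¹ with hu
  have hu1 : u ≠ 1 := by
    intro h
    apply ht1
    have : w⁻¹ * u * w = t := by rw [hu]; group
    rw [← this, h]
    group
  have huu : u * u = 1 := by
    rw [hu, show w * t * w⁻¹ * (w * t * w⁻¹) = w * (t * t) * w⁻¹ by group, ht]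
    group
  have huy : u * y = y * u := by
    have c1 : Commute w y := hwy
    have c2 : Commute t y := hty
    exact ((c1.mul_left c2).mul_left c1.inv_left).eq
  have htu1 : t * u ≠ 1 := by
    rw [← h3]
    intro h
    apply hu1
    have : w⁻¹ * (w * u * w⁻¹) * w = u := by group
    rw [← this, h]
    group
  have htu2 : t * u * (t * u) = 1 := by
    calc t * u * (t * u) = t * (u * t) * u := by group
      _ = t * (t * u) * u := by rw [h12]
      _ = (t * t) * (u * u) := by group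
      _ = 1 := by rw [ht, huu, one_mul]
  have htuy : t * u * y = y * (t * u) := by
    have c1 : Commute u y := huy
    have c2 : Commute t y := hty
    exact (c2.mul_left c1).eq
  -- fixed points of `y`
  have inv_step : ∀ r : G1, r * r = 1 → r ≠ 1 → r * y = y * r → ∀ a : A, ρ y a = a → ρ r a = -a := by
    intro r hr hr1 hry a ha
    have hro : orderOf r = 2 := orderOf_eq_prime (by rw [sq]; exact hr) hr1 (hp := ⟨Nat.prime_two⟩)
    have ho : orderOf (r * y) = 10 := by
      rw [(show Commute r y from hry).orderOf_mul_eq_mul_orderOf_of_coprime (by rw [hro, hy]; norm_num), hro, hy]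
    have h0 : nm ρ (r * y) 10 = 0 := by
      by_contra hne
      have := hnm (r * y) (by rw [ho]; exact hne)
      rw [ho] at this
      exact h30 this
    have h1 : ρ (r * y) a = ρ r a := by
      rw [map_mul]
      show ρ r (ρ y a) = ρ r a
      rw [ha]
    have h2 : ρ (r * y) (ρ r a) = a := by
      have e : r * y * r = y := by rw [mul_assoc, ← hry, ← mul_assoc, hr, one_mul]
      have : ρ (r * y) (ρ r a) = ρ (r * y * r) a := by
        rw [map_mul ρ (r * y) r]
        rfl
      rw [this, e, ha]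
    have h3 : 5 • (a + ρ r a) = 0 := by
      rw [← ten_sum h1 h2]
      have : (∑ i ∈ Finset.range 10, ρ (r * y) ^ i) = 0 := h0
      rw [this]
      rfl
    have h4 := hA (a + ρ r a)
    have h5 : a + ρ r a = 0 := by
      have : a + ρ r a = 2 • (3 • (a + ρ r a)) - 5 • (a + ρ r a) := by abel
      rw [this, h3, h4, smul_zero, sub_zero]
    exact (neg_eq_of_add_eq_zero_right h5).symm
  have hfix : ∀ a : A, ρ y a = a → a = 0 := by
    intro a ha
    have e1 := inv_step t ht ht1 hty a ha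
    have e2 := inv_step u huu hu1 huy a ha
    have e3 := inv_step (t * u) htu2 htu1 htuy a ha
    have e4 : ρ (t * u) a = a := by
      rw [map_mul]
      show ρ t (ρ u a) = a
      rw [e2, map_neg, e1, neg_neg]
    rw [e4] at e3
    have e5 : a = 3 • a - (a + a) := by abel
    rw [e5, hA a, zero_sub, neg_eq_zero]
    nth_rewrite 1 [e3]
    abel
  -- the element `w`
  have hwo : orderOf w = 3 := orderOf_eq_prime (by rw [pow_succ, sq]; exact hw) hw1 (hp := ⟨Nat.prime_three⟩)
  have step : ∀ r : G1, r * r = 1 → r ≠ 1 → r * w = w * r → ∀ a : A, ρ r (a + ρ w a + ρ w (ρ w a)) =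
      -(a + ρ w a + ρ w (ρ w a)) := by
    intro r hr hr1 hrw a
    have hro : orderOf r = 2 := orderOf_eq_prime (by rw [sq]; exact hr) hr1 (hp := ⟨Nat.prime_two⟩)
    have ho : orderOf (r * w) = 6 := by
      rw [(show Commute r w from hrw).orderOf_mul_eq_mul_orderOf_of_coprime (by rw [hro, hwo]; norm_num), hro, hwo]
    have h0 : nm ρ (r * w) 6 = 0 := by
      by_contra hne
      have := hnm (r * w) (by rw [ho]; exact hne)
      rw [ho] at this
      exact h18 this
    have hR : ρ r * ρ r = 1 := by rw [← map_mul, hr, map_one]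
    have hW : ρ w * ρ w * ρ w = 1 := by rw [← map_mul, ← map_mul, hw, map_one]
    have hRW : ρ r * ρ w = ρ w * ρ r := by rw [← map_mul, hrw, map_mul]
    have h1 : nm ρ (r * w) 6 = (1 + ρ r) * (1 + ρ w + ρ w * ρ w) := by
      unfold nm
      simp only [Finset.sum_range_succ, Finset.sum_range_zero, map_mul]
      have c : Commute (ρ r) (ρ w) := hRW
      have p2 : (ρ r * ρ w) ^ 2 = ρ w * ρ w := by rw [c.mul_pow, sq, sq, hR, one_mul]
      have p3 : (ρ r * ρ w) ^ 3 = ρ r := by
        rw [c.mul_pow, pow_succ (ρ w), sq (ρ w), hW, mul_one, pow_succ, sq, hR, one_mul]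
      have p4 : (ρ r * ρ w) ^ 4 = ρ w := by
        rw [show 4 = 3 + 1 from rfl, pow_succ, p3, ← mul_assoc, hR, one_mul]
      have p5 : (ρ r * ρ w) ^ 5 = ρ r * (ρ w * ρ w) := by
        rw [show 5 = 3 + 2 from rfl, pow_add, p3, p2]
      rw [pow_zero, pow_one, p2, p3, p4, p5]
      noncomm_ring
    rw [h0] at h1
    have h2 : (a + ρ w a + ρ w (ρ w a)) + ρ r (a + ρ w a + ρ w (ρ w a)) = 0 := by
      have h3 := DFunLike.congr_fun h1.symm a
      exact h3
    exact (neg_eq_of_add_eq_zero_right h2).symm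
  have hNW : ∀ a : A, a + ρ w a + ρ w (ρ w a) = 0 := by
    intro a
    apply hfix
    set c := a + ρ w a + ρ w (ρ w a) with hc
    have e1 : ρ τ c = -c := step τ hτ hτ1 hτw a
    have hτy' : τ * y = y⁻¹ * τ := mul_inv_eq_iff_eq_mul.1 hτy
    have e2 : ρ (τ * y) c = -c := by
      refine step (τ * y) ?_ ?_ ?_ a
      · calc τ * y * (τ * y) = (τ * y) * τ * y := by group
          _ = y⁻¹ * (τ * τ) * y := by rw [hτy']; group
          _ = 1 := by rw [hτ]; group
      · intro h
        have h1 : y = τ⁻¹ := eq_inv_of_mul_eq_one_right h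
        have h2 : orderOf y ∣ 2 := by
          rw [h1, orderOf_inv]
          exact orderOf_dvd_of_pow_eq_one (by rw [sq, hτ])
        rw [hy] at h2
        omega
      · rw [mul_assoc, ← hwy, ← mul_assoc, hτw, mul_assoc]
    rw [map_mul] at e2
    have e3 : ρ τ (ρ y c) = -c := e2
    have e4 : ρ τ (ρ τ (ρ y c)) = ρ y c := by
      have : ρ τ * ρ τ = 1 := by rw [← map_mul, hτ, map_one]
      exact DFunLike.congr_fun this (ρ y c)
    rw [e3, map_neg, e1, neg_neg] at e4
    exact e4.symm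
  -- the four-group
  refine ring_A4 (T := ρ t) (U := ρ u) (W := ρ w) (by rw [← map_mul, ht, map_one]) (by rw [← map_mul, huu, map_one])
    (by rw [← map_mul, h12, map_mul]) ?_ ?_ ?_ ?_
  · rw [← map_mul, ← map_mul]
    congr 1
    rw [hu]
    group
  · rw [← map_mul, ← map_mul, ← map_mul, ← h3]
    congr 1
    group
  · ext a
    exact hNW a
  · ext a
    show ((3 : ℕ) : AddMonoid.End A) a = 0
    rw [AddMonoid.End.natCast_apply]
    exact hA a

end

end Cfsg.Agent.H998.SpAlt
end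

-- part: H998/SpAlt/JTwoC
section
/-!
# The core of the case `n = 10` (helper998, for S3666)
-/

set_option autoImplicit false

namespace Cfsg.Agent.H998.SpAlt

open Subgroup

universe u v

/-- the data of `J₂` which are used -/
def DJ2 (X : Type*) [Group X] : Prop :=
  (∃ x h : X, orderOf x = 7 ∧ h ^ 6 = 1 ∧ h * x * h⁻¹ = x ^ 3) ∧
  (∃ (y a b g c1 c2 d1 d2 : X) (i j : ℕ), orderOf y = 5 ∧ a * a = 1 ∧ a * y = y * a ∧ b * b = 1 ∧ b * y = y * b ∧
    g * y * g⁻¹ = y ^ i * (a * b) ^ j ∧ c1 * c1 = 1 ∧ c1 * y = y * c1 ∧ c2 * c2 = 1 ∧ c2 * y = y * c2 ∧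
    d1 * d1 = 1 ∧ d1 * (y ^ i * (a * b) ^ j) = (y ^ i * (a * b) ^ j) * d1 ∧
    d2 * d2 = 1 ∧ d2 * (y ^ i * (a * b) ^ j) = (y ^ i * (a * b) ^ j) * d2 ∧ orderOf (c1 * c2 * (d1 * d2)) = 7 ∧
    ∃ τ w t : X, τ * τ = 1 ∧ τ ≠ 1 ∧ τ * y * τ⁻¹ = y⁻¹ ∧ w * w * w = 1 ∧ w ≠ 1 ∧ w * y = y * w ∧ t * t = 1 ∧ t ≠ 1 ∧
      t * y = y * t ∧ t * (w * t * w⁻¹) = (w * t * w⁻¹) * t ∧ w * (w * t * w⁻¹) * w⁻¹ = t * (w * t * w⁻¹) ∧
      τ * w = w * τ) ∧
  ∃ e : X, orderOf e = 8

section

variable {G1 : Type*} [Group G1] {A : Type*} [AddCommGroup A] {ρ : G1 →* AddMonoid.End A}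

/-- the order of the complement -/
theorem orderOf_frob {t : ℕ} {x h : G1} (hx : orderOf x = t) {m k : ℕ} (hm : 1 ≤ m) (hh : h ^ m = 1)
    (hc : h * x * h⁻¹ = x ^ k) (hk : ∀ i, 0 < i → i < m → ¬ k ^ i ≡ 1 [MOD t]) :
    orderOf h = m ∧ ∀ i, h ^ i * x * (h ^ i)⁻¹ = x ^ k ^ i := by
  have hpow : ∀ l : ℕ, h ^ l * x * (h ^ l)⁻¹ = x ^ k ^ l := by
    intro l
    induction l with
    | zero => simp
    | succ l ih =>
      have e : h ^ (l + 1) * x * (h ^ (l + 1))⁻¹ = h * (h ^ l * x * (h ^ l)⁻¹) * h⁻¹ := by rw [pow_succ']; group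
      rw [e, ih, ← conj_pow, hc, ← pow_mul, pow_succ']
  refine ⟨?_, hpow⟩
  have h1 : orderOf h ∣ m := orderOf_dvd_of_pow_eq_one hh
  have h2 : orderOf h ≤ m := Nat.le_of_dvd hm h1
  have h3 : 0 < orderOf h := Nat.pos_of_dvd_of_pos h1 hm
  by_contra hne
  have h4 : orderOf h < m := lt_of_le_of_ne h2 hne
  apply hk _ h3 h4
  have h5 := hpow (orderOf h)
  rw [pow_orderOf_eq_one, one_mul, inv_one, mul_one] at h5
  have h6 : x ^ k ^ orderOf h = x ^ 1 := by rw [pow_one]; exact h5.symm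
  rw [pow_eq_pow_iff_modEq, hx] at h6
  exact h6

/-- **Frobenius groups with cyclic kernel.** -/
theorem act_frob {s : ℕ} (hA : ∀ a : A, s • a = 0) {t : ℕ} (ht : t.Prime) (hts : t.Coprime s) {x h : G1}
    (hx : orderOf x = t) {m k : ℕ} (hm : 1 ≤ m) (hh : h ^ m = 1) (hc : h * x * h⁻¹ = x ^ k)
    (hk : ∀ i, 0 < i → i < m → ¬ k ^ i ≡ 1 [MOD t]) (h0 : nm ρ h m = 0) : ρ x = 1 := by
  have hfin : Finite ↥(zpowers x) :=
    Nat.finite_of_card_ne_zero (by rw [Nat.card_zpowers, hx]; exact ht.ne_zero)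
  have hft : Fintype ↥(zpowers x) := Fintype.ofFinite _
  have hcard : Fintype.card ↥(zpowers x) = t := by rw [← Nat.card_eq_fintype_card, Nat.card_zpowers, hx]
  obtain ⟨-, hpow⟩ := orderOf_frob hx hm hh hc hk
  have hs0 : ((s : ℕ) : AddMonoid.End A) = 0 := by
    ext a
    rw [AddMonoid.End.natCast_apply]
    exact hA a
  refine frob_trivial ρ hs0 (T := zpowers x) (by rw [hcard]; exact hts) hm (x := h) ?_ ?_ h0 x (mem_zpowers x)
  · rintro _ ⟨j, rfl⟩
    show h * x ^ j * h⁻¹ ∈ zpowers x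
    rw [← conj_zpow, hc]
    exact zpow_mem (pow_mem (mem_zpowers x) k) j
  · rintro i hi him _ ⟨j, rfl⟩ he
    have h1 : h ^ i * x ^ j * (h ^ i)⁻¹ = x ^ j := he
    rw [← conj_zpow, hpow] at h1
    show x ^ j = 1
    -- `x ^ (j (k ^ i - 1)) = 1`
    have h2 : x ^ (((k ^ i : ℕ) : ℤ) * j - j) = 1 := by
      rw [zpow_sub, zpow_mul, zpow_natCast, h1, mul_inv_cancel]
    have h3 : (t : ℤ) ∣ (((k ^ i : ℕ) : ℤ) - 1) * j := by
      have := orderOf_dvd_iff_zpow_eq_one.2 h2
      rw [hx] at this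
      have e : ((k ^ i : ℕ) : ℤ) * j - j = (((k ^ i : ℕ) : ℤ) - 1) * j := by ring
      rwa [e] at this
    rcases (Nat.prime_iff_prime_int.1 ht).dvd_or_dvd h3 with h4 | h4
    · exfalso
      apply hk i hi him
      have h5 : (1 : ℤ) ≡ ((k ^ i : ℕ) : ℤ) [ZMOD t] := (Int.modEq_iff_dvd).2 h4
      exact ((Int.natCast_modEq_iff).1 (by exact_mod_cast h5)).symm
    · rw [← hx] at h4
      exact orderOf_dvd_iff_zpow_eq_one.1 h4

end

/-- **`J₂`** -/
theorem jtwo_core {G : Type u} [Group G] [Finite G] {X : Type v} [Group X] [IsSimpleGroup X] (hD : DJ2 X)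
    (f : G →* X) (hf : Function.Surjective f) (hsol : Group.IsSolvable ↥f.ker) (h3 : 3 ∣ Nat.card f.ker)
    (hpr : ∀ p : ℕ, p.Prime → p ∣ Nat.card f.ker → p ≤ 5) (h14 : ¬ Has G 14) (h20 : ¬ Has G 20) (h30 : ¬ Has G 30)
    (h18 : ¬ Has G 18) (h35 : ¬ Has G 35) (h24 : ¬ Has G 24) : False := by
  obtain ⟨G', _, _, q, f', V, s, hq, hqf, hVn, hVK, hV1, hVc, hs, hs2, hVs, -, hrel, -⟩ :=
    exists_layer (fun p => p ≠ 2) _ G rfl f hf hsol ⟨3, Nat.prime_three, by norm_num, h3⟩
  have hf' : Function.Surjective f' := by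
    intro x
    obtain ⟨g, rfl⟩ := hf x
    exact ⟨q g, hqf g⟩
  -- `s ∈ {3, 5}`
  have hs5 : s = 3 ∨ s = 5 := by
    have h1 : s ∣ Nat.card V := by
      have := Fact.mk hs
      have hVp : IsPGroup s ↥V := fun v => ⟨1, Subtype.ext (by rw [pow_one]; exact hVs v v.2)⟩
      obtain ⟨k, hk⟩ := (IsPGroup.iff_card).1 hVp
      rw [hk]
      refine dvd_pow_self s ?_
      rintro rfl
      rw [pow_zero] at hk
      exact hV1 (Subgroup.card_eq_one.1 hk)
    have h2 : Nat.card f'.ker ∣ Nat.card f.ker := by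
      have h4 : f'.ker = f.ker.map q := by
        ext z
        obtain ⟨g, rfl⟩ := hq z
        constructor
        · intro h
          exact ⟨g, MonoidHom.mem_ker.2 (by rw [← hqf]; exact h), rfl⟩
        · rintro ⟨g', hg', e⟩
          rw [← e]
          exact MonoidHom.mem_ker.2 (by rw [hqf]; exact hg')
      rw [h4]
      exact Subgroup.card_map_dvd _ _
    have h5 := hpr s hs ((h1.trans (Subgroup.card_dvd_of_le hVK)).trans h2)
    have h6 := hs.two_le
    interval_cases s
    · exact absurd rfl hs2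
    · exact Or.inl rfl
    · exact absurd hs (by norm_num)
    · exact Or.inr rfl
  -- the quotient
  have hfVK : V ≤ f'.ker := hVK
  let f1 : G' ⧸ V →* X := QuotientGroup.lift V f' fun v hv => hfVK hv
  have hf1 : Function.Surjective f1 := by
    intro x
    obtain ⟨g, rfl⟩ := hf' x
    exact ⟨(g : G' ⧸ V), rfl⟩
  have hk1 : f1.ker = f'.ker.map (QuotientGroup.mk' V) := by
    ext z
    obtain ⟨g, rfl⟩ := QuotientGroup.mk'_surjective V z
    constructor
    · intro h
      exact ⟨g, h, rfl⟩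
    · rintro ⟨g', hg', e⟩
      rw [← e]
      exact hg'
  have hcard1 : Nat.card f1.ker = V.relIndex f'.ker := by
    have h3 : ((QuotientGroup.mk' V).ker).relIndex f'.ker = Nat.card ↥(f'.ker.map (QuotientGroup.mk' V)) :=
      Subgroup.relIndex_ker _ _
    rw [QuotientGroup.ker_mk'] at h3
    rw [hk1, h3]
  have hM : IsPGroup 2 ↥f1.ker := isPGroup_ker fun p hp hp2 => by rw [hcard1]; exact hrel p hp hp2
  have hG' : ∀ m, Has G' m → Has G m := fun m h => Has.of_surj q hq h
  have hG1 : ∀ m, Has (G' ⧸ V) m → Has G' m := fun m h => Has.of_surj _ (QuotientGroup.mk'_surjective V) h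
  obtain ⟨A, _, _, _, ρ, hA, hnm, -⟩ := exists_qact hVn hV1 hVc hs hVs
  obtain ⟨⟨x0, h0, hx0, hh0, hxh⟩, ⟨y0, a0, b0, g0, c1, c2, d1, d2, i, j, hy0, ha, hay, hb, hby, hg, hc1, hc1y, hc2,
    hc2y, hd1, hd1y, hd2, hd2y, h7, τ0, w0, t0, hτ, hτ1, hτy, hw, hw1, hwy, ht, ht1, hty, h12, h3', hτw⟩, e0, he0⟩ := hD
  rcases hs5 with rfl | rfl
  · -- `s = 3`
    obtain ⟨y, rfl, hy⟩ := exists_lift f1 hf1 hy0 ((Nat.Prime.coprime_iff_not_dvd (by norm_num)).2
      (not_dvd_ker hM (by norm_num : Nat.Prime 5) (by norm_num)))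
    have hct := cent_triv hf1 hM (fun h => h20 (hG' _ (hG1 _ h))) (fun h => h14 (hG' _ (hG1 _ h))) hy ha hay hb hby hg
      hc1 hc1y hc2 hc2y hd1 hd1y hd2 hd2y h7
    obtain ⟨τ, w, t, hfτ, hfw, hft, e1, e2, e3, e4, e5, e6, e7, e8, e9⟩ := exists_A5 hf1 hM hy hct hτ hτy hw hwy ht hty
      h12 h3' hτw
    have hne : ∀ {z : G' ⧸ V} {z0 : X}, f1 z = z0 → z0 ≠ 1 → z ≠ 1 := by
      rintro z z0 h1 h2 rfl
      exact h2 (by rw [← h1, map_one])
    have hρ := act_three (G := G') hA hnm (fun h => h30 (hG' _ h)) (fun h => h18 (hG' _ h)) hy e1 (hne hfτ hτ1) e2 e3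
      (hne hfw hw1) e4 e5 (hne hft ht1) e6 e7 e8 e9
    exact h24 (hG' _ (trivial_has f1 hf1 hs hA hnm hG1 hρ (by rw [hft]; exact ht1) he0 (by norm_num)))
  · -- `s = 5`
    obtain ⟨x, h, hfx, hfh, hxo, hh6, hhx⟩ := exists_frob hf1 hM (by norm_num : Nat.Prime 7) (by norm_num)
      (fun h => h14 (hG' _ (hG1 _ h))) hx0 hh0 hxh (by decide) (by norm_num)
    have hk : ∀ i, 0 < i → i < 6 → ¬ 3 ^ i ≡ 1 [MOD 7] := by
      intro i hi hi6
      interval_cases i <;> decide
    have hho := (orderOf_frob hxo (by norm_num) hh6 hhx hk).1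
    have hn0 : nm ρ h 6 = 0 := by
      by_contra hne
      have := hnm h (by rw [hho]; exact hne)
      rw [hho] at this
      exact h30 (hG' _ this)
    have hρ := act_frob hA (by norm_num : Nat.Prime 7) (by norm_num) hxo (by norm_num) hh6 hhx hk hn0
    refine h35 (hG' _ (trivial_has f1 hf1 hs hA hnm hG1 hρ ?_ hx0 (by norm_num)))
    rw [hfx]
    intro h1
    rw [h1, orderOf_one] at hx0
    omega

end Cfsg.Agent.H998.SpAlt
end
end

-- part: H61/SpAltFinal
section
set_option linter.all false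
open scoped Cfsg.Agent.FastGrp

-- part: H61/SpAltTop
section
/-!
# The top factor of a nilpotent kernel (helper61)

`f : G →* X` surjective with nilpotent kernel, `s` a prime dividing the order of the kernel.

* `exists_top` : `X` acts on a nontrivial elementary abelian `s`-group, nonzero norms give elements of `G`;
* `nil_frob` : a Frobenius group `r : e` in `X`: `e s ∈ ω(G)` or `m s ∈ ω(G)` for all `m ∈ ω(X)` prime to `s`;
* `nil_klein` : `2² × A₄` in `X`, `s = 3`: `18 ∈ ω(G)` or `3 m ∈ ω(G)` for all `m ∈ ω(X)` prime to `3`.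
-/

set_option autoImplicit false

namespace Cfsg.Agent.H61.SpAlt

open Subgroup Cfsg.Agent.H998.SpAlt

universe u v

section Norm

variable {G : Type*} [Group G] {R : Type*} [Ring R] (ρ : G →* R)

theorem nm_mul {g : G} {e : ℕ} (h : ρ g ^ e = 1) (c : ℕ) : nm ρ g (e * c) = c • nm ρ g e := by
  induction c with
  | zero => simp [nm]
  | succ c ih =>
    have h1 : nm ρ g (e * (c + 1)) = nm ρ g (e * c) + nm ρ g e := by
      unfold nm
      rw [mul_add, mul_one, Finset.sum_range_add]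
      congr 1
      refine Finset.sum_congr rfl fun i _ => ?_
      rw [pow_add, pow_mul, h, one_pow, one_mul]
    rw [h1, ih, succ_nsmul]

end Norm

/-- **The top factor.** -/
theorem exists_top {G : Type u} [Group G] [Finite G] {X : Type v} [Group X] (f : G →* X)
    (hf : Function.Surjective f) (hn : Group.IsNilpotent ↥f.ker) {s : ℕ} (hs : s.Prime) (hsd : s ∣ Nat.card f.ker) :
    ∃ (A : Type u) (_ : AddCommGroup A) (_ : Nontrivial A) (_ : Finite A) (ρ : X →* AddMonoid.End A),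
      (∀ a : A, s • a = 0) ∧ ∀ x : X, nm ρ x (orderOf x) ≠ 0 → Has G (orderOf x * s) := by
  obtain ⟨G', _, _, q, f', V, s', hq, hqf, hVn, hVK, hV1, hVc, hs', hss, hVs, -, hrel, -⟩ :=
    exists_layer (fun p => p = s) _ G rfl f hf (have := hn; inferInstance) ⟨s, hs, rfl, hsd⟩
  obtain rfl : s' = s := hss
  have hf' : Function.Surjective f' := by
    intro x
    obtain ⟨g, rfl⟩ := hf x
    exact ⟨q g, hqf g⟩
  have hk' : f'.ker = f.ker.map q := by
    ext z
    obtain ⟨g, rfl⟩ := hq z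
    constructor
    · intro h
      exact ⟨g, MonoidHom.mem_ker.2 (by rw [← hqf]; exact h), rfl⟩
    · rintro ⟨g', hg', e⟩
      rw [← e]
      exact MonoidHom.mem_ker.2 (by rw [hqf]; exact hg')
  have hn' : Group.IsNilpotent ↥f'.ker := by
    rw [hk']
    have := hn
    exact Group.nilpotent_of_surjective (q.subgroupMap f.ker) (q.subgroupMap_surjective f.ker)
  set n := V.relIndex f'.ker with hn0
  have hns : n.Coprime s' := by
    rw [Nat.coprime_comm]
    exact (Nat.Prime.coprime_iff_not_dvd hs).2 (hrel s' hs rfl)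
  have hpow : ∀ g ∈ f'.ker, g ^ n ∈ V := by
    intro g hg
    have hVn' : (V.subgroupOf f'.ker).Normal := Subgroup.normal_subgroupOf
    have h1 := (V.subgroupOf f'.ker).pow_index_mem ⟨g, hg⟩
    exact h1
  obtain ⟨A, iA, ρ, ι, h1, h2, h3, h4, h5⟩ := exists_act V hVc
  have h0 := iota_zero h4
  have hsmul : ∀ (a : A) (n : ℕ), ι (n • a) = ι a ^ n := by
    intro a n
    induction n with
    | zero => rw [zero_smul, h0, pow_zero]
    | succ n ih => rw [succ_nsmul, h4, ih, pow_succ]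
  have hA : ∀ a : A, s' • a = 0 := by
    intro a
    apply h1
    rw [hsmul, h0]
    exact hVs _ (h2 a)
  have hnt : Nontrivial A := by
    obtain ⟨⟨v, hv⟩, hv1'⟩ := Subgroup.ne_bot_iff_exists_ne_one.1 hV1
    have hv1 : v ≠ 1 := fun h => hv1' (Subtype.ext h)
    obtain ⟨a, rfl⟩ := h3 v hv
    exact ⟨a, 0, fun h => hv1 (by rw [h, h0])⟩
  -- the kernel centralizes `V`
  have hcent : ∀ g ∈ f'.ker, ∀ v ∈ V, Commute g v := by
    intro g hg v hv
    obtain ⟨a, b, hab⟩ := (Nat.isCoprime_iff_coprime.2 hns : IsCoprime ((n : ℕ) : ℤ) ((s' : ℕ) : ℤ))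
    have e1 : g = (g ^ n) ^ a * (g ^ s') ^ b := by
      rw [← zpow_natCast, ← zpow_natCast, ← zpow_mul, ← zpow_mul, ← zpow_add, mul_comm (n : ℤ) a,
        mul_comm (s' : ℤ) b, hab, zpow_one]
    have c1 : Commute (g ^ n) v := hVc _ (hpow g hg) v hv
    have c2 : Commute (g ^ s') v := by
      have hgk : g ^ s' ∈ f'.ker := pow_mem hg _
      have hcop : (orderOf (g ^ s')).Coprime (orderOf v) := by
        have d1 : orderOf (g ^ s') ∣ n := by
          apply orderOf_dvd_of_pow_eq_one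
          rw [← pow_mul, mul_comm, pow_mul]
          exact hVs _ (hpow g hg)
        have d2 : orderOf v ∣ s' := orderOf_dvd_of_pow_eq_one (hVs v hv)
        exact (hns.coprime_dvd_left d1).coprime_dvd_right d2
      have := S0577.commute_of_coprime_orderOf (⟨_, hgk⟩ : f'.ker) ⟨v, hVK hv⟩ (by
        rw [Subgroup.orderOf_mk, Subgroup.orderOf_mk]; exact hcop)
      exact congrArg Subtype.val this
    rw [e1]
    exact (c1.zpow_left a).mul_left (c2.zpow_left b)
  have hker : ∀ g ∈ f'.ker, ρ g = 1 := by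
    intro g hg
    ext a
    apply h1
    rw [h5, (hcent g hg _ (h2 a)).eq]
    change ι a * g * g⁻¹ = ι a
    group
  let ρ' : X →* AddMonoid.End A := (QuotientGroup.lift f'.ker ρ hker).comp
    (QuotientGroup.quotientKerEquivOfSurjective f' hf').symm.toMonoidHom
  have hρ' : ∀ g, ρ' (f' g) = ρ g := by
    intro g
    have e1 : (QuotientGroup.quotientKerEquivOfSurjective f' hf').symm (f' g) = (g : G' ⧸ f'.ker) := by
      rw [MulEquiv.symm_apply_eq]
      rfl
    change QuotientGroup.lift f'.ker ρ hker ((QuotientGroup.quotientKerEquivOfSurjective f' hf').symm (f' g)) = _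
    rw [e1]
    rfl
  refine ⟨A, iA, hnt, Finite.of_injective ι h1, ρ', hA, ?_⟩
  intro x hx
  obtain ⟨g, rfl⟩ := hf' x
  set e := orderOf (f' g) with he
  set! m := orderOf (g : G' ⧸ V) with hm
  have hem : e ∣ m := by
    rw [he, hm]
    exact orderOf_map_dvd (QuotientGroup.lift V f' fun v hv => hVK hv) (g : G' ⧸ V)
  have hge : g ^ e ∈ f'.ker := by rw [MonoidHom.mem_ker, map_pow, pow_orderOf_eq_one]
  have hmn : m ∣ e * n := by
    rw [hm]
    apply orderOf_dvd_of_pow_eq_one
    rw [← QuotientGroup.mk_pow, QuotientGroup.eq_one_iff, pow_mul]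
    exact hpow _ hge
  obtain ⟨c, hc⟩ := hem
  have he0 : 0 < e := by
    rw [he]
    exact orderOf_pos_iff.2 (f'.isOfFinOrder (isOfFinOrder_of_finite g))
  have hcn : c ∣ n := by
    rw [hc] at hmn
    exact Nat.dvd_of_mul_dvd_mul_left he0 hmn
  have hcs : ¬ s' ∣ c := by
    intro h
    exact hrel s' hs rfl (h.trans hcn)
  have hρe : ρ g ^ e = 1 := by
    rw [← map_pow]
    exact hker _ hge
  have hnm : nm ρ g m ≠ 0 := by
    rw [hc, nm_mul ρ hρe]
    have h6 : nm ρ g e ≠ 0 := by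
      have : nm ρ' (f' g) e = nm ρ g e := by
        unfold nm
        rw [hρ']
      rwa [this] at hx
    intro h7
    apply h6
    ext a
    by_contra h8
    refine nsmul_ne hs hA hcs (a := nm ρ g e a) h8 ?_
    have := congrArg (fun φ : AddMonoid.End A => φ a) h7
    exact this
  have hfin := has_of_norm hs hVs ρ h1 h2 h4 h5 (g := g) (m := m) ?_ ?_ hnm
  · refine (Has.of_surj q hq hfin).dvd ?_
    rw [hc, mul_assoc, mul_comm c, ← mul_assoc]
    exact Dvd.intro _ rfl
  · rw [← QuotientGroup.eq_one_iff, QuotientGroup.mk_pow, pow_orderOf_eq_one]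
  · intro k hk
    rw [← QuotientGroup.eq_one_iff, QuotientGroup.mk_pow] at hk
    exact orderOf_dvd_of_pow_eq_one hk

section

variable {G : Type u} [Group G] {X : Type v} [Group X]

/-- a trivial action -/
theorem has_of_trivial [IsSimpleGroup X] {A : Type*} [AddCommGroup A] [Nontrivial A] {ρ : X →* AddMonoid.End A}
    {s : ℕ} (hs : s.Prime) (hA : ∀ a : A, s • a = 0)
    (hnm : ∀ x : X, nm ρ x (orderOf x) ≠ 0 → Has G (orderOf x * s)) {t : X} (ht : t ≠ 1) (hρ : ρ t = 1)
    {m : ℕ} (hm : m.Coprime s) (hX : Has X m) : Has G (m * s) := by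
  have htop : ρ.ker = ⊤ := by
    rcases (inferInstance : ρ.ker.Normal).eq_bot_or_eq_top with h | h
    · exfalso
      have h1 : t ∈ ρ.ker := hρ
      rw [h, mem_bot] at h1
      exact ht h1
    · exact h
  obtain ⟨x, rfl⟩ := hX
  apply hnm
  have hx : ρ x = 1 := by
    have : x ∈ ρ.ker := by rw [htop]; exact mem_top _
    exact this
  obtain ⟨a, ha⟩ := exists_ne (0 : A)
  have hsn : ¬ s ∣ orderOf x := by
    intro h
    exact hs.one_lt.ne' (Nat.dvd_one.1 (hm ▸ Nat.dvd_gcd h dvd_rfl))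
  intro h0
  refine nsmul_ne hs hA hsn ha ?_
  have h3 : nm ρ x (orderOf x) a = orderOf x • a := by
    unfold nm
    rw [hx]
    simp only [one_pow, Finset.sum_const, Finset.card_range]
    rfl
  rw [← h3, h0]
  rfl

variable [Finite G]

/-- **Frobenius groups and the top factor.** -/
theorem nil_frob [IsSimpleGroup X] (f : G →* X) (hf : Function.Surjective f) (hn : Group.IsNilpotent ↥f.ker) {s : ℕ}
    (hs : s.Prime) (hsd : s ∣ Nat.card f.ker) {r e k : ℕ} (hr : r.Prime) (hrs : r ≠ s) {a x : X} (ha : orderOf a = r)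
    (hx : orderOf x = e) (he : 1 ≤ e) (hc : x * a * x⁻¹ = a ^ k) (hk : ∀ i, 0 < i → i < e → ¬ k ^ i ≡ 1 [MOD r])
    (hno : ¬ Has G (e * s)) {m : ℕ} (hm : m.Coprime s) (hX : Has X m) : Has G (m * s) := by
  obtain ⟨A, _, _, _, ρ, hA, hnm⟩ := exists_top f hf hn hs hsd
  have h0 : nm ρ x e = 0 := by
    by_contra hne
    rw [← hx] at hne
    exact hno (hx ▸ hnm x hne)
  have h1 := act_frob (ρ := ρ) hA hr ((Nat.coprime_primes hr hs).2 hrs) ha he (by rw [← hx, pow_orderOf_eq_one]) hc hk h0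
  refine has_of_trivial hs hA hnm (t := a) ?_ h1 hm hX
  intro h2
  rw [h2, orderOf_one] at ha
  exact hr.one_lt.ne ha

/-- the Klein four-group -/
def klein (a d : X) (ha : a * a = 1) (hd : d * d = 1) (had : a * d = d * a) : Subgroup X where
  carrier := {z | z = 1 ∨ z = a ∨ z = d ∨ z = a * d}
  one_mem' := Or.inl rfl
  mul_mem' := by
    have e1 : a * (a * d) = d := by rw [← mul_assoc, ha, one_mul]
    have e2 : d * (a * d) = a := by rw [had, ← mul_assoc, hd, one_mul]
    have e3 : a * d * a = d := by rw [had, mul_assoc, ha, mul_one]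
    have e4 : a * d * d = a := by rw [mul_assoc, hd, mul_one]
    have e5 : a * d * (a * d) = 1 := by rw [← mul_assoc, e3, hd]
    rintro x y (rfl | rfl | rfl | rfl) (rfl | rfl | rfl | rfl)
    · exact Or.inl (one_mul 1)
    · exact Or.inr (Or.inl (one_mul _))
    · exact Or.inr (Or.inr (Or.inl (one_mul _)))
    · exact Or.inr (Or.inr (Or.inr (one_mul _)))
    · exact Or.inr (Or.inl (mul_one _))
    · exact Or.inl ha
    · exact Or.inr (Or.inr (Or.inr rfl))
    · exact Or.inr (Or.inr (Or.inl e1))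
    · exact Or.inr (Or.inr (Or.inl (mul_one _)))
    · exact Or.inr (Or.inr (Or.inr had.symm))
    · exact Or.inl hd
    · exact Or.inr (Or.inl e2)
    · exact Or.inr (Or.inr (Or.inr (mul_one _)))
    · exact Or.inr (Or.inr (Or.inl e3))
    · exact Or.inr (Or.inl e4)
    · exact Or.inl e5
  inv_mem' := by
    rintro x (rfl | rfl | rfl | rfl)
    · exact Or.inl inv_one
    · exact Or.inr (Or.inl (inv_eq_of_mul_eq_one_left ha))
    · exact Or.inr (Or.inr (Or.inl (inv_eq_of_mul_eq_one_left hd)))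
    · refine Or.inr (Or.inr (Or.inr (inv_eq_of_mul_eq_one_left ?_)))
      nth_rewrite 1 [had]
      rw [mul_assoc, ← mul_assoc a, ha, one_mul, hd]

/-- **`2² × A₄` and the top factor, `s = 3`.** -/
theorem nil_klein [IsSimpleGroup X] (f : G →* X) (hf : Function.Surjective f) (hn : Group.IsNilpotent ↥f.ker)
    (hsd : 3 ∣ Nat.card f.ker) {b c a x : X} (hb : orderOf b = 2) (hc : orderOf c = 2) (hbc : b ≠ c)
    (h1 : b * c = c * b) (ha : orderOf a = 2) (hx : orderOf x = 3)
    (h2 : a * (x * a * x⁻¹) = (x * a * x⁻¹) * a) (h3 : x * (x * a * x⁻¹) * x⁻¹ = a * (x * a * x⁻¹))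
    (hbx : b * x = x * b) (hcx : c * x = x * c)
    (hno : ¬ Has G 18) {m : ℕ} (hm : m.Coprime 3) (hX : Has X m) : Has G (m * 3) := by
  obtain ⟨A, _, _, _, ρ, hA, hnm⟩ := exists_top f hf hn Nat.prime_three hsd
  set! N : AddMonoid.End A := nm ρ x 3 with hN
  have hx3 : x ^ 3 = 1 := by rw [← hx, pow_orderOf_eq_one]
  -- an involution `z` commuting with `x` acts as `-1` on the image of the norm
  have key : ∀ z : X, orderOf z = 2 → z * x = x * z → ρ z * N = - N := by
    intro z hz hzx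
    have hcom : Commute z x := hzx
    have ho : orderOf (z * x) = 6 := by
      rw [hcom.orderOf_mul_eq_mul_orderOf_of_coprime, hz, hx]
      rw [hz, hx]
      decide
    have h0 : nm ρ (z * x) 6 = 0 := by
      by_contra hne
      rw [← ho] at hne
      have := hnm _ hne
      rw [ho] at this
      exact hno this
    have hz2 : ρ z ^ 2 = 1 := by rw [← map_pow, ← hz, pow_orderOf_eq_one, map_one]
    have hxx : ρ x ^ 3 = 1 := by rw [← map_pow, hx3, map_one]
    have hcρ : Commute (ρ z) (ρ x) := hcom.map ρ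
    have e1 : nm ρ (z * x) 6 = N + ρ z * N := by
      rw [hN]
      unfold nm
      simp only [Finset.sum_range_succ, Finset.sum_range_zero, map_mul, hcρ.mul_pow, zero_add, pow_zero, pow_one]
      have p3 : ρ z ^ 3 = ρ z := by rw [pow_succ, hz2, one_mul]
      have p4 : ρ z ^ 4 = 1 := by rw [show 4 = 2 * 2 by norm_num, pow_mul, hz2, one_pow]
      have p5 : ρ z ^ 5 = ρ z := by rw [pow_succ, p4, one_mul]
      have q4 : ρ x ^ 4 = ρ x := by rw [pow_succ, hxx, one_mul]
      have q5 : ρ x ^ 5 = ρ x ^ 2 := by rw [show 5 = 3 + 2 by norm_num, pow_add, hxx, one_mul]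
      rw [hz2, p3, p4, p5, hxx, q4, q5, mul_add, mul_add, mul_one, one_mul, one_mul]
      abel
    rw [e1] at h0
    exact eq_neg_of_add_eq_zero_right h0
  have hbc2 : orderOf (b * c) = 2 := by
    have hf2 := Fact.mk Nat.prime_two
    refine orderOf_eq_prime ?_ ?_
    · have : Commute b c := h1
      have b2 : b ^ 2 = 1 := by rw [← hb, pow_orderOf_eq_one]
      have c2 : c ^ 2 = 1 := by rw [← hc, pow_orderOf_eq_one]
      rw [this.mul_pow, b2, c2, one_mul]
    · intro h
      apply hbc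
      have c2 : c ^ 2 = 1 := by rw [← hc, pow_orderOf_eq_one]
      rw [pow_two] at c2
      exact (mul_eq_one_iff_eq_inv.1 h).trans (inv_eq_of_mul_eq_one_left c2)
  have kb := key b hb hbx
  have kc := key c hc hcx
  have kbc := key (b * c) hbc2 (by rw [mul_assoc, hcx, ← mul_assoc, hbx, mul_assoc])
  rw [map_mul, mul_assoc, kc, mul_neg, kb, neg_neg] at kbc
  have h3N : (3 : ℕ) • N = 0 := by
    ext a
    exact hA (N a)
  have hN0 : N = 0 := by
    have e1 : N + N = 0 := by
      nth_rewrite 1 [kbc]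
      exact neg_add_cancel N
    have e2 : (3 : ℕ) • N = N + (N + N) := by
      rw [show (3 : ℕ) = 1 + 2 by norm_num, add_nsmul, one_nsmul, two_nsmul]
    rw [e1, add_zero] at e2
    rw [← e2, h3N]
  -- the Klein four-group acts trivially
  have a2 : a * a = 1 := by
    have : a ^ 2 = 1 := by rw [← ha, pow_orderOf_eq_one]
    rwa [pow_two] at this
  set d : X := x * a * x⁻¹ with hd
  have d2 : d * d = 1 := by
    rw [hd]
    calc x * a * x⁻¹ * (x * a * x⁻¹) = x * (a * a) * x⁻¹ := by group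
      _ = 1 := by rw [a2]; group
  have ha1 : a ≠ 1 := by
    intro h
    rw [h, orderOf_one] at ha
    omega
  have hd1 : d ≠ 1 := by
    intro h
    apply ha1
    rw [hd, mul_inv_eq_one] at h
    exact mul_eq_left.1 h
  have had : a ≠ d := by
    intro h
    -- then `a = a d = 1`
    rw [← h] at h3
    have h4 : x * a * x⁻¹ = a * a := h3
    rw [a2] at h4
    exact hd1 h4
  have had1 : a * d ≠ 1 := by
    intro h
    exact had ((mul_eq_one_iff_eq_inv.1 h).trans (inv_eq_of_mul_eq_one_left d2))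
  have e3 : x * (a * d) * x⁻¹ = a := by
    calc x * (a * d) * x⁻¹ = (x * a * x⁻¹) * (x * d * x⁻¹) := by group
      _ = d * (a * d) := by rw [h3]
      _ = a * (d * d) := by rw [← mul_assoc, ← h2, mul_assoc]
      _ = a := by rw [d2, mul_one]
  let T := klein a d a2 d2 h2
  have hmem : ∀ {z : X}, z ∈ T ↔ z = 1 ∨ z = a ∨ z = d ∨ z = a * d := Iff.rfl
  have hTf : Finite T := by
    have : (T : Set X) ⊆ ({1, a, d, a * d} : Set X) := by
      rintro z (rfl | rfl | rfl | rfl) <;> simp only [_root_.Set.mem_insert_iff, _root_.Set.mem_singleton_iff, _root_.true_or, _root_.left_eq_mul, _root_.or_true, _root_.right_eq_mul, _root_.mul_eq_left, _root_.mul_eq_right]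
    exact (Set.toFinite ({1, a, d, a * d} : Set X)).subset this |>.to_subtype
  have hTt : Fintype T := Fintype.ofFinite _
  have hTp : IsPGroup 2 T := by
    rintro ⟨z, hz⟩
    refine ⟨1, Subtype.ext ?_⟩
    change z ^ (2 ^ 1) = 1
    rw [pow_one, pow_two]
    rcases hmem.1 hz with rfl | rfl | rfl | rfl
    · exact one_mul 1
    · exact a2
    · exact d2
    · calc a * d * (a * d) = a * (d * a) * d := by group
        _ = a * (a * d) * d := by rw [h2]
        _ = (a * a) * (d * d) := by group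
        _ = 1 := by rw [a2, d2, one_mul]
  have hcop : (Fintype.card T).Coprime 3 := by
    have hf2 := Fact.mk Nat.prime_two
    obtain ⟨k, hk⟩ := (IsPGroup.iff_card).1 hTp
    rw [← Nat.card_eq_fintype_card, hk]
    exact Nat.Coprime.pow_left k (by norm_num)
  have hconj : ∀ z ∈ T, x * z * x⁻¹ ∈ T := by
    intro z hz
    rcases hmem.1 hz with rfl | rfl | rfl | rfl
    · rw [mul_one, mul_inv_cancel]; exact T.one_mem
    · exact hmem.2 (Or.inr (Or.inr (Or.inl rfl)))
    · rw [h3]; exact hmem.2 (Or.inr (Or.inr (Or.inr rfl)))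
    · rw [e3]; exact hmem.2 (Or.inr (Or.inl rfl))
  have hfix : ∀ z ∈ T, x * z * x⁻¹ = z → z = 1 := by
    intro z hz hzz
    rcases hmem.1 hz with rfl | rfl | rfl | rfl
    · rfl
    · exact absurd hzz.symm had
    · rw [h3] at hzz
      exact absurd (mul_eq_right.1 hzz) ha1
    · rw [e3] at hzz
      exact absurd (mul_eq_left.1 hzz.symm) hd1
  have hs0 : ((3 : ℕ) : AddMonoid.End A) = 0 := by
    ext a
    rw [AddMonoid.End.natCast_apply]
    exact hA a
  have hρa := frob_trivial ρ hs0 (T := T) hcop (x := x) (m := 3) (by norm_num) hconj ?_ hN0 a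
    (hmem.2 (Or.inr (Or.inl rfl)))
  · exact has_of_trivial Nat.prime_three hA hnm ha1 hρa hm hX
  · intro i hi hi3 z hz hzz
    have hi' : i = 1 ∨ i = 2 := by omega
    rcases hi' with rfl | rfl
    · rw [pow_one] at hzz
      exact hfix z hz hzz
    · -- `x ^ 2 = x⁻¹`
      refine hfix z hz ?_
      have e4 : x ^ 2 = x⁻¹ := by
        rw [eq_inv_iff_mul_eq_one, ← pow_succ]
        exact hx3
      rw [e4, inv_inv] at hzz
      calc x * z * x⁻¹ = x * (x⁻¹ * z * x) * x⁻¹ := by rw [hzz]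
        _ = z := by group

end

end Cfsg.Agent.H61.SpAlt
end

-- part: H61/SpAltSpec
section
/-!
# Element orders of the alternating groups of degree at most 21: tools (helper61)
-/

set_option autoImplicit false

namespace Cfsg.Agent.H61.SpAlt

open Cfsg.Agent.H380.AltSpec

/-- a cycle type gives an order -/
theorem ord {n : ℕ} (s : Multiset ℕ) (m : ℕ) (hs : s.sum ≤ n) (h2 : ∀ a ∈ s, 2 ≤ a)
    (he : Even (s.sum + Multiset.card s)) (hm : s.lcm = m) : ∃ a : alternatingGroup (Fin n), orderOf a = m :=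
  mem_range_of s m hs h2 he hm

theorem ord_prime {n p : ℕ} (hp : p.Prime) (hp2 : p ≠ 2) (hpn : p ≤ n) :
    ∃ a : alternatingGroup (Fin n), orderOf a = p := by
  refine ord {p} p (by simpa using hpn) ?_ ?_ (by simp)
  · intro a ha
    rw [Multiset.mem_singleton.1 ha]
    exact hp.two_le
  · have := hp.odd_of_ne_two hp2
    simp only [Multiset.sum_singleton, Multiset.card_singleton]
    exact this.add_odd odd_one

/-- a prime dividing an order in `Aₙ` is at most `n` -/
theorem le_of_prime {n p : ℕ} (hp : p.Prime) (h : ∃ a : alternatingGroup (Fin n), orderOf a = p) : p ≤ n := by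
  obtain ⟨a, ha⟩ := h
  have h1 : orderOf (a : Equiv.Perm (Fin n)) ∣ Nat.card (Equiv.Perm (Fin n)) := orderOf_dvd_natCard _
  rw [Subgroup.orderOf_coe, ha, Nat.card_eq_fintype_card, Fintype.card_perm, Fintype.card_fin] at h1
  exact hp.dvd_factorial.1 h1

/-- an odd prime `p ≤ n < p + 4` is not joined to `2` in `Aₙ` -/
theorem not_two {n p : ℕ} (hp : p.Prime) (hp2 : p ≠ 2) (h : n < p + 4) :
    ¬ ∃ a : alternatingGroup (Fin n), orderOf a = 2 * p := by
  rintro ⟨a, ha⟩
  set σ : Equiv.Perm (Fin n) := (a : Equiv.Perm (Fin n)) with hσ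
  have h0 : orderOf σ = 2 * p := by rw [hσ, Subgroup.orderOf_coe, ha]
  have hsign : Equiv.Perm.sign σ = 1 := Equiv.Perm.mem_alternatingGroup.1 a.2
  have hlcm : σ.cycleType.lcm = 2 * p := by rw [Equiv.Perm.lcm_cycleType, h0]
  have hsum : σ.cycleType.sum ≤ n := by
    rw [Equiv.Perm.sum_cycleType]
    calc _ ≤ Fintype.card (Fin n) := Finset.card_le_univ _
      _ = n := Fintype.card_fin n
  have hp3 : 3 ≤ p := by
    rcases hp.eq_two_or_odd' with h1 | h1
    · exact absurd h1 hp2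
    · obtain ⟨k, hk⟩ := h1
      have := hp.two_le
      omega
  -- a cycle of length divisible by `p`
  obtain ⟨b, hb, hpb⟩ : ∃ b ∈ σ.cycleType, p ∣ b := by
    by_contra hcon
    push Not at hcon
    have h1 : σ.cycleType.lcm ∣ 2 := by
      rw [Multiset.lcm_dvd]
      intro b hb
      have h2 : b ∣ 2 * p := by rw [← hlcm]; exact Multiset.dvd_lcm hb
      exact (Nat.Coprime.symm ((Nat.Prime.coprime_iff_not_dvd hp).2 (hcon b hb))).dvd_of_dvd_mul_right h2
    rw [hlcm] at h1
    have h3 := Nat.le_of_dvd (by norm_num) h1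
    omega
  obtain ⟨s, hs⟩ := Multiset.exists_cons_of_mem hb
  rw [hs, Multiset.sum_cons] at hsum
  have hbd : b ∣ 2 * p := by rw [← hlcm]; exact Multiset.dvd_lcm hb
  have hb2 : 2 ≤ b := Equiv.Perm.two_le_of_mem_cycleType hb
  obtain ⟨c, hc⟩ := hpb
  have hc2 : c ∣ 2 := by
    rw [hc, mul_comm 2 p] at hbd
    exact (Nat.mul_dvd_mul_iff_left hp.pos).1 hbd
  have hc1 : c = 1 ∨ c = 2 := (Nat.dvd_prime Nat.prime_two).1 hc2
  have hs2 : ∀ x ∈ s, 2 ≤ x := fun x hx => Equiv.Perm.two_le_of_mem_cycleType (hs ▸ Multiset.mem_cons_of_mem hx)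
  have hcard : ∀ t : Multiset ℕ, (∀ x ∈ t, 2 ≤ x) → 2 * Multiset.card t ≤ t.sum := by
    intro t
    induction t using Multiset.induction_on with
    | empty => simp
    | cons x t ih =>
      intro ht
      have h1 := ih fun y hy => ht y (Multiset.mem_cons_of_mem hy)
      have h2 := ht x (Multiset.mem_cons_self x t)
      rw [Multiset.sum_cons, Multiset.card_cons]
      omega
  have hpar : Even (σ.cycleType.sum + Multiset.card σ.cycleType) := by
    rw [Equiv.Perm.sign_of_cycleType] at hsign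
    by_contra hne
    rw [Nat.not_even_iff_odd] at hne
    rw [hne.neg_one_pow] at hsign
    exact absurd hsign (by decide)
  rw [hs, Multiset.sum_cons, Multiset.card_cons] at hpar
  have hodd := hp.odd_of_ne_two hp2
  rcases hc1 with rfl | rfl
  · -- a `p`-cycle, the others have sum at most 3
    rw [mul_one] at hc
    subst hc
    have h4 := hcard s hs2
    have h5 : Multiset.card s ≤ 1 := by omega
    have h6 : s.lcm ∣ 2 * b := by
      rw [← hlcm, hs, Multiset.lcm_cons]
      exact dvd_lcm_right _ _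
    have h7 : ¬ 2 ∣ s.lcm → False := by
      intro h8
      have h9 : (2 : ℕ) ∣ σ.cycleType.lcm := by rw [hlcm]; exact Dvd.intro _ rfl
      rw [hs, Multiset.lcm_cons] at h9
      rcases (Nat.Prime.dvd_lcm Nat.prime_two).1 h9 with h10 | h10
      · obtain ⟨k, hk⟩ := hodd
        omega
      · exact h8 h10
    rcases Nat.le_one_iff_eq_zero_or_eq_one.1 h5 with h8 | h8
    · rw [Multiset.card_eq_zero] at h8
      apply h7
      rw [h8]
      decide
    · obtain ⟨y, hy⟩ := Multiset.card_eq_one.1 h8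
      rw [hy] at hsum hpar h7
      rw [Multiset.sum_singleton] at hsum hpar
      rw [Multiset.card_singleton] at hpar
      apply h7
      rw [Multiset.lcm_singleton]
      intro h9
      have h9' : 2 ∣ y := by simpa using h9
      obtain ⟨z, hz⟩ := h9'
      obtain ⟨k, hk⟩ := hodd
      rw [Nat.even_iff] at hpar
      omega
  · -- a `2p`-cycle
    have h4 := hcard s hs2
    have h5 : p = 3 := by omega
    subst h5
    have h6 : Multiset.card s = 0 := by omega
    rw [Multiset.card_eq_zero] at h6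
    rw [h6] at hpar
    simp only [Multiset.sum_zero, Multiset.card_zero] at hpar
    rw [hc, Nat.even_iff] at hpar
    omega

end Cfsg.Agent.H61.SpAlt
end

-- part: H61/SpAltNum
section
/-!
# Numerical reduction: sporadic factors of groups isospectral to `Aₙ`, `n ≤ 21` (helper61)
-/

set_option autoImplicit false
set_option maxRecDepth 100000

namespace Cfsg.Agent.H61.SpAlt

open Cfsg Cfsg.Agent.OrdDiv Cfsg.Agent.H403 Cfsg.Agent.H998.SpAlt

universe u v

/-- the primes dividing the order are at most `n`, and the odd primes `p` with `n - 4 < p ≤ n` divide the order -/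
def okN (n : ℕ) (x : Grp × ℕ × List (ℕ × ℕ)) : Bool :=
  (x.2.2.all fun y => Nat.ble y.1 n) &&
    ([3, 5, 7, 11, 13, 17, 19].all fun p => !(Nat.ble p n && Nat.blt n (p + 4)) || Nat.beq (x.2.1 % p) 0)

/-- the groups left for the degree `n` -/
def grps : ℕ → List Grp
  | 7 => [.j2]
  | 8 => [.j2]
  | 9 => [.j2]
  | 10 => [.j2]
  | 11 => [.m11, .m12, .m22, .hs, .mcl]
  | 12 => [.m11, .m12, .m22, .hs, .mcl]
  | 13 => [.suz, .fi22]
  | 14 => [.suz, .fi22]
  | 15 => [.suz, .fi22]
  | 16 => [.suz, .fi22]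
  | 17 => [.he]
  | 18 => [.he]
  | 19 => [.j3]
  | 20 => [.j3]
  | 21 => [.j1, .j3, .hn]
  | _ => []

theorem num_check : ((List.range 17).all fun i => sporFac.all fun x =>
    !(okN (i + 5) x) || (grps (i + 5)).contains x.1 || x.1 == .tits) = true := by decide +kernel

theorem fac_check : (sporFac.all fun x => Nat.beq x.2.1 (ordN x.1) &&
    x.2.2.all fun y => Nat.beq (x.2.1 % y.1) 0 && Nat.blt 1 y.1 &&
      ((List.range y.1).all fun d => Nat.ble d 1 || !Nat.beq (y.1 % d) 0)) = true := by decide +kernel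

theorem prime_of_check {p : ℕ} (h1 : 1 < p)
    (h : ((List.range p).all fun d => Nat.ble d 1 || !Nat.beq (p % d) 0) = true) : p.Prime := by
  rw [Nat.prime_def]
  refine ⟨h1, fun m hm => ?_⟩
  by_contra hcon
  push Not at hcon
  have hm0 : m ≠ 0 := by
    rintro rfl
    rw [zero_dvd_iff] at hm
    omega
  have hlt : m < p := lt_of_le_of_ne (Nat.le_of_dvd (by omega) hm) hcon.2
  have h2 := List.all_eq_true.1 h m (List.mem_range.2 hlt)
  rw [Bool.or_eq_true, Bool.not_eq_true', ← Bool.not_eq_true, Nat.beq_eq] at h2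
  rcases h2 with h2 | h2
  · have := Nat.le_of_ble_eq_true h2
    omega
  · exact h2 (Nat.mod_eq_zero_of_dvd hm)

theorem find_fac' {N : ℕ} (h : (sporFac.any fun x => Nat.beq x.2.1 N && !(x.1 == .tits)) = true) {M : ℕ} (hM : M = N) :
    ∃ x ∈ sporFac, M = x.2.1 ∧ (x.1 == .tits) = false := by
  obtain ⟨x, hx, hb⟩ := List.any_eq_true.1 h
  rw [Bool.and_eq_true, Bool.not_eq_true'] at hb
  exact ⟨x, hx, by rw [hM]; exact (Nat.beq_eq ▸ hb.1 : x.2.1 = N).symm, hb.2⟩

theorem card_mem_sp {S : Type u} [Group S] (h : Cfsg.IsSporadic S) :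
    ∃ x ∈ sporFac, Nat.card S = x.2.1 ∧ (x.1 == .tits) = false := by
  unfold Cfsg.IsSporadic at h
  rcases h with h | h | h | h | h | h | h | h | h | h | h | h | h | h | h | h | h | h | h | h | h | h | h | h | h | h <;>
    exact find_fac' (by decide +kernel) h.2

section

variable {n : ℕ} {G : Type v} [Group G] [Finite G] {X : Type u} [Group X]

theorem finite_of_st (hst : St G X) : Finite X := by
  obtain ⟨K, hK, S, hS, -, -, ⟨e⟩, -⟩ := hst
  exact Finite.of_equiv _ e.toEquiv

theorem isSimple_of_sp (hsp : Cfsg.IsSporadic X) : IsSimpleGroup X := by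
  unfold Cfsg.IsSporadic at hsp
  rcases hsp with h | h | h | h | h | h | h | h | h | h | h | h | h | h | h | h | h | h | h | h | h | h | h | h | h | h <;>
    exact h.1

theorem has_of_X (hst : St G X) {m : ℕ} (h : Has X m) : Has G m := by
  obtain ⟨K, hK, S, hS, hKs, hC, ⟨e⟩, -⟩ := hst
  obtain ⟨G0, f, hf, -, -⟩ := exists_surj K S e hKs
  obtain ⟨g, hg⟩ := Has.of_surj f hf h
  exact ⟨g, by rw [Subgroup.orderOf_coe, hg]⟩

/-- the primes dividing `|X|` are at most `n` -/
theorem le_of_dvd_X (h : ∀ m, Has G m ↔ Has (alternatingGroup (Fin n)) m)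
    (hst : St G X) {p : ℕ} (hp : p.Prime) (hd : p ∣ Nat.card X) : p ≤ n := by
  have := Fact.mk hp
  have := finite_of_st hst
  obtain ⟨x, hx⟩ := exists_prime_orderOf_dvd_card' p hd
  exact le_of_prime hp ((h p).1 (has_of_X hst ⟨x, hx⟩))

omit [Finite G] in
theorem dvd_card_G (h : ∀ m, Has G m ↔ Has (alternatingGroup (Fin n)) m) {p : ℕ}
    (hp : p.Prime) (hp2 : p ≠ 2) (hpn : p ≤ n) : p ∣ Nat.card G := by
  obtain ⟨g, hg⟩ := (h p).2 (ord_prime hp hp2 hpn)
  rw [← hg]
  exact orderOf_dvd_natCard g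

omit [Finite G] in
/-- the odd primes `p` with `n - 4 < p ≤ n` divide `|X|` -/
theorem dvd_X (h : ∀ m, Has G m ↔ Has (alternatingGroup (Fin n)) m)
    (hst : St G X) {p : ℕ} (hp : p.Prime) (hp2 : p ≠ 2) (hpn : p ≤ n) (hn : n < p + 4) : p ∣ Nat.card X := by
  obtain ⟨K, hK, S, hS, -, -, -, hd⟩ := hst
  have h1 := dvd_card_G h hp hp2 hpn
  have h2 := hd p hp hp2 h1 (fun hh => not_two hp hp2 hn ((h _).1 hh)) 1 (by rwa [pow_one])
  rwa [pow_one] at h2

theorem reduce (h5 : 5 ≤ n) (h21 : n < 22) (h : ∀ m, Has G m ↔ Has (alternatingGroup (Fin n)) m)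
    (hsp : Cfsg.IsSporadic X) (hst : St G X) : ∃ x ∈ sporFac, x.1 ∈ grps n ∧ Nat.card X = x.2.1 ∧
      Nat.card X = ordN x.1 ∧ ¬ ∀ a b : X, a * b = b * a := by
  have hf := finite_of_st hst
  have hs := isSimple_of_sp hsp
  obtain ⟨x, hx, hc, htits⟩ := card_mem_sp hsp
  have hfac := List.all_eq_true.1 fac_check x hx
  rw [Bool.and_eq_true, Nat.beq_eq] at hfac
  have hprimes : ∀ y ∈ x.2.2, y.1.Prime ∧ y.1 ∣ Nat.card X := by
    intro y hy
    have h1 := List.all_eq_true.1 hfac.2 y hy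
    rw [Bool.and_eq_true, Bool.and_eq_true, Nat.beq_eq, Nat.blt_eq] at h1
    exact ⟨prime_of_check h1.1.2 h1.2, by rw [hc]; exact Nat.dvd_of_mod_eq_zero h1.1.1⟩
  have hok : okN n x = true := by
    unfold okN
    rw [Bool.and_eq_true, List.all_eq_true, List.all_eq_true]
    refine ⟨fun y hy => ?_, fun p hp => ?_⟩
    · exact Nat.ble_eq_true_of_le (le_of_dvd_X h hst (hprimes y hy).1 (hprimes y hy).2)
    · rw [Bool.or_eq_true, Bool.not_eq_true', Nat.beq_eq]
      by_cases hpn : p ≤ n ∧ n < p + 4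
      · right
        have hpp : p.Prime ∧ p ≠ 2 := by
          simp only [List.mem_cons, List.not_mem_nil, or_false] at hp
          rcases hp with rfl | rfl | rfl | rfl | rfl | rfl | rfl <;> norm_num
        rw [← hc]
        exact Nat.mod_eq_zero_of_dvd (dvd_X h hst hpp.1 hpp.2 hpn.1 hpn.2)
      · left
        rw [← Bool.not_eq_true, Bool.and_eq_true, Nat.blt_eq]
        rintro ⟨h1, h2⟩
        exact hpn ⟨Nat.le_of_ble_eq_true h1, h2⟩
  have h1 := List.all_eq_true.1 num_check (n - 5) (List.mem_range.2 (by omega))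
  have h2 := List.all_eq_true.1 h1 x hx
  rw [Nat.sub_add_cancel h5, Bool.or_eq_true, Bool.or_eq_true, Bool.not_eq_true', hok, htits] at h2
  have h3 : (grps n).contains x.1 = true := by
    rcases h2 with (h2 | h2) | h2
    · exact absurd h2 (by decide)
    · exact h2
    · exact absurd h2 (by decide)
  refine ⟨x, hx, List.contains_iff_mem.1 h3, hc, hc.trans hfac.1, ?_⟩
  intro hcomm
  -- a commutative simple group has prime order
  have hpr : (Nat.card X).Prime := by
    let _i : CommGroup X := { (inferInstance : Group X) with mul_comm := hcomm }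
    exact IsSimpleGroup.prime_card
  have h4 : ∀ y ∈ x.2.2, y.1 = Nat.card X := fun y hy =>
    (Nat.prime_dvd_prime_iff_eq (hprimes y hy).1 hpr).1 (hprimes y hy).2
  have h5 : (sporFac.all fun x => x.2.2.any fun y => !(Nat.beq y.1 x.2.1)) = true := by decide +kernel
  have h6 := List.all_eq_true.1 h5 x hx
  rw [List.any_eq_true] at h6
  obtain ⟨y, hy, h7⟩ := h6
  rw [h4 y hy, hc] at h7
  simp at h7

end

end Cfsg.Agent.H61.SpAlt
end

-- part: H61/SpAltKlein
section
/-!
# `2² × A₄` in `M22` and `HS` (helper61)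

`KA X`: `X` contains `2² × A₄`: commuting involutions `b ≠ c` centralizing an involution `a` and an element `x` of
order 3, `⟨a, x⟩ ≅ A₄`.
-/

set_option autoImplicit false
set_option maxRecDepth 100000

namespace Cfsg.Agent.H61.SpAlt

open Cfsg Cfsg.Agent.H921.Spor

universe u v w

/-- `X` contains `2² × A₄` -/
def KA (X : Type v) [Group X] : Prop :=
  ∃ b c a x : X, orderOf b = 2 ∧ orderOf c = 2 ∧ b ≠ c ∧ b * c = c * b ∧ orderOf a = 2 ∧ orderOf x = 3 ∧
    a * (x * a * x⁻¹) = (x * a * x⁻¹) * a ∧ x * (x * a * x⁻¹) * x⁻¹ = a * (x * a * x⁻¹) ∧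
    b * a = a * b ∧ b * x = x * b ∧ c * a = a * c ∧ c * x = x * c

theorem KA.map {X : Type v} {Y : Type w} [Group X] [Group Y] (h : KA X) (f : X →* Y)
    (hf : Function.Injective f) : KA Y := by
  obtain ⟨b, c, a, x, hb, hc, hbc, h1, ha, hx, h2, h3, h4, h5, h6, h7⟩ := h
  refine ⟨f b, f c, f a, f x, by rw [orderOf_injective f hf, hb], by rw [orderOf_injective f hf, hc],
    fun h => hbc (hf h), by rw [← map_mul, h1, map_mul], by rw [orderOf_injective f hf, ha],
    by rw [orderOf_injective f hf, hx], ?_, ?_, by rw [← map_mul, h4, map_mul], by rw [← map_mul, h5, map_mul],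
    by rw [← map_mul, h6, map_mul], by rw [← map_mul, h7, map_mul]⟩
  · simp only [← map_mul, ← map_inv]
    rw [h2]
  · simp only [← map_mul, ← map_inv]
    rw [h3]

theorem KA.congr {X : Type v} {Y : Type w} [Group X] [Group Y] (h : KA X) (f : X ≃* Y) : KA Y :=
  h.map f.toMonoidHom f.injective

section Mathieu

open Cfsg.Agent.SporadicA.GolayBase Cfsg.Agent.SporadicA.GolayPerm Cfsg.Agent.SporadicStructure.M24El
open Cfsg.Agent.H921.Spor.M24

/-- the checks, `d = x a x⁻¹` -/
def chkKA (b c a d x : ℕ) : Bool :=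
  ok b && ok c && ok a && ok d && ok x && Nat.beq (pcomp b b) idP && Nat.beq (pcomp c c) idP &&
  Nat.beq (pcomp a a) idP && Nat.beq (ppow x 3) idP &&
  ((List.range 24).any fun i => !Nat.beq (papp b i) i) && ((List.range 24).any fun i => !Nat.beq (papp c i) i) &&
  ((List.range 24).any fun i => !Nat.beq (papp a i) i) && ((List.range 24).any fun i => !Nat.beq (papp x i) i) &&
  ((List.range 24).any fun i => !Nat.beq (papp (pcomp b c) i) i) &&
  Nat.beq (pcomp b c) (pcomp c b) && Nat.beq (pcomp x a) (pcomp d x) && Nat.beq (pcomp a d) (pcomp d a) &&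
  Nat.beq (pcomp x d) (pcomp (pcomp a d) x) &&
  Nat.beq (pcomp b a) (pcomp a b) && Nat.beq (pcomp b x) (pcomp x b) && Nat.beq (pcomp c a) (pcomp a c) &&
  Nat.beq (pcomp c x) (pcomp x c)

theorem el_ne {P : ℕ} (hP : ok P = true) (h : ((List.range 24).any fun i => !Nat.beq (papp P i) i) = true) :
    el P ≠ 1 := by
  rw [List.any_eq_true] at h
  obtain ⟨i, hi, h1⟩ := h
  refine el_ne_one hP (List.mem_range.1 hi) ?_
  intro h2
  rw [h2] at h1
  simp at h1

theorem ka_of_chk {b c a d x : ℕ} (h : chkKA b c a d x = true) {K : Subgroup (Equiv.Perm GolayPt)}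
    (hb : (el b : Equiv.Perm GolayPt) ∈ K) (hc : (el c : Equiv.Perm GolayPt) ∈ K)
    (ha : (el a : Equiv.Perm GolayPt) ∈ K) (hx : (el x : Equiv.Perm GolayPt) ∈ K) : KA K := by
  unfold chkKA at h
  simp only [Bool.and_eq_true] at h
  obtain ⟨⟨⟨⟨⟨⟨⟨⟨⟨⟨⟨⟨⟨⟨⟨⟨⟨⟨⟨⟨⟨ob, oc⟩, oa⟩, od⟩, ox⟩, b2⟩, c2⟩, a2⟩, x3⟩, nb⟩, nc⟩, na⟩, nx⟩, nbc⟩, e1⟩, e2⟩, e3⟩, e4⟩,
    e5⟩, e6⟩, e7⟩, e8⟩ := h
  have lift : ∀ {u v : M24}, u = v → (u : Equiv.Perm GolayPt) = (v : Equiv.Perm GolayPt) := fun h => by rw [h]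
  have b2' : el b * el b = 1 := by rw [← el_pcomp ob ob, Nat.eq_of_beq_eq_true b2, el_idP]
  have c2' : el c * el c = 1 := by rw [← el_pcomp oc oc, Nat.eq_of_beq_eq_true c2, el_idP]
  have a2' : el a * el a = 1 := by rw [← el_pcomp oa oa, Nat.eq_of_beq_eq_true a2, el_idP]
  have x3' : el x ^ 3 = 1 := by rw [← el_ppow ox, Nat.eq_of_beq_eq_true x3, el_idP]
  have e1' : el b * el c = el c * el b := by
    rw [← el_pcomp ob oc, Nat.eq_of_beq_eq_true e1, el_pcomp oc ob]
  have e2' : el x * el a * (el x)⁻¹ = el d := by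
    rw [mul_inv_eq_iff_eq_mul, ← el_pcomp ox oa, Nat.eq_of_beq_eq_true e2, el_pcomp od ox]
  have e3' : el a * el d = el d * el a := by
    rw [← el_pcomp oa od, Nat.eq_of_beq_eq_true e3, el_pcomp od oa]
  have e4' : el x * el d * (el x)⁻¹ = el a * el d := by
    rw [mul_inv_eq_iff_eq_mul, ← el_pcomp ox od, Nat.eq_of_beq_eq_true e4, el_pcomp (ok_pcomp oa od) ox, el_pcomp oa od]
  have e5' : el b * el a = el a * el b := by
    rw [← el_pcomp ob oa, Nat.eq_of_beq_eq_true e5, el_pcomp oa ob]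
  have e6' : el b * el x = el x * el b := by
    rw [← el_pcomp ob ox, Nat.eq_of_beq_eq_true e6, el_pcomp ox ob]
  have e7' : el c * el a = el a * el c := by
    rw [← el_pcomp oc oa, Nat.eq_of_beq_eq_true e7, el_pcomp oa oc]
  have e8' : el c * el x = el x * el c := by
    rw [← el_pcomp oc ox, Nat.eq_of_beq_eq_true e8, el_pcomp ox oc]
  have nbc' : el b ≠ el c := by
    intro h0
    refine el_ne (ok_pcomp ob oc) nbc ?_
    rw [el_pcomp ob oc, h0, c2']
  rw [← e2'] at e3' e4'
  have key : KA M24 := by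
    have := Fact.mk Nat.prime_two
    have := Fact.mk Nat.prime_three
    refine ⟨el b, el c, el a, el x, orderOf_eq_prime (by rw [pow_two, b2']) (el_ne ob nb),
      orderOf_eq_prime (by rw [pow_two, c2']) (el_ne oc nc), nbc', e1',
      orderOf_eq_prime (by rw [pow_two, a2']) (el_ne oa na), orderOf_eq_prime x3' (el_ne ox nx), e3', e4',
      e5', e6', e7', e8'⟩
  have h2 := Fact.mk Nat.prime_two
  have h3 := Fact.mk Nat.prime_three
  refine ⟨⟨_, hb⟩, ⟨_, hc⟩, ⟨_, ha⟩, ⟨_, hx⟩, ?_, ?_, ?_, ?_, ?_, ?_, ?_, ?_, ?_, ?_, ?_, ?_⟩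
  · rw [Subgroup.orderOf_mk, Subgroup.orderOf_coe]
    exact orderOf_eq_prime (by rw [pow_two, b2']) (el_ne ob nb)
  · rw [Subgroup.orderOf_mk, Subgroup.orderOf_coe]
    exact orderOf_eq_prime (by rw [pow_two, c2']) (el_ne oc nc)
  · intro h0
    exact nbc' (Subtype.ext (congrArg (fun z : K => (z : Equiv.Perm GolayPt)) h0))
  · apply Subtype.ext
    simpa only [_root_.MulMemClass.mk_mul_mk, _root_.Subgroup.coe_mul] using lift e1'
  · rw [Subgroup.orderOf_mk, Subgroup.orderOf_coe]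
    exact orderOf_eq_prime (by rw [pow_two, a2']) (el_ne oa na)
  · rw [Subgroup.orderOf_mk, Subgroup.orderOf_coe]
    exact orderOf_eq_prime x3' (el_ne ox nx)
  · apply Subtype.ext
    simpa only [_root_.MulMemClass.mk_mul_mk, _root_.Subgroup.coe_mul, _root_.InvMemClass.coe_inv] using lift e3'
  · apply Subtype.ext
    simpa only [_root_.MulMemClass.mk_mul_mk, _root_.Subgroup.coe_mul, _root_.InvMemClass.coe_inv] using lift e4'
  · apply Subtype.ext
    simpa only [_root_.MulMemClass.mk_mul_mk, _root_.Subgroup.coe_mul] using lift e5'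
  · apply Subtype.ext
    simpa only [_root_.MulMemClass.mk_mul_mk, _root_.Subgroup.coe_mul] using lift e6'
  · apply Subtype.ext
    simpa only [_root_.MulMemClass.mk_mul_mk, _root_.Subgroup.coe_mul] using lift e7'
  · apply Subtype.ext
    simpa only [_root_.MulMemClass.mk_mul_mk, _root_.Subgroup.coe_mul] using lift e8'

theorem ka_M22 : KA Cfsg.Spor.M22 :=
  ka_of_chk (b := 967655404336561563530357383050140992) (c := 973945644914022110970435173357822304)
    (a := 974897174784788785969838101811548832) (d := 978232879086441799526177284869434624)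
    (x := 984794972102085993844806468867632736) (by decide +kernel) (mem_M22 (by decide +kernel))
    (mem_M22 (by decide +kernel)) (mem_M22 (by decide +kernel)) (mem_M22 (by decide +kernel))

theorem ka_HS : KA Cfsg.Spor.HS := by
  obtain ⟨f, hf⟩ := Cfsg.Agent.H921.Spor.Co.exists_HS
  exact ka_M22.map f hf

end Mathieu

end Cfsg.Agent.H61.SpAlt
end

-- part: H61/SpAltCore
section
/-!
# The kernel for groups isospectral to `Aₙ` (helper61)
-/

set_option autoImplicit false

namespace Cfsg.Agent.H61.SpAlt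

open Cfsg Subgroup Cfsg.Agent.H998.SpAlt

universe u v

/-- `p` is the only element order divisible by `p` in `Aₙ` -/
def isoB (n p : ℕ) : Bool := (gen (n + n) n n).all fun x => x.2 || !(Nat.beq (x.1 % p) 0) || Nat.beq x.1 p

theorem iso_spec {n p : ℕ} (h : isoB n p = true) (a : alternatingGroup (Fin n)) (hp : p ∣ orderOf a) :
    orderOf a = p := by
  have h1 := List.all_eq_true.1 h _ (alt_mem a)
  rw [Bool.or_eq_true, Bool.or_eq_true, Bool.not_eq_true', ← Bool.not_eq_true, Nat.beq_eq, Nat.beq_eq] at h1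
  rcases h1 with (h1 | h1) | h1
  · exact absurd h1 Bool.false_ne_true
  · exact absurd (Nat.mod_eq_zero_of_dvd hp) h1
  · exact h1

/-- the data of the reduction: a surjection with nilpotent kernel -/
def Nil (G : Type u) [Group G] (X : Type v) [Group X] : Prop :=
  ∃ (G0 : Subgroup G) (f : ↥G0 →* X), Function.Surjective f ∧ Group.IsNilpotent ↥f.ker ∧
    ∀ m, Odd m → Has G m → ¬ Has X m → ¬ m.Coprime (Nat.card f.ker)

section

variable {n p : ℕ} {G : Type u} [Group G] [Finite G] {X : Type v} [Group X]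

theorem exists_nil (hp : p.Prime) (hp2 : p ≠ 2) (hpn : p ≤ n) (hn : n < p + 4) (hiso : isoB n p = true)
    (h : ∀ m, Has G m ↔ Has (alternatingGroup (Fin n)) m) (hO : OI X) (hst : St G X) : Nil G X := by
  obtain ⟨K, hK, S, hS, hKs, hC, ⟨e⟩, hd⟩ := hst
  have hfp := Fact.mk hp
  have hpG := dvd_card_G h hp hp2 hpn
  have hpK : ¬ p ∣ Nat.card ↥K := by
    refine not_dvd_K K S hp fun k hk => ?_
    rw [Nat.card_congr e.toEquiv]
    exact hd p hp hp2 hpG (fun hh => not_two hp hp2 hn ((h _).1 hh)) k hk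
  -- the kernel is nilpotent
  have hnil : Group.IsNilpotent ↥K := by
    obtain ⟨x, hx⟩ := exists_prime_orderOf_dvd_card' p hpG
    refine Cfsg.Agent.H946.Rad.nilpotent_of_free hp hx fun c hc hxc => ?_
    have hcop : (orderOf x).Coprime (orderOf c) := by
      rw [hx]
      refine (Nat.Prime.coprime_iff_not_dvd hp).2 fun h1 => hpK (h1.trans ?_)
      have := _root_.orderOf_dvd_natCard (⟨c, hc⟩ : K)
      rwa [Subgroup.orderOf_mk] at this
    have h2 : orderOf (x * c) = p * orderOf c := by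
      rw [(show Commute x c from hxc).orderOf_mul_eq_mul_orderOf_of_coprime hcop, hx]
    obtain ⟨a, ha⟩ := (h _).1 ⟨x * c, h2⟩
    have h3 := iso_spec hiso a (by rw [ha]; exact Dvd.intro _ rfl)
    rw [ha] at h3
    have h4 : orderOf c = 1 := by
      have := hp.pos
      exact Nat.eq_of_mul_eq_mul_left hp.pos (by rw [h3, mul_one])
    exact orderOf_eq_one_iff.1 h4
  obtain ⟨G0, f, hf, hsol, hker⟩ := exists_surj K S e hKs
  refine ⟨G0, f, hf, ?_, ?_⟩
  · -- the kernel of `f` embeds in `K`: a Sylow-free argument by the same element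
    have hx0 : ∃ x : ↥G0, orderOf x = p := by
      have h1 : p ∣ Nat.card ↥S := by
        have h2 := hd p hp hp2 hpG (fun hh => not_two hp hp2 hn ((h _).1 hh)) 1 (by rwa [pow_one])
        rw [pow_one] at h2
        rwa [Nat.card_congr e.toEquiv]
      obtain ⟨y, hy⟩ := exists_prime_orderOf_dvd_card' p h1
      exact Has.of_surj f hf ⟨e y, by rw [MulEquiv.orderOf_eq, hy]⟩
    obtain ⟨x, hx⟩ := hx0
    refine Cfsg.Agent.H946.Rad.nilpotent_of_free hp hx fun c hc hxc => ?_
    have hcop : (orderOf x).Coprime (orderOf c) := by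
      rw [hx]
      refine (Nat.Prime.coprime_iff_not_dvd hp).2 fun h1 => hpK (h1.trans ?_)
      have := _root_.orderOf_dvd_natCard (⟨c, hc⟩ : f.ker)
      rw [Subgroup.orderOf_mk] at this
      rwa [hker] at this
    have h2 : orderOf (x * c) = p * orderOf c := by
      rw [(show Commute x c from hxc).orderOf_mul_eq_mul_orderOf_of_coprime hcop, hx]
    obtain ⟨a, ha⟩ := (h _).1 ⟨((x * c : ↥G0) : G), by rw [Subgroup.orderOf_coe, h2]⟩
    have h3 := iso_spec hiso a (by rw [ha]; exact Dvd.intro _ rfl)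
    rw [ha] at h3
    have h4 : orderOf c = 1 := Nat.eq_of_mul_eq_mul_left hp.pos (by rw [h3, mul_one])
    exact orderOf_eq_one_iff.1 h4
  · intro m hm hG hX hcop
    rw [hker] at hcop
    obtain ⟨s, hs⟩ := has_S K S hC (hO.congr e.symm) hm hcop hG
    exact hX ⟨e s, by rw [MulEquiv.orderOf_eq, hs]⟩

/-- **killing by a Frobenius group** -/
theorem kill_frob [IsSimpleGroup X] {G0 : Subgroup G} (f : ↥G0 →* X) (hf : Function.Surjective f)
    (hn : Group.IsNilpotent ↥f.ker) {s : ℕ} (hs : s.Prime) (hsd : s ∣ Nat.card f.ker) {r e : ℕ} (hr : r.Prime)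
    (hrs : r ≠ s) (he : 1 ≤ e) (hF : Fb r e X) {m m' : ℕ} (h1 : ¬ Has G m') (hm' : m' = e * s) (hm : m.Coprime s)
    (hX : Has X m) {m'' : ℕ} (h2 : ¬ Has G m'') (hm'' : m'' = m * s) : False := by
  obtain ⟨a, x, k, ha, hx, hc, hk⟩ := hF
  have hno : ∀ {m : ℕ}, ¬ Has G m → ¬ Has ↥G0 m := by
    rintro m hm ⟨g, hg⟩
    exact hm ⟨(g : G), by rw [Subgroup.orderOf_coe, hg]⟩
  refine hno (hm'' ▸ h2) (nil_frob f hf hn hs hsd hr hrs ha hx he hc ?_ (hno (hm' ▸ h1)) hm hX)
  intro i hi hie h3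
  exact hk i hie hi h3

/-- **killing by `2² × A₄`** -/
theorem kill_klein [IsSimpleGroup X] {G0 : Subgroup G} (f : ↥G0 →* X) (hf : Function.Surjective f)
    (hn : Group.IsNilpotent ↥f.ker) (hsd : 3 ∣ Nat.card f.ker) (hF : KA X) {m : ℕ} (h1 : ¬ Has G 18)
    (hm : m.Coprime 3) (hX : Has X m) {m'' : ℕ} (h2 : ¬ Has G m'') (hm'' : m'' = m * 3) : False := by
  obtain ⟨b, c, a, x, hb, hc, hbc, e1, ha, hx, e2, e3, -, e5, -, e7⟩ := hF
  have hno : ∀ {m : ℕ}, ¬ Has G m → ¬ Has ↥G0 m := by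
    rintro m hm ⟨g, hg⟩
    exact hm ⟨(g : G), by rw [Subgroup.orderOf_coe, hg]⟩
  exact hno (hm'' ▸ h2) (nil_klein f hf hn hsd hb hc hbc e1 ha hx e2 e3 e5 e7 (hno h1) hm hX)

theorem Fb.has {r e : ℕ} (hF : Fb r e X) : Has X r := by
  obtain ⟨a, x, k, ha, -⟩ := hF
  exact ⟨a, ha⟩

end

end Cfsg.Agent.H61.SpAlt
end

-- part: H61/SpAltOrd
section
/-!
# Some element orders of sporadic groups (helper61)
-/

set_option autoImplicit false
set_option maxRecDepth 100000

namespace Cfsg.Agent.H61.SpAlt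

open Cfsg Subgroup

universe u v

theorem exists_ord_congr {X Y : Type*} [Group X] [Group Y] (e : X ≃* Y) {m : ℕ} (h : ∃ y : Y, orderOf y = m) :
    ∃ x : X, orderOf x = m := by
  obtain ⟨y, hy⟩ := h
  exact ⟨e.symm y, by rw [MulEquiv.orderOf_eq, hy]⟩

theorem J2_eight {X : Type u} [Group X] (h : Cfsg.Spor.IsoJ2 X) : ∃ x : X, orderOf x = 8 := by
  obtain ⟨e⟩ := h
  refine exists_ord_congr e ?_
  have h1 : 8 ∈ Set.range (orderOf : Cfsg.Spor.J2 → ℕ) := by
    rw [Cfsg.Agent.H379.J2Spec.range_J2]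
    decide
  exact h1

theorem McL_thirty {X : Type u} [Group X] (h : Cfsg.Spor.IsoMcL X) : ∃ x : X, orderOf x = 30 := by
  obtain ⟨z, u, f, hz, hu, hf, hzu, hzf, huf, -⟩ := Cfsg.Agent.CpAutLy.McLElt.exists_data h
  have h1 : orderOf (z * u) = 6 := by
    have hc : Commute z u := hzu
    rw [hc.orderOf_mul_eq_mul_orderOf_of_coprime, hz, hu]
    rw [hz, hu]
    decide
  refine ⟨z * u * f, ?_⟩
  have hc : Commute (z * u) f := by
    have h2 : Commute z f := hzf
    have h3 : Commute u f := huf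
    exact h2.mul_left h3
  rw [hc.orderOf_mul_eq_mul_orderOf_of_coprime, h1, hf]
  rw [h1, hf]
  decide

section Fi

open Cfsg.Spor.Fi22 Cfsg.Agent.Lib.PermNet Cfsg.Agent.Lib.PermNetOrbit
open Cfsg.Agent.Fischer.Fi22PtsRep

/-- a word of length 56 giving an element of order divisible by 16 of `Fi22` -/
def w16 : List Gen :=
  [.h, .d, .b, .a, .f, .a, .e, .i, .b, .a, .i, .b, .h, .d, .c, .a, .f, .d, .b, .i, .g, .c, .f, .b, .i, .b, .e, .b,
   .i, .h, .a, .h, .d, .i, .e, .g, .i, .e, .f, .i, .a, .e, .g, .i, .e, .b, .i, .e, .a, .d, .i, .c, .g, .i, .h, .i]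

/-- iterates -/
def itf (f : ℕ → ℕ) : ℕ → ℕ → ℕ
  | 0, x => x
  | n + 1, x => itf f n (f x)

theorem w16_chk : (Nat.beq (itf (ptWord (nw w16)) 16 0) 0 && !Nat.beq (itf (ptWord (nw w16)) 8 0) 0) = true := by
  decide +kernel

theorem Fi22_sixteen {X : Type u} [Group X] [Finite X] (h : Cfsg.Spor.IsoFi22 X) : ∃ x : X, orderOf x = 16 := by
  obtain ⟨e⟩ := h
  have hfin : Finite Cfsg.Spor.Fi22 := Finite.of_equiv X e.toEquiv
  refine exists_ord_congr e ?_
  have hf : ∀ p, φ (wd w16) p = ptWord (nw w16) p := fun p => φ_wd_apply _ p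
  have hit : ∀ n x, (φ (wd w16))^[n] x = itf (ptWord (nw w16)) n x := by
    intro n
    induction n with
    | zero => intro x; rfl
    | succ n ih => intro x; rw [Function.iterate_succ_apply, itf, ih, hf]
  have hc := w16_chk
  rw [Bool.and_eq_true, Nat.beq_eq, Bool.not_eq_true', ← Bool.not_eq_true, Nat.beq_eq] at hc
  have h1 : Function.IsPeriodicPt (φ (wd w16)) (2 ^ (3 + 1)) 0 := by
    change (φ (wd w16))^[16] 0 = 0
    rw [hit]; exact hc.1
  have h2 : ¬ Function.IsPeriodicPt (φ (wd w16)) (2 ^ 3) 0 := by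
    change ¬ (φ (wd w16))^[8] 0 = 0
    rw [hit]; exact hc.2
  have h3 := Function.minimalPeriod_eq_prime_pow (hp := ⟨Nat.prime_two⟩) h2 h1
  have h4 : Function.IsPeriodicPt (φ (wd w16)) (orderOf (wd w16)) 0 := by
    change (φ (wd w16))^[orderOf (wd w16)] 0 = 0
    rw [← Equiv.Perm.coe_pow, ← map_pow, pow_orderOf_eq_one, map_one]
    rfl
  have h5 : 16 ∣ orderOf (wd w16) := by
    have := h4.minimalPeriod_dvd
    rwa [h3] at this
  obtain ⟨k, hk⟩ := Cfsg.Agent.H379.J2Orders.exists_pow_orderOf _ h5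
  exact ⟨_, hk⟩

end Fi

/-! ### Nonadjacent primes -/

/-- no element of order `7 q` if `q` does not divide the order of the centralizer of an element of order `7` -/
theorem no_seven_mul {X : Type u} [Group X] [Finite X] {q N : ℕ} (hq : q ∣ N → False) (hq0 : 0 < q)
    (hc : ∀ x : X, orderOf x = 7 → Nat.card (centralizer ({x} : Set X)) ∣ N) : ¬ ∃ x : X, orderOf x = 7 * q := by
  rintro ⟨x, hx⟩
  have h7 : orderOf (x ^ q) = 7 := by
    rw [orderOf_pow_of_dvd hq0.ne' (by rw [hx]; exact Dvd.intro_left _ rfl), hx, Nat.mul_div_cancel _ hq0]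
  have hqo : orderOf (x ^ 7) = q := by
    rw [orderOf_pow_of_dvd (by norm_num) (by rw [hx]; exact Dvd.intro _ rfl), hx, Nat.mul_div_cancel_left _ (by norm_num)]
  have h1 : x ^ 7 ∈ centralizer ({x ^ q} : Set X) := by
    rw [mem_centralizer_singleton_iff, ← pow_add, ← pow_add, add_comm]
  have h2 := _root_.orderOf_dvd_natCard (⟨x ^ 7, h1⟩ : centralizer ({x ^ q} : Set X))
  rw [Subgroup.orderOf_mk, hqo] at h2
  exact hq (h2.trans (hc _ h7))

theorem HS_no {X : Type u} [Group X] [Finite X] (h : Cfsg.Spor.IsoHS X) {q : ℕ} (hq : q = 3 ∨ q = 5) :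
    ¬ ∃ x : X, orderOf x = 7 * q := by
  refine no_seven_mul (N := 7) ?_ ?_ fun x hx => by rw [Cfsg.Agent.H904.HSIso.card_seven h hx]
  · rcases hq with rfl | rfl <;> norm_num
  · rcases hq with rfl | rfl <;> norm_num

theorem M22_no {X : Type u} [Group X] [Finite X] (h : Cfsg.Spor.IsoM22 X) {q : ℕ} (hq : q = 3 ∨ q = 5) :
    ¬ ∃ x : X, orderOf x = 7 * q := by
  rintro ⟨x, hx⟩
  obtain ⟨e⟩ := h
  obtain ⟨f, hf⟩ := Cfsg.Agent.H921.Spor.Co.exists_HS
  have hfin : Finite Cfsg.Spor.HS := by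
    have hs : Nat.card Cfsg.Spor.HS = 44352000 := Cfsg.Agent.KFacts.HS.card (L := Cfsg.Spor.HS) ⟨MulEquiv.refl _⟩
    exact Nat.finite_of_card_ne_zero (by rw [hs]; norm_num)
  exact HS_no (X := Cfsg.Spor.HS) ⟨MulEquiv.refl _⟩ hq ⟨f (e x), by rw [orderOf_injective f hf, MulEquiv.orderOf_eq, hx]⟩

theorem McL_no {X : Type u} [Group X] [Finite X] (h : Cfsg.Spor.IsoMcL X) : ¬ ∃ x : X, orderOf x = 7 * 5 := by
  refine no_seven_mul (N := 14) (by norm_num) (by norm_num) fun x hx => ?_
  have h1 := (Cfsg.Agent.H904.McLCent.seven h (zpowers x) (by rw [Nat.card_zpowers, hx])).1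
  have h2 : centralizer ((zpowers x : Subgroup X) : Set X) = centralizer ({x} : Set X) := by
    rw [zpowers_eq_closure, Subgroup.centralizer_closure]
  rwa [h2] at h1

theorem Suz_no {X : Type u} [Group X] [Finite X] (h : Cfsg.Spor.IsoSuz X) : ¬ ∃ x : X, orderOf x = 7 * 5 := by
  obtain ⟨e⟩ := h
  have hfin : Finite Cfsg.Spor.Suz := Finite.of_equiv X e.toEquiv
  rintro ⟨x, hx⟩
  refine no_seven_mul (X := Cfsg.Spor.Suz) (N := 84) (q := 5) (by norm_num) (by norm_num) (fun y hy => ?_)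
    ⟨e x, by rw [MulEquiv.orderOf_eq, hx]⟩
  rw [Cfsg.Agent.H805.NilSp.cent_seven_Suz hy]

end Cfsg.Agent.H61.SpAlt
end

-- part: H61/SpAltHN
section
/-!
# `11 : 5` in `HN` (helper61)
-/

set_option autoImplicit false

namespace Cfsg.Agent.H61.SpAlt

open Cfsg

/-- an 11-cycle in degree 12 -/
def p11 : Equiv.Perm (Fin 12) where
  toFun i := ⟨bif Nat.beq i.1 11 then 11 else (i.1 + 1) % 11, by
    cases h : Nat.beq i.1 11
    · exact lt_of_lt_of_le (Nat.mod_lt _ (by norm_num)) (by norm_num)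
    · norm_num⟩
  invFun i := ⟨bif Nat.beq i.1 11 then 11 else (i.1 + 10) % 11, by
    cases h : Nat.beq i.1 11
    · exact lt_of_lt_of_le (Nat.mod_lt _ (by norm_num)) (by norm_num)
    · norm_num⟩
  left_inv := by decide
  right_inv := by decide

/-- multiplication by 3 modulo 11 -/
def p5 : Equiv.Perm (Fin 12) where
  toFun i := ⟨bif Nat.beq i.1 11 then 11 else (i.1 * 3) % 11, by
    cases h : Nat.beq i.1 11
    · exact lt_of_lt_of_le (Nat.mod_lt _ (by norm_num)) (by norm_num)
    · norm_num⟩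
  invFun i := ⟨bif Nat.beq i.1 11 then 11 else (i.1 * 4) % 11, by
    cases h : Nat.beq i.1 11
    · exact lt_of_lt_of_le (Nat.mod_lt _ (by norm_num)) (by norm_num)
    · norm_num⟩
  left_inv := by decide
  right_inv := by decide

theorem p11_pow : p11 ^ 11 = 1 := by decide +kernel
theorem p5_pow : p5 ^ 5 = 1 := by decide +kernel
theorem p11_ne : p11 ≠ 1 := by decide +kernel
theorem p5_conj : p5 * p11 * p5⁻¹ = p11 ^ 3 := by decide +kernel

theorem mem_alt_of_odd {σ : Equiv.Perm (Fin 12)} {m : ℕ} (hm : Odd m) (h : σ ^ m = 1) :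
    σ ∈ alternatingGroup (Fin 12) := by
  rw [Equiv.Perm.mem_alternatingGroup]
  have h1 : Equiv.Perm.sign σ ^ m = 1 := by rw [← map_pow, h, map_one]
  rcases Int.units_eq_one_or (Equiv.Perm.sign σ) with h2 | h2
  · exact h2
  · rw [h2, hm.neg_one_pow] at h1
    exact absurd h1 (by decide)

theorem fb_A12 : Fb 11 5 (alternatingGroup (Fin 12)) := by
  refine Fb.mk' (a := ⟨p11, mem_alt_of_odd (m := 11) (by decide) p11_pow⟩)
    (x := ⟨p5, mem_alt_of_odd (m := 5) (by decide) p5_pow⟩) (k := 3) (by norm_num) (by norm_num) (Subtype.ext p11_pow)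
    (fun h => p11_ne (congrArg Subtype.val h)) (Subtype.ext p5_pow) (Subtype.ext p5_conj) (by decide)

theorem fb_HN [IsSimpleGroup Cfsg.Spor.HN] : Fb 11 5 Cfsg.Spor.HN := by
  obtain ⟨K, ⟨e⟩⟩ := Cfsg.Agent.HN.A12Group.exists_alternating
  exact fb_A12.map (K.subtype.comp e.symm.toMonoidHom) (K.subtype_injective.comp e.symm.injective)

end Cfsg.Agent.H61.SpAlt
end

-- part: H61/SpAltCases
section
/-!
# The cases `n ≠ 10, 16` (helper61)
-/

set_option autoImplicit false
set_option maxRecDepth 100000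

namespace Cfsg.Agent.H61.SpAlt

open Cfsg Subgroup Cfsg.Agent.H998.SpAlt Cfsg.Agent.OrdDiv

universe u v

theorem dvd_of_not_coprime {p N : ℕ} (hp : p.Prime) (h : ¬ p.Coprime N) : p ∣ N := by
  by_contra h1
  exact h ((Nat.Prime.coprime_iff_not_dvd hp).2 h1)

theorem dvd_or_of_not_coprime {p q N : ℕ} (hp : p.Prime) (hq : q.Prime) (h : ¬ (p * q).Coprime N) : p ∣ N ∨ q ∣ N := by
  by_contra h1
  push Not at h1
  exact h (Nat.Coprime.mul_left ((Nat.Prime.coprime_iff_not_dvd hp).2 h1.1)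
    ((Nat.Prime.coprime_iff_not_dvd hq).2 h1.2))

theorem not_has_of_card {X : Type v} [Group X] {m : ℕ} (h : ¬ m ∣ Nat.card X) : ¬ Has X m := by
  rintro ⟨x, hx⟩
  exact h (hx ▸ _root_.orderOf_dvd_natCard x)

section

variable {n : ℕ} {G : Type u} [Group G] [Finite G] {X : Type v} [Group X]

omit [Finite G] in
theorem nh (h : ∀ m, Has G m ↔ Has (alternatingGroup (Fin n)) m) {m : ℕ}
    (hb : ((gen (n + n) n n).all fun x => !(Nat.beq x.1 m) || x.2) = true) : ¬ Has G m :=
  fun hh => alt_not hb ((h m).1 hh)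

omit [Finite G] in
theorem hs_prime (h : ∀ m, Has G m ↔ Has (alternatingGroup (Fin n)) m) {p : ℕ} (hp : p.Prime) (hp2 : p ≠ 2)
    (hpn : p ≤ n) : Has G p := (h p).2 (ord_prime hp hp2 hpn)

/-- the pattern "`t ∤ |X|`, Frobenius group `r : e`, `s = t`" -/
theorem one_prime [IsSimpleGroup X] (h : ∀ m, Has G m ↔ Has (alternatingGroup (Fin n)) m) (hN : Nil G X) {t r e : ℕ}
    (ht : t.Prime) (ht2 : t ≠ 2) (htn : t ≤ n) (htX : ¬ t ∣ Nat.card X) (hr : r.Prime) (hrt : r ≠ t) (he : 1 ≤ e)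
    (hF : Fb r e X) {a b : ℕ}
    (ha : ((gen (n + n) n n).all fun x => !(Nat.beq x.1 a) || x.2) = true) (ha' : a = e * t)
    (hb : ((gen (n + n) n n).all fun x => !(Nat.beq x.1 b) || x.2) = true) (hb' : b = r * t) : False := by
  obtain ⟨G0, f, hf, hn, hcop⟩ := hN
  have h1 := dvd_of_not_coprime ht (hcop t (ht.odd_of_ne_two ht2) (hs_prime h ht ht2 htn) (not_has_of_card htX))
  exact kill_frob f hf hn ht h1 hr hrt he hF (nh h ha) ha' ((Nat.coprime_primes hr ht).2 hrt) hF.has (nh h hb) hb'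

/-! ### `n = 11` -/

theorem case11_m11 [IsSimpleGroup X] (h : ∀ m, Has G m ↔ Has (alternatingGroup (Fin 11)) m) (hN : Nil G X)
    (h7 : ¬ 7 ∣ Nat.card X) (hF : Fb 11 5 X) : False :=
  one_prime h hN (t := 7) (by norm_num) (by norm_num) (by norm_num) h7 (by norm_num) (by norm_num) (by norm_num) hF
    (a := 35) (b := 77) (by decide +kernel) (by norm_num) (by decide +kernel) (by norm_num)

theorem case11_m22 [IsSimpleGroup X] (h : ∀ m, Has G m ↔ Has (alternatingGroup (Fin 11)) m) (hN : Nil G X)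
    (h21 : ¬ Has X (7 * 3)) (hF : Fb 11 5 X) (hK : KA X) : False := by
  obtain ⟨G0, f, hf, hn, hcop⟩ := hN
  have hG21 : Has G (7 * 3) := (h _).2 (ord {7, 3} (7 * 3) (by decide) (by decide) (by decide) (by decide))
  rcases dvd_or_of_not_coprime (by norm_num) Nat.prime_three (hcop (7 * 3) (by decide) hG21 h21) with h1 | h1
  · exact kill_frob f hf hn (by norm_num : Nat.Prime 7) h1 (by norm_num) (by norm_num) (by norm_num) hF
      (nh h (m := 35) (by decide +kernel)) (by norm_num) (m := 11) (by norm_num) hF.has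
      (nh h (m := 77) (by decide +kernel)) (by norm_num)
  · exact kill_klein f hf hn h1 hK (nh h (m := 18) (by decide +kernel)) (m := 11) (by norm_num) hF.has
      (nh h (m := 33) (by decide +kernel)) (by norm_num)

/-! ### `n = 12` -/

theorem case12 [IsSimpleGroup X] (h : ∀ m, Has G m ↔ Has (alternatingGroup (Fin 12)) m) (hN : Nil G X)
    (h35 : ¬ Has X (7 * 5)) (hF : Fb 11 5 X) (hF' : Fb 5 4 X) : False := by
  obtain ⟨G0, f, hf, hn, hcop⟩ := hN
  have hG35 : Has G (7 * 5) := (h _).2 (ord {7, 5} (7 * 5) (by decide) (by decide) (by decide) (by decide))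
  rcases dvd_or_of_not_coprime (by norm_num) Nat.prime_five (hcop (7 * 5) (by decide) hG35 h35) with h1 | h1
  · exact kill_frob f hf hn (by norm_num : Nat.Prime 7) h1 Nat.prime_five (by norm_num) (by norm_num) hF'
      (nh h (m := 28) (by decide +kernel)) (by norm_num) (m := 11) (by norm_num) hF.has
      (nh h (m := 77) (by decide +kernel)) (by norm_num)
  · exact kill_frob f hf hn (by norm_num : Nat.Prime 5) h1 (by norm_num) (by norm_num) (by norm_num) hF
      (nh h (m := 25) (by decide +kernel)) (by norm_num) (m := 11) (by norm_num) hF.has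
      (nh h (m := 55) (by decide +kernel)) (by norm_num)

/-! ### `Suz`, `n = 13, 14, 15` -/

theorem case_suz [IsSimpleGroup X] (h : ∀ m, Has G m ↔ Has (alternatingGroup (Fin n)) m) (hn12 : 12 ≤ n)
    (hN : Nil G X) (h35 : ¬ Has X (7 * 5)) (hF : Fb 11 10 X)
    (h25 : ((gen (n + n) n n).all fun x => !(Nat.beq x.1 25) || x.2) = true)
    (h55 : ((gen (n + n) n n).all fun x => !(Nat.beq x.1 55) || x.2) = true)
    (h70 : ((gen (n + n) n n).all fun x => !(Nat.beq x.1 70) || x.2) = true)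
    (h77 : ((gen (n + n) n n).all fun x => !(Nat.beq x.1 77) || x.2) = true) : False := by
  obtain ⟨G0, f, hf, hn, hcop⟩ := hN
  have hG35 : Has G (7 * 5) := (h _).2 (ord {7, 5} (7 * 5) (by simpa using hn12) (by decide) (by decide) (by decide))
  rcases dvd_or_of_not_coprime (by norm_num) Nat.prime_five (hcop (7 * 5) (by decide) hG35 h35) with h1 | h1
  · exact kill_frob f hf hn (by norm_num : Nat.Prime 7) h1 (by norm_num) (by norm_num) (by norm_num) hF
      (nh h (m := 70) h70) (by norm_num) (m := 11) (by norm_num) hF.has (nh h (m := 77) h77) (by norm_num)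
  · exact kill_frob f hf hn (by norm_num : Nat.Prime 5) h1 (r := 11) (e := 5) (by norm_num) (by norm_num) (by norm_num)
      (Fb.pow (d := 2) (by norm_num) (by norm_num) hF)
      (nh h (m := 25) h25) (by norm_num) (m := 11) (by norm_num) hF.has (nh h (m := 55) h55) (by norm_num)

end

/-! ### Frobenius groups from isomorphisms -/

section Iso

variable {X : Type v} [Group X]

theorem fb_isoJ3 (h : Spor.IsoJ3 X) : Fb 17 8 X ∧ Fb 19 9 X := by
  obtain ⟨F, iF, iF', ω, hF, hω, ⟨e⟩⟩ := h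
  have H := Cfsg.Agent.J3.Core.good_of_card hF hω
  exact ⟨(fb_J3_seventeen hF H).congr e.symm, (fb_J3_nineteen hF H).congr e.symm⟩

theorem M22_no' [Finite X] (h : Spor.IsoM22 X) {q : ℕ} (hq : q = 3 ∨ q = 5) : ¬ Has X (7 * q) := M22_no h hq

end Iso

private theorem _root_.Cfsg.Agent.KO9a27b13.e1.{ku} {M : Nat → Sort ku} (φ : ∀ n, M n) {z : M Nat.zero} {s : ∀ n, M n → M (Nat.succ n)} (h0 : φ Nat.zero = z) (hs : ∀ n, φ (Nat.succ n) = s n (φ n)) (n : Nat) : φ n = @Nat.rec M z s n := Nat.rec h0 (fun n ih => (hs n).trans (congrArg (s n) ih)) n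
private theorem _root_.Cfsg.Agent.KO9a27b13.e8.{ku, kv} {α : Type kv} {M : List α → Sort ku} (φ : ∀ l, M l) {z : M List.nil} {s : ∀ a l, M l → M (List.cons a l)} (h0 : φ List.nil = z) (hs : ∀ a l, φ (List.cons a l) = s a l (φ l)) (l : List α) : φ l = @List.rec α M z s l := List.rec h0 (fun a l ih => (hs a l).trans (congrArg (s a l) ih)) l
private noncomputable def _root_.Cfsg.Agent.KO9a27b13.k9.{ku0, ku1} : ((x0 : Sort (ku0+1)) → ((x1 : Sort (ku1+1)) → ((x0 → x1) → ((@List.{ku0} @x0) → @List.{ku1} @x1)))) := @(fun (x0 : Sort (ku0+1)) (x1 : Sort (ku1+1)) (x2 : (x0 → x1)) (x3 : @List.{ku0} @x0) => @List.rec.{(ku1+1), ku0} @x0 @(fun (x4 : @List.{ku0} @x0) => @List.{ku1} @x1) (@List.nil.{ku1} @x1) @(fun (x4 : x0) (x5 : @List.{ku0} @x0) (x6 : @List.{ku1} @x1) => @List.cons.{ku1} @x1 (@x2 @x4) @x6) @x3)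
private theorem _root_.Cfsg.Agent.KO9a27b13.e9.{ku0, ku1} : @List.map.{ku0, ku1} = @_root_.Cfsg.Agent.KO9a27b13.k9.{ku0, ku1} := by delta _root_.Cfsg.Agent.KO9a27b13.k9; funext a0 a1 a2 a3; refine (_root_.Cfsg.Agent.KO9a27b13.e8 (fun a3 => @List.map.{ku0, ku1} a0 a1 a2 a3) ?_ (fun c0 c1 => ?_) a3 :) <;> (rfl')
private noncomputable def _root_.Cfsg.Agent.KO9a27b13.k13.{ku0} : ((x0 : Sort (ku0+1)) → ((@List.{ku0} @x0) → ((x0 → @Bool) → @Bool))) := @(fun (x0 : Sort (ku0+1)) (x1 : @List.{ku0} @x0) (x2 : (x0 → @Bool)) => @List.rec.{(ku0+1), ku0} @x0 @(fun (x3 : @List.{ku0} @x0) => ((x0 → @Bool) → @Bool)) @(fun (x3 : (x0 → @Bool)) => @Bool.true) @(fun (x3 : x0) (x4 : @List.{ku0} @x0) (x5 : ((x0 → @Bool) → @Bool)) (x6 : (x0 → @Bool)) => @Bool.rec.{1} @(fun (x7 : @Bool) => @Bool) @Bool.false (@x5 @x6) (@x6 @x3)) @x1 @x2)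
private theorem _root_.Cfsg.Agent.KO9a27b13.e13.{ku0} : @List.all.{ku0} = @_root_.Cfsg.Agent.KO9a27b13.k13.{ku0} := by delta _root_.Cfsg.Agent.KO9a27b13.k13; funext a0 a1 a2; refine (congrFun (_root_.Cfsg.Agent.KO9a27b13.e8 (fun a1 a2 => @List.all.{ku0} a0 a1 a2) ?_ (fun c0 c1 => ?_) a1) a2 :) <;> (rfl')
private noncomputable def _root_.Cfsg.Agent.KO9a27b13.oEq.{ku} (α : Sort ku) (a b : Nat) (f t : α) : α := @Decidable.rec (a = b) (fun _ => α) (fun _ => f) (fun _ => t) (Nat.decEq a b)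
private noncomputable def _root_.Cfsg.Agent.KO9a27b13.k15.{ku0} : ((x0 : Sort (ku0+1)) → ((@List.{ku0} @x0) → ((@List.{ku0} @x0) → @List.{ku0} @x0))) := @(fun (x0 : Sort (ku0+1)) (x1 : @List.{ku0} @x0) (x2 : @List.{ku0} @x0) => @List.rec.{(ku0+1), ku0} @x0 @(fun (x3 : @List.{ku0} @x0) => ((@List.{ku0} @x0) → @List.{ku0} @x0)) @(fun (x3 : @List.{ku0} @x0) => x3) @(fun (x3 : x0) (x4 : @List.{ku0} @x0) (x5 : ((@List.{ku0} @x0) → @List.{ku0} @x0)) (x6 : @List.{ku0} @x0) => @List.cons.{ku0} @x0 @x3 (@x5 @x6)) @x1 @x2)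
private theorem _root_.Cfsg.Agent.KO9a27b13.e15.{ku0} : @List.append.{ku0} = @_root_.Cfsg.Agent.KO9a27b13.k15.{ku0} := by delta _root_.Cfsg.Agent.KO9a27b13.k15; funext a0 a1 a2; refine (congrFun (_root_.Cfsg.Agent.KO9a27b13.e8 (fun a1 a2 => @List.append.{ku0} a0 a1 a2) ?_ (fun c0 c1 => ?_) a1) a2 :) <;> (rfl')
private noncomputable def _root_.Cfsg.Agent.KO9a27b13.k16 : ((x0 : @Bool) → ((x1 : @Bool) → @Decidable (@Eq.{1} @Bool @x0 @x1))) := @(fun (x0 : @Bool) (x1 : @Bool) => @Bool.rec.{1} @(fun (x2 : @Bool) => @Decidable (@Eq.{1} @Bool @x2 @x1)) (@Bool.rec.{1} @(fun (x2 : @Bool) => @Decidable (@Eq.{1} @Bool @Bool.false @x2)) (@Decidable.isTrue (@Eq.{1} @Bool @Bool.false @Bool.false) (@rfl.{1} @Bool @Bool.false)) (@Decidable.isFalse (@Eq.{1} @Bool @Bool.false @Bool.true) @(fun (x2 : @Eq.{1} @Bool @Bool.false @Bool.true) => @Bool.noConfusion.{0} @False @Bool.false @Bool.true @x2)) @x1) (@Bool.rec.{1} @(fun (x2 : @Bool) => @Decidable (@Eq.{1} @Bool @Bool.true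 @x2)) (@Decidable.isFalse (@Eq.{1} @Bool @Bool.true @Bool.false) @(fun (x2 : @Eq.{1} @Bool @Bool.true @Bool.false) => @Bool.noConfusion.{0} @False @Bool.true @Bool.false @x2)) (@Decidable.isTrue (@Eq.{1} @Bool @Bool.true @Bool.true) (@rfl.{1} @Bool @Bool.true)) @x1) @x0)
private theorem _root_.Cfsg.Agent.KO9a27b13.e16 : @Bool.decEq = @_root_.Cfsg.Agent.KO9a27b13.k16 := by delta _root_.Cfsg.Agent.KO9a27b13.k16; rfl'
private noncomputable def _root_.Cfsg.Agent.KO9a27b13.k17 : (by first | exact type_of% @Cfsg.Agent.H998.SpAlt.gen | exact Unit : Sort _) := by first | (refine @Subtype.val _ (fun g => @Cfsg.Agent.H998.SpAlt.gen = @g) (@Subtype.mk _ _ (@(fun (x0 : @Nat) (x1 : @Nat) (x2 : @Nat) => @Nat.rec.{1} @(fun (x3 : @Nat) => (@Nat → (@Nat → @List.{0} (@Prod.{0, 0} @Nat @Bool)))) @(fun (x3 : @Nat) (x4 : @Nat) => @List.cons.{0} (@Prod.{0, 0} @Nat @Bool) (@Prod.mk.{0, 0} @Nat @Bool (nat_lit 1) @Bool.false) (@List.nil.{0} (@Prod.{0, 0} @Nat @Bool))) @(fun (x3 :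 @Nat) (x4 : (@Nat → (@Nat → @List.{0} (@Prod.{0, 0} @Nat @Bool)))) (x5 : @Nat) (x6 : @Nat) => @Bool.rec.{1} @(fun (x7 : @Bool) => @List.{0} (@Prod.{0, 0} @Nat @Bool)) (@Cfsg.Agent.KO9a27b13.k15.{0} (@Prod.{0, 0} @Nat @Bool) (@x4 (@Nat.sub @x5 (nat_lit 1)) @x6) (@Bool.rec.{1} @(fun (x7 : @Bool) => @List.{0} (@Prod.{0, 0} @Nat @Bool)) (@List.nil.{0} (@Prod.{0, 0} @Nat @Bool)) (@Cfsg.Agent.KO9a27b13.k9.{0, 0} (@Prod.{0, 0} @Nat @Bool) (@Prod.{0, 0} @Nat @Bool) @(fun (x7 : @Prod.{0, 0} @Nat @Bool) => @Prod.mk.{0, 0} @Nat @Bool (@Nat.div (@Nat.mul @x5 (@Prod.fst.{0, 0} @Nat @Bool @x7)) (@Nat.gcd @x5 (@Prod.fst.{0, 0} @Nat @Bool @x7))) (@Bool.rec.{1} @(fun (x8 : @Bool) => @Bool) @Bool.true @Bool.false (@Decidable.rec.{1} (@Eq.{1} @Bool (@Prod.snd.{0, 0} @Nat @Bool @x7) (@BEq.beq.{0} @Nat (@instBEqOfDecidableEq.{0} @Nat @instDecidableEqNat) (@HMod.hMod.{0, 0, 0} @Nat @Nat @Nat (@instHMod.{0} @Nat @Nat.instMod) @x5 (@OfNat.ofNat.{0} @Nat (nat_lit 2) (@instOfNatNat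 (nat_lit 2)))) (@OfNat.ofNat.{0} @Nat (nat_lit 0) (@instOfNatNat (nat_lit 0))))) @(fun (x8 : @Decidable (@Eq.{1} @Bool (@Prod.snd.{0, 0} @Nat @Bool @x7) (@BEq.beq.{0} @Nat (@instBEqOfDecidableEq.{0} @Nat @instDecidableEqNat) (@HMod.hMod.{0, 0, 0} @Nat @Nat @Nat (@instHMod.{0} @Nat @Nat.instMod) @x5 (@OfNat.ofNat.{0} @Nat (nat_lit 2) (@instOfNatNat (nat_lit 2)))) (@OfNat.ofNat.{0} @Nat (nat_lit 0) (@instOfNatNat (nat_lit 0)))))) => @Bool) @(fun (x8 : @Not (@Eq.{1} @Bool (@Prod.snd.{0, 0} @Nat @Bool @x7) (@BEq.beq.{0} @Nat (@instBEqOfDecidableEq.{0} @Nat @instDecidableEqNat) (@HMod.hMod.{0, 0, 0} @Nat @Nat @Nat (@instHMod.{0} @Nat @Nat.instMod) @x5 (@OfNat.ofNat.{0} @Nat (nat_lit 2) (@instOfNatNat (nat_lit 2)))) (@OfNat.ofNat.{0} @Nat (nat_lit 0) (@instOfNatNat (nat_lit 0)))))) => @Bool.false) @(fun (x8 : @Eq.{1} @Bool (@Prod.snd.{0, 0} @Nat @Bool @x7) (@BEq.beq.{0} @Nat (@instBEqOfDecidableEq.{0} @Nat @instDecidableEqNat) (@HMod.hMod.{0, 0, 0} @Nat @Nat @Nat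 (@instHMod.{0} @Nat @Nat.instMod) @x5 (@OfNat.ofNat.{0} @Nat (nat_lit 2) (@instOfNatNat (nat_lit 2)))) (@OfNat.ofNat.{0} @Nat (nat_lit 0) (@instOfNatNat (nat_lit 0))))) => @Bool.true) (@Cfsg.Agent.KO9a27b13.k16 (@Prod.snd.{0, 0} @Nat @Bool @x7) (@Cfsg.Agent.KO9a27b13.oEq.{1} @Bool (@Nat.mod @x5 (nat_lit 2)) (nat_lit 0) @Bool.false @Bool.true))))) (@x4 @x5 (@Nat.sub @x6 @x5))) (@Nat.ble @x5 @x6))) (@List.cons.{0} (@Prod.{0, 0} @Nat @Bool) (@Prod.mk.{0, 0} @Nat @Bool (nat_lit 1) @Bool.false) (@List.nil.{0} (@Prod.{0, 0} @Nat @Bool))) (@Nat.ble (@Nat.succ @x5) (nat_lit 2))) @x0 @x1 @x2)) ?_); rewrite [← Cfsg.Agent.KO9a27b13.e16, ← Cfsg.Agent.KO9a27b13.e9.{0, 0}, ← Cfsg.Agent.KO9a27b13.e15.{0}]; funext a0 a1 a2; refine (congrFun (congrFun (_root_.Cfsg.Agent.KO9a27b13.e1 (fun a0 a1 a2 => @Cfsg.Agent.H998.SpAlt.gen a0 a1 a2) ?_ (fun c0 => ?_) a0) a1) a2 :) <;> (rfl')) | exact @Cfsg.Agent.H998.SpAlt.gen | exact ()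
private theorem _root_.Cfsg.Agent.KO9a27b13.e17 : (by first | exact @Cfsg.Agent.H998.SpAlt.gen = @_root_.Cfsg.Agent.KO9a27b13.k17 | exact True : Prop) := by first | (delta _root_.Cfsg.Agent.KO9a27b13.k17; exact @Subtype.property _ (fun g => @Cfsg.Agent.H998.SpAlt.gen = @g) _) | rfl | trivial
private noncomputable def _root_.Cfsg.Agent.KO9a27b13.k18 : (by first | exact type_of% @Cfsg.Agent.H61.SpAlt.isoB | exact Unit : Sort _) := by first | (refine @Subtype.val _ (fun g => @Cfsg.Agent.H61.SpAlt.isoB = @g) (@Subtype.mk _ _ (@(fun (x0 : @Nat) (x1 : @Nat) => @Cfsg.Agent.KO9a27b13.k13.{0} (@Prod.{0, 0} @Nat @Bool) (@Cfsg.Agent.KO9a27b13.k17 (@Nat.add @x0 @x0) @x0 @x0) @(fun (x2 : @Prod.{0, 0} @Nat @Bool) => @Bool.rec.{1} @(fun (x3 : @Bool) => @Bool) (@Nat.beq (@Prod.fst.{0, 0} @Nat @Bool @x2) @x1) @Bool.true (@Bool.rec.{1} @(fun (x3 : @Bool) => @Bool) (@Bool.rec.{1} @(fun (x3 : @Bool) => @Bool) @Bool.true @Bool.false (@Nat.beq (@Nat.mod (@Prod.fst.{0, 0} @Nat @Bool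 @x2) @x1) (nat_lit 0))) @Bool.true (@Prod.snd.{0, 0} @Nat @Bool @x2))))) ?_); rewrite [← Cfsg.Agent.KO9a27b13.e17, ← Cfsg.Agent.KO9a27b13.e13.{0}]; (try delta Cfsg.Agent.H61.SpAlt.isoB); (try generalize @Cfsg.Agent.H998.SpAlt.gen = g0); rfl') | exact @Cfsg.Agent.H61.SpAlt.isoB | exact ()
private theorem _root_.Cfsg.Agent.KO9a27b13.e18 : (by first | exact @Cfsg.Agent.H61.SpAlt.isoB = @_root_.Cfsg.Agent.KO9a27b13.k18 | exact True : Prop) := by first | (delta _root_.Cfsg.Agent.KO9a27b13.k18; exact @Subtype.property _ (fun g => @Cfsg.Agent.H61.SpAlt.isoB = @g) _) | rfl | trivial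
private noncomputable def _root_.Cfsg.Agent.KO9a27b13.k12 : (@Bool → @Bool) := @(fun (x0 : @Bool) => @Bool.rec.{1} @(fun (x1 : @Bool) => @Bool) @Bool.true @Bool.false @x0)
private theorem _root_.Cfsg.Agent.KO9a27b13.e12 : @Bool.not = @_root_.Cfsg.Agent.KO9a27b13.k12 := by delta _root_.Cfsg.Agent.KO9a27b13.k12; rfl'
private noncomputable def _root_.Cfsg.Agent.KO9a27b13.k19 : (@Bool → (@Bool → @Bool)) := @(fun (x0 : @Bool) (x1 : @Bool) => @Bool.rec.{1} @(fun (x2 : @Bool) => @Bool) @x1 @Bool.true @x0)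
private theorem _root_.Cfsg.Agent.KO9a27b13.e19 : @Bool.or = @_root_.Cfsg.Agent.KO9a27b13.k19 := by delta _root_.Cfsg.Agent.KO9a27b13.k19; rfl'

/-- **The cases `n ≠ 10, 16`.** -/
theorem cases_main {n : ℕ} (h5 : 5 ≤ n) (h21 : n < 22) {G : Type u} [Group G] [Finite G] {X : Type v} [Group X]
    [Finite X] (hs : IsSimpleGroup X) (h : ∀ m, Has G m ↔ Has (alternatingGroup (Fin n)) m) {g : Grp}
    (hg : g ∈ grps n) (hR : Real g X) (hc : Nat.card X = ordN g) (hO : OI X) (hst : St G X)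
    (h10 : n = 10 → Spor.IsoJ2 X → False) (h16 : n = 16 → Spor.IsoSuz X → False) : False := by
  have hX : ∀ {m : ℕ}, Has X m → Has G m := fun hm => has_of_X hst hm
  have suz35 : Spor.IsoSuz X → ¬ Has X (7 * 5) := fun hi => Suz_no hi
  have fbsuz : Spor.IsoSuz X → Fb 11 10 X := fun ⟨e⟩ => fb_Suz.congr e.symm
  interval_cases n
  · simp [grps] at hg
  · simp [grps] at hg
  · -- 7
    simp only [grps, List.mem_singleton] at hg
    subst hg
    exact nh h (m := 8) (by decide +kernel) (hX (J2_eight hR))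
  · -- 8
    simp only [grps, List.mem_singleton] at hg
    subst hg
    exact nh h (m := 8) (by decide +kernel) (hX (J2_eight hR))
  · -- 9
    simp only [grps, List.mem_singleton] at hg
    subst hg
    exact nh h (m := 8) (by decide +kernel) (hX (J2_eight hR))
  · -- 10
    simp only [grps, List.mem_singleton] at hg
    subst hg
    exact h10 rfl hR
  · -- 11
    have hN : Nil G X := exists_nil (n := 11) (p := 11) (by norm_num) (by norm_num) le_rfl (by norm_num)
      (by decide +kernel) h hO hst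
    simp only [grps, List.mem_cons, List.not_mem_nil, or_false] at hg
    rcases hg with rfl | rfl | rfl | rfl | rfl
    · obtain ⟨e⟩ : Spor.IsoM11 X := hR
      exact case11_m11 h hN (by rw [hc]; decide +kernel) (fb_M11_eleven.congr e.symm)
    · obtain ⟨e⟩ : Spor.IsoM12 X := hR
      exact case11_m11 h hN (by rw [hc]; decide +kernel) (fb_M12_eleven.congr e.symm)
    · have hno := M22_no' (X := X) hR (Or.inl rfl)
      obtain ⟨e⟩ : Spor.IsoM22 X := hR
      exact case11_m22 h hN hno (fb_M22_eleven.congr e.symm) (ka_M22.congr e.symm)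
    · have hno := HS_no (X := X) hR (Or.inl rfl)
      obtain ⟨e⟩ : Spor.IsoHS X := hR
      exact case11_m22 h hN hno (fb_HS_eleven.congr e.symm) (ka_HS.congr e.symm)
    · exact nh h (m := 30) (by decide +kernel) (hX (McL_thirty hR))
  · -- 12
    have hN : Nil G X := exists_nil (n := 12) (p := 11) (by norm_num) (by norm_num) (by norm_num) (by norm_num)
      (by decide +kernel) h hO hst
    simp only [grps, List.mem_cons, List.not_mem_nil, or_false] at hg
    rcases hg with rfl | rfl | rfl | rfl | rfl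
    · obtain ⟨e⟩ : Spor.IsoM11 X := hR
      exact case12 h hN (not_has_of_card (by rw [hc]; decide +kernel)) (fb_M11_eleven.congr e.symm)
        (fb_M11_five.congr e.symm)
    · obtain ⟨e⟩ : Spor.IsoM12 X := hR
      exact case12 h hN (not_has_of_card (by rw [hc]; decide +kernel)) (fb_M12_eleven.congr e.symm)
        (fb_M12_five.congr e.symm)
    · have hno := M22_no' (X := X) hR (Or.inr rfl)
      obtain ⟨e⟩ : Spor.IsoM22 X := hR
      exact case12 h hN hno (fb_M22_eleven.congr e.symm) (fb_M22_five.congr e.symm)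
    · have hno := HS_no (X := X) hR (Or.inr rfl)
      obtain ⟨e⟩ : Spor.IsoHS X := hR
      exact case12 h hN hno (fb_HS_eleven.congr e.symm) (fb_HS_five.congr e.symm)
    · have hno := McL_no (X := X) hR
      obtain ⟨e⟩ : Spor.IsoMcL X := hR
      exact case12 h hN hno (fb_McL_eleven.congr e.symm) (fb_McL_five.congr e.symm)
  · -- 13
    simp only [grps, List.mem_cons, List.not_mem_nil, or_false] at hg
    rcases hg with rfl | rfl
    · have hN : Nil G X := exists_nil (n := 13) (p := 13) (by norm_num) (by norm_num) (by norm_num) (by norm_num)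
        (by decide +kernel) h hO hst
      exact case_suz h (by norm_num) hN (suz35 hR) (fbsuz hR) (by decide +kernel) (by decide +kernel) (by decide +kernel)
        (by decide +kernel)
    · exact nh h (m := 16) (by decide +kernel) (hX (Fi22_sixteen hR))
  · -- 14
    simp only [grps, List.mem_cons, List.not_mem_nil, or_false] at hg
    rcases hg with rfl | rfl
    · have hN : Nil G X := exists_nil (n := 14) (p := 13) (by norm_num) (by norm_num) (by norm_num) (by norm_num)
        (by decide +kernel) h hO hst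
      exact case_suz h (by norm_num) hN (suz35 hR) (fbsuz hR) (by decide +kernel) (by decide +kernel) (by decide +kernel)
        (by decide +kernel)
    · exact nh h (m := 16) (by decide +kernel) (hX (Fi22_sixteen hR))
  · -- 15
    simp only [grps, List.mem_cons, List.not_mem_nil, or_false] at hg
    rcases hg with rfl | rfl
    · have hN : Nil G X := exists_nil (n := 15) (p := 13) (by norm_num) (by norm_num) (by norm_num) (by norm_num)
        (by decide +kernel) h hO hst
      exact case_suz h (by norm_num) hN (suz35 hR) (fbsuz hR) (by decide +kernel) (by decide +kernel) (by decide +kernel)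
        (by decide +kernel)
    · exact nh h (m := 16) (by decide +kernel) (hX (Fi22_sixteen hR))
  · -- 16
    simp only [grps, List.mem_cons, List.not_mem_nil, or_false] at hg
    rcases hg with rfl | rfl
    · exact h16 rfl hR
    · exact nh h (m := 16) (by decide +kernel) (hX (Fi22_sixteen hR))
  · -- 17
    have hN : Nil G X := exists_nil (n := 17) (p := 17) (by norm_num) (by norm_num) (by norm_num) (by norm_num)
      (by (first | (rewrite [Cfsg.Agent.KO9a27b13.e18]; decide +kernel) | decide +kernel)) h hO hst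
    simp only [grps, List.mem_singleton] at hg
    subst hg
    obtain ⟨e⟩ : Spor.IsoHe X := hR
    exact one_prime h hN (t := 11) (by norm_num) (by norm_num) (by norm_num) (by rw [hc]; decide +kernel) (by norm_num)
      (by norm_num) (by norm_num) (fb_He.congr e.symm) (a := 88) (b := 187) (by (first | (rewrite [Cfsg.Agent.KO9a27b13.e13.{0}, Cfsg.Agent.KO9a27b13.e17, Cfsg.Agent.KO9a27b13.e19, Cfsg.Agent.KO9a27b13.e12]; decide +kernel) | decide +kernel)) (by norm_num)
      (by (first | (rewrite [Cfsg.Agent.KO9a27b13.e13.{0}, Cfsg.Agent.KO9a27b13.e17, Cfsg.Agent.KO9a27b13.e19, Cfsg.Agent.KO9a27b13.e12]; decide +kernel) | decide +kernel)) (by norm_num)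
  · -- 18
    have hN : Nil G X := exists_nil (n := 18) (p := 17) (by norm_num) (by norm_num) (by norm_num) (by norm_num)
      (by (first | (rewrite [Cfsg.Agent.KO9a27b13.e18]; decide +kernel) | decide +kernel)) h hO hst
    simp only [grps, List.mem_singleton] at hg
    subst hg
    obtain ⟨e⟩ : Spor.IsoHe X := hR
    exact one_prime h hN (t := 11) (by norm_num) (by norm_num) (by norm_num) (by rw [hc]; decide +kernel) (by norm_num)
      (by norm_num) (by norm_num) (fb_He.congr e.symm) (a := 88) (b := 187) (by (first | (rewrite [Cfsg.Agent.KO9a27b13.e13.{0}, Cfsg.Agent.KO9a27b13.e17, Cfsg.Agent.KO9a27b13.e19, Cfsg.Agent.KO9a27b13.e12]; decide +kernel) | decide +kernel)) (by norm_num)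
      (by (first | (rewrite [Cfsg.Agent.KO9a27b13.e13.{0}, Cfsg.Agent.KO9a27b13.e17, Cfsg.Agent.KO9a27b13.e19, Cfsg.Agent.KO9a27b13.e12]; decide +kernel) | decide +kernel)) (by norm_num)
  · -- 19
    have hN : Nil G X := exists_nil (n := 19) (p := 19) (by norm_num) (by norm_num) (by norm_num) (by norm_num)
      (by (first | (rewrite [Cfsg.Agent.KO9a27b13.e18]; decide +kernel) | decide +kernel)) h hO hst
    simp only [grps, List.mem_singleton] at hg
    subst hg
    exact one_prime h hN (t := 11) (by norm_num) (by norm_num) (by norm_num) (by rw [hc]; decide +kernel) (by norm_num)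
      (by norm_num) (by norm_num) (fb_isoJ3 hR).1 (a := 88) (b := 187) (by (first | (rewrite [Cfsg.Agent.KO9a27b13.e13.{0}, Cfsg.Agent.KO9a27b13.e17, Cfsg.Agent.KO9a27b13.e19, Cfsg.Agent.KO9a27b13.e12]; decide +kernel) | decide +kernel)) (by norm_num)
      (by (first | (rewrite [Cfsg.Agent.KO9a27b13.e13.{0}, Cfsg.Agent.KO9a27b13.e17, Cfsg.Agent.KO9a27b13.e19, Cfsg.Agent.KO9a27b13.e12]; decide +kernel) | decide +kernel)) (by norm_num)
  · -- 20
    have hN : Nil G X := exists_nil (n := 20) (p := 19) (by norm_num) (by norm_num) (by norm_num) (by norm_num)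
      (by (first | (rewrite [Cfsg.Agent.KO9a27b13.e18]; decide +kernel) | decide +kernel)) h hO hst
    simp only [grps, List.mem_singleton] at hg
    subst hg
    exact one_prime h hN (t := 11) (by norm_num) (by norm_num) (by norm_num) (by rw [hc]; decide +kernel) (by norm_num)
      (by norm_num) (by norm_num) (fb_isoJ3 hR).1 (a := 88) (b := 187) (by (first | (rewrite [Cfsg.Agent.KO9a27b13.e13.{0}, Cfsg.Agent.KO9a27b13.e17, Cfsg.Agent.KO9a27b13.e19, Cfsg.Agent.KO9a27b13.e12]; decide +kernel) | decide +kernel)) (by norm_num)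
      (by (first | (rewrite [Cfsg.Agent.KO9a27b13.e13.{0}, Cfsg.Agent.KO9a27b13.e17, Cfsg.Agent.KO9a27b13.e19, Cfsg.Agent.KO9a27b13.e12]; decide +kernel) | decide +kernel)) (by norm_num)
  · -- 21
    have hN : Nil G X := exists_nil (n := 21) (p := 19) (by norm_num) (by norm_num) (by norm_num) (by norm_num)
      (by (first | (rewrite [Cfsg.Agent.KO9a27b13.e18]; decide +kernel) | decide +kernel)) h hO hst
    simp only [grps, List.mem_cons, List.not_mem_nil, or_false] at hg
    rcases hg with rfl | rfl | rfl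
    · obtain ⟨e⟩ : Spor.IsoJ1 X := hR
      exact one_prime h hN (t := 17) (by norm_num) (by norm_num) (by norm_num) (by rw [hc]; decide +kernel)
        (by norm_num) (by norm_num) (by norm_num) (fb_J1.congr e.symm) (a := 102) (b := 323) (by (first | (rewrite [Cfsg.Agent.KO9a27b13.e13.{0}, Cfsg.Agent.KO9a27b13.e17, Cfsg.Agent.KO9a27b13.e19, Cfsg.Agent.KO9a27b13.e12]; decide +kernel) | decide +kernel))
        (by norm_num) (by (first | (rewrite [Cfsg.Agent.KO9a27b13.e13.{0}, Cfsg.Agent.KO9a27b13.e17, Cfsg.Agent.KO9a27b13.e19, Cfsg.Agent.KO9a27b13.e12]; decide +kernel) | decide +kernel)) (by norm_num)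
    · exact one_prime h hN (t := 13) (by norm_num) (by norm_num) (by norm_num) (by rw [hc]; decide +kernel)
        (by norm_num) (by norm_num) (by norm_num) (fb_isoJ3 hR).2 (a := 117) (b := 247) (by (first | (rewrite [Cfsg.Agent.KO9a27b13.e13.{0}, Cfsg.Agent.KO9a27b13.e17, Cfsg.Agent.KO9a27b13.e19, Cfsg.Agent.KO9a27b13.e12]; decide +kernel) | decide +kernel))
        (by norm_num) (by (first | (rewrite [Cfsg.Agent.KO9a27b13.e13.{0}, Cfsg.Agent.KO9a27b13.e17, Cfsg.Agent.KO9a27b13.e19, Cfsg.Agent.KO9a27b13.e12]; decide +kernel) | decide +kernel)) (by norm_num)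
    · obtain ⟨e⟩ : Spor.IsoHN X := hR
      have hHN : IsSimpleGroup Cfsg.Spor.HN := by
        have : Nontrivial Cfsg.Spor.HN := e.symm.toEquiv.nontrivial
        exact IsSimpleGroup.isSimpleGroup_of_surjective e.toMonoidHom e.surjective
      exact one_prime h hN (t := 17) (by norm_num) (by norm_num) (by norm_num) (by rw [hc]; decide +kernel)
        (by norm_num) (by norm_num) (by norm_num) (fb_HN.congr e.symm) (a := 85) (b := 187) (by (first | (rewrite [Cfsg.Agent.KO9a27b13.e13.{0}, Cfsg.Agent.KO9a27b13.e17, Cfsg.Agent.KO9a27b13.e19, Cfsg.Agent.KO9a27b13.e12]; decide +kernel) | decide +kernel))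
        (by norm_num) (by (first | (rewrite [Cfsg.Agent.KO9a27b13.e13.{0}, Cfsg.Agent.KO9a27b13.e17, Cfsg.Agent.KO9a27b13.e19, Cfsg.Agent.KO9a27b13.e12]; decide +kernel) | decide +kernel)) (by norm_num)

end Cfsg.Agent.H61.SpAlt
end

-- part: H998/SpAlt/JTwoDat
section
/-!
# The elements of `J₂` (helper998, for S3666)
-/

set_option autoImplicit false

namespace Cfsg.Agent.H998.SpAlt

open Cfsg Subgroup
open Cfsg.Agent.J2.HundredGens Cfsg.Agent.SporadicA.J2Hundred

theorem DJ2.congr {X Y : Type*} [Group X] [Group Y] (e : X ≃* Y) (h : DJ2 X) : DJ2 Y := by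
  obtain ⟨⟨x0, h0, hx0, hh0, hxh⟩, ⟨y0, a0, b0, g0, c1, c2, d1, d2, i, j, hy0, ha, hay, hb, hby, hg, hc1, hc1y, hc2,
    hc2y, hd1, hd1y, hd2, hd2y, h7, τ0, w0, t0, hτ, hτ1, hτy, hw, hw1, hwy, ht, ht1, hty, h12, h3', hτw⟩, e0, he0⟩ := h
  have ho : ∀ x : X, orderOf (e x) = orderOf x := fun x => MulEquiv.orderOf_eq e x
  have hne : ∀ {x : X}, x ≠ 1 → e x ≠ 1 := fun hx h1 => hx ((map_eq_one_iff e e.injective).1 h1)
  refine ⟨⟨e x0, e h0, by rw [ho, hx0], by simpa only [_root_.map_pow, _root_.map_one] using congrArg e hh0, by simpa only [_root_.map_mul, _root_.map_inv, _root_.map_pow] using congrArg e hxh⟩,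
    ⟨e y0, e a0, e b0, e g0, e c1, e c2, e d1, e d2, i, j, by rw [ho, hy0], by simpa only [_root_.map_mul, _root_.map_one] using congrArg e ha,
      by simpa only [_root_.map_mul] using congrArg e hay, by simpa only [_root_.map_mul, _root_.map_one] using congrArg e hb, by simpa using congrArg e hby,
      by simpa only [_root_.map_mul, _root_.map_inv, _root_.map_pow] using congrArg e hg, by simpa only [_root_.map_mul, _root_.map_one] using congrArg e hc1, by simpa using congrArg e hc1y,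
      by simpa only [_root_.map_mul, _root_.map_one] using congrArg e hc2, by simpa using congrArg e hc2y, by simpa only [_root_.map_mul, _root_.map_one] using congrArg e hd1,
      by simpa only [_root_.map_mul, _root_.map_pow] using congrArg e hd1y, by simpa only [_root_.map_mul, _root_.map_one] using congrArg e hd2, by simpa only [_root_.map_mul, _root_.map_pow] using congrArg e hd2y,
      by rw [← map_mul, ← map_mul, ← map_mul, ho, h7],
      e τ0, e w0, e t0, by simpa only [_root_.map_mul, _root_.map_one] using congrArg e hτ, hne hτ1, by simpa only [_root_.map_mul, _root_.map_inv] using congrArg e hτy,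
      by simpa only [_root_.map_mul, _root_.map_one] using congrArg e hw, hne hw1, by simpa using congrArg e hwy, by simpa only [_root_.map_mul, _root_.map_one] using congrArg e ht, hne ht1,
      by simpa using congrArg e hty, by simpa only [_root_.map_mul, _root_.map_inv] using congrArg e h12, by simpa only [_root_.map_mul, _root_.map_inv] using congrArg e h3',
      by simpa using congrArg e hτw⟩, e e0, by rw [ho, he0]⟩

namespace JTwoDat

/-- the element of a word -/
noncomputable def el (L : List ℕ) : ↥G := ⟨pw L, pw_mem L⟩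

theorem el_mul (L M : List ℕ) : el L * el M = el (L ++ M) := Subtype.ext (pw_mul L M)

theorem el_inv (L : List ℕ) : (el L)⁻¹ = el L.reverse := Subtype.ext (pw_inv L)

theorem el_eq {L M : List ℕ} (h : chk L M = true) : el L = el M := Subtype.ext (pw_eq h)

theorem el_one' {L : List ℕ} (h : chk L [] = true) : el L = 1 := el_eq h

theorem el_ne {L : List ℕ} (h : chk L [] = false) : el L ≠ 1 := by
  intro h1
  have h2 : pw L = 1 := congrArg Subtype.val h1
  have h3 : chk L [] = true := by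
    unfold chk
    rw [Cfsg.Agent.SporadicA.PermTab.allB_iff]
    intro i hi
    have h4 := pw_val L ⟨i, hi⟩
    rw [h2] at h4
    have h5 : run L i = run [] i := h4.symm
    rw [h5]
    exact Nat.beq_refl _
  rw [h3] at h
  exact Bool.noConfusion h

/-- word -/
def wx : List ℕ := [4, 3, 1, 2, 3, 1, 2, 1, 0]
/-- word -/
def wh : List ℕ := [1, 0, 1, 2, 3, 2, 1, 0, 1, 3, 2, 3, 4, 3, 2]
/-- word -/
def wy : List ℕ := [1, 0]
/-- word -/
def wa : List ℕ := [4]
/-- word -/
def wb : List ℕ := [2, 3, 1, 2, 3, 2, 1, 0, 1, 2, 3, 0, 1, 2, 1, 0, 1, 0]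
/-- word -/
def wg : List ℕ := [3, 2, 3, 4, 3, 2, 3, 2, 1, 0, 1, 2, 3, 4, 1, 2, 3, 2, 0]
/-- word -/
def wc1 : List ℕ := [3]
/-- word -/
def wc2 : List ℕ := [4]
/-- word -/
def wd1 : List ℕ := [2, 3, 4, 2, 3, 1, 2, 3, 4, 2, 3, 1, 2, 3, 4, 1, 2, 0, 1, 0]
/-- word -/
def wd2 : List ℕ := [1, 2, 3, 4, 3, 2, 3, 1, 2, 3, 4, 2, 3, 1, 2, 3, 1, 2, 0, 1, 0, 1]
/-- word -/
def wt : List ℕ := [4, 2, 3, 1, 2, 3, 2, 1, 0, 1, 2, 3, 4, 0, 1, 2, 1, 0, 1, 0]
/-- word -/
def ww : List ℕ := [3, 4]
/-- word -/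
def wτ : List ℕ := [0]
/-- word -/
def we : List ℕ := [3, 2]

theorem dat : DJ2 ↥G := by
  refine ⟨⟨el wx, el wh, ?_, ?_, ?_⟩, ⟨el wy, el wa, el wb, el wg, el wc1, el wc2, el wd1, el wd2, 2, 1, ?_, ?_, ?_, ?_, ?_,
    ?_, ?_, ?_, ?_, ?_, ?_, ?_, ?_, ?_, ?_, el wτ, el ww, el wt, ?_, ?_, ?_, ?_, ?_, ?_, ?_, ?_, ?_, ?_, ?_, ?_⟩, el we, ?_⟩
  · refine orderOf_eq_prime (hp := ⟨by norm_num⟩) ?_ (el_ne (by decide +kernel))
    simp only [pow_succ, pow_zero, one_mul, el_mul]
    exact el_one' (by decide +kernel)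
  · simp only [pow_succ, pow_zero, one_mul, el_mul]
    exact el_one' (by (rewrite [Cfsg.Agent.J2HF.chk_fast]; decide +kernel))
  · simp only [pow_succ, pow_zero, one_mul, el_mul, el_inv]
    exact el_eq (by decide +kernel)
  · refine orderOf_eq_prime (hp := ⟨by norm_num⟩) ?_ (el_ne (by decide +kernel))
    simp only [pow_succ, pow_zero, one_mul, el_mul]
    exact el_one' (by decide +kernel)
  · simp only [el_mul]
    exact el_one' (by decide +kernel)
  · simp only [el_mul]
    exact el_eq (by decide +kernel)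
  · simp only [el_mul]
    exact el_one' (by decide +kernel)
  · simp only [el_mul]
    exact el_eq (by decide +kernel)
  · simp only [pow_succ, pow_zero, one_mul, el_mul, el_inv]
    exact el_eq (by decide +kernel)
  · simp only [el_mul]
    exact el_one' (by decide +kernel)
  · simp only [el_mul]
    exact el_eq (by decide +kernel)
  · simp only [el_mul]
    exact el_one' (by decide +kernel)
  · simp only [el_mul]
    exact el_eq (by decide +kernel)
  · simp only [el_mul]
    exact el_one' (by decide +kernel)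
  · simp only [pow_succ, pow_zero, one_mul, el_mul]
    exact el_eq (by decide +kernel)
  · simp only [el_mul]
    exact el_one' (by decide +kernel)
  · simp only [pow_succ, pow_zero, one_mul, el_mul]
    exact el_eq (by (rewrite [Cfsg.Agent.J2HF.chk_fast]; decide +kernel))
  · simp only [el_mul]
    refine orderOf_eq_prime (hp := ⟨by norm_num⟩) ?_ (el_ne (by decide +kernel))
    simp only [pow_succ, pow_zero, one_mul, el_mul]
    exact el_one' (by (rewrite [Cfsg.Agent.J2HF.chk_fast]; decide +kernel))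
  · simp only [el_mul]
    exact el_one' (by decide +kernel)
  · exact el_ne (by decide +kernel)
  · simp only [el_mul, el_inv]
    exact el_eq (by decide +kernel)
  · simp only [el_mul]
    exact el_one' (by decide +kernel)
  · exact el_ne (by decide +kernel)
  · simp only [el_mul]
    exact el_eq (by decide +kernel)
  · simp only [el_mul]
    exact el_one' (by decide +kernel)
  · exact el_ne (by decide +kernel)
  · simp only [el_mul]
    exact el_eq (by decide +kernel)
  · simp only [el_mul, el_inv]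
    exact el_eq (by (rewrite [Cfsg.Agent.J2HF.chk_fast]; decide +kernel))
  · simp only [el_mul, el_inv]
    exact el_eq (by decide +kernel)
  · simp only [el_mul]
    exact el_eq (by decide +kernel)
  · have : orderOf (el we) = 2 ^ (2 + 1) := by
      refine orderOf_eq_prime_pow ?_ ?_
      · simp only [show (2 : ℕ) ^ 2 = 4 from rfl, pow_succ, pow_zero, one_mul, el_mul]
        exact el_ne (by decide +kernel)
      · simp only [show (2 : ℕ) ^ (2 + 1) = 8 from rfl, pow_succ, pow_zero, one_mul, el_mul]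
        exact el_one' (by decide +kernel)
    exact this

end JTwoDat

/-- **the data for `J₂`** -/
theorem dj2_of_iso {X : Type*} [Group X] (h : Spor.IsoJ2 X) : DJ2 X := by
  obtain ⟨e⟩ := h
  obtain ⟨f⟩ := J2_iso Cfsg.Agent.S1619.result.2.2.2
  exact JTwoDat.dat.congr (e.trans f).symm

end Cfsg.Agent.H998.SpAlt
end

-- part: H998/SpAlt/Ten
section
/-!
# S3666, the alternating group of degree 10 (helper998)
-/

set_option autoImplicit false

namespace Cfsg.Agent.H998.SpAlt

open Cfsg Subgroup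

universe u v

theorem j2_no_twenty_one : ¬ Has Spor.J2 21 := by
  rintro ⟨g, hg⟩
  have h3 : orderOf (g ^ 7) = 3 := by
    rw [orderOf_pow' _ (by norm_num), hg]
    norm_num
  have h1 : g ∈ centralizer ({g ^ 7} : Set Spor.J2) := by
    rw [mem_centralizer_singleton_iff]
    exact (Commute.refl g).pow_right 7
  have h2 := Subgroup.orderOf_dvd_natCard _ h1
  rw [hg] at h2
  rcases Cfsg.Agent.CpAutTThree.JTwo.card_three h3 with h | h
  · rw [h] at h2
    omega
  · rw [h] at h2
    omega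

theorem card_isoJ2 {X : Type v} [Group X] (hX : Spor.IsoJ2 X) : Nat.card X = 604800 := by
  obtain ⟨e⟩ := hX
  rw [Nat.card_congr e.toEquiv]
  exact Cfsg.Agent.S1619.result.2.2.2

theorem simple_isoJ2 {X : Type v} [Group X] (hX : Spor.IsoJ2 X) : IsSimpleGroup X := by
  obtain ⟨e⟩ := hX
  obtain ⟨f⟩ := Cfsg.Agent.J2.HundredGens.J2_iso Cfsg.Agent.S1619.result.2.2.2
  have := Cfsg.Agent.SporadicA.J2Hundred.simple
  exact (e.trans f).isSimpleGroup

theorem prime_le_of_has {n p : ℕ} (hp : p.Prime) (h : ∃ a : alternatingGroup (Fin n), orderOf a = p) : p ≤ n := by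
  obtain ⟨a, ha⟩ := h
  have h1 : p ∣ Nat.card (Equiv.Perm (Fin n)) := by
    rw [← ha, ← Subgroup.orderOf_coe]
    exact _root_.orderOf_dvd_natCard _
  rw [Nat.card_eq_fintype_card, Fintype.card_perm, Fintype.card_fin] at h1
  exact (hp.dvd_factorial).1 h1

/-- **S3666, degree 10.** -/
theorem ten_false {G : Type u} [Group G] [Finite G]
    (h : ∀ m, (∃ g : G, orderOf g = m) ↔ ∃ a : alternatingGroup (Fin 10), orderOf a = m) {X : Type v} [Group X]
    (hX : Spor.IsoJ2 X) (hO : OI X) (hst : St G X) : False := by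
  have hcard := card_isoJ2 hX
  have hsimple := simple_isoJ2 hX
  have hfin : Finite X := Nat.finite_of_card_ne_zero (by rw [hcard]; norm_num)
  have hno : ∀ m, ((gen (10 + 10) 10 10).all fun x => !(Nat.beq x.1 m) || x.2) = true → ¬ Has G m := by
    intro m hm hh
    exact alt_not hm ((h m).1 hh)
  have h14 : ¬ Has G 14 := hno 14 (by decide +kernel)
  have h21 : Has G 21 := by
    refine (h 21).2 ?_
    exact alt_has (n := 10) {7, 3} (by decide) (by decide) (by decide)
  obtain ⟨K, hKn, S, hSn, hKs, hC, ⟨e⟩, hd⟩ := hst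
  have hXS : Nat.card ↥S = Nat.card X := Nat.card_congr e.toEquiv
  -- `7 ∤ |K|`
  have h7K : ¬ 7 ∣ Nat.card ↥K := by
    refine not_dvd_K K S (by norm_num) fun k hk => ?_
    rw [hXS]
    refine hd 7 (by norm_num) (by norm_num) ?_ h14 k hk
    obtain ⟨g, hg⟩ := h21
    have h1 := _root_.orderOf_dvd_natCard g
    rw [hg] at h1
    exact (by norm_num : 7 ∣ 21).trans h1
  have h3K : 3 ∣ Nat.card ↥K := by
    by_contra h3
    have h1 : Nat.Coprime 21 (Nat.card ↥K) := by
      have : (21 : ℕ) = 3 * 7 := by norm_num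
      rw [this]
      exact Nat.Coprime.mul_left ((Nat.Prime.coprime_iff_not_dvd Nat.prime_three).2 h3)
        ((Nat.Prime.coprime_iff_not_dvd (by norm_num)).2 h7K)
    obtain ⟨s, hs⟩ := has_S K S hC (hO.congr e.symm) (by decide) h1 h21
    obtain ⟨e'⟩ := hX
    exact j2_no_twenty_one ⟨e' (e s), by rw [MulEquiv.orderOf_eq, MulEquiv.orderOf_eq, hs]⟩
  obtain ⟨G0, f, hf, hsol, hker⟩ := exists_surj K S e hKs
  have hG0 : ∀ {m : ℕ}, ¬ Has G m → ¬ Has ↥G0 m := by
    rintro m hm ⟨g, hg⟩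
    exact hm ⟨(g : G), by rw [Subgroup.orderOf_coe, hg]⟩
  refine jtwo_core (dj2_of_iso hX) f hf hsol (by rw [hker]; exact h3K) ?_ (hG0 h14) (hG0 (hno 20 (by decide +kernel)))
    (hG0 (hno 30 (by decide +kernel))) (hG0 (hno 18 (by decide +kernel))) (hG0 (hno 35 (by decide +kernel)))
    (hG0 (hno 24 (by decide +kernel)))
  intro p hp hpd
  rw [hker] at hpd
  have h1 : p ∣ Nat.card G := hpd.trans (Subgroup.card_subgroup_dvd_card K)
  have := Fact.mk hp
  obtain ⟨g, hg⟩ := exists_prime_orderOf_dvd_card' p h1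
  have h2 : p ≤ 10 := prime_le_of_has hp ((h p).1 ⟨g, hg⟩)
  by_contra h5
  have h6 : p = 7 := by
    interval_cases p <;> first | rfl | (exfalso; revert hp; norm_num)
  exact h7K (h6 ▸ hpd)

end Cfsg.Agent.H998.SpAlt
end

-- part: H61/SpAltFinal
section
/-!
# The alternating part of S3666 (helper61, helper998)

Light version: the order table, the classification and the inner automorphisms of odd order are hypotheses.
-/

set_option autoImplicit false

namespace Cfsg.Agent.H61.SpAlt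

open Cfsg Subgroup Cfsg.Agent.H998.SpAlt Cfsg.Agent.OrdDiv

universe u v

theorem sporadic_of_real {n : ℕ} {g : Grp} (hg : g ∈ grps n) {X : Type u} [Group X] (hR : Real g X) :
    IsSporadicGroup X := by
  have key : ∀ m < 22, ∀ g ∈ grps m, g ∈ [Grp.j2, .m11, .m12, .m22, .hs, .mcl, .suz, .fi22, .he, .j3, .j1, .hn] := by
    decide +kernel
  have h1 : g ∈ [Grp.j2, .m11, .m12, .m22, .hs, .mcl, .suz, .fi22, .he, .j3, .j1, .hn] := by
    rcases Nat.lt_or_ge n 22 with h | h
    · exact key n h g hg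
    · exfalso
      have h2 : grps n = [] := by
        unfold grps
        split <;> first | omega | rfl
      rw [h2] at hg
      exact List.not_mem_nil hg
  simp only [List.mem_cons, List.not_mem_nil, or_false] at h1
  unfold IsSporadicGroup
  rcases h1 with rfl | rfl | rfl | rfl | rfl | rfl | rfl | rfl | rfl | rfl | rfl | rfl <;>
    (simp only [Cfsg.Agent.OrdDiv.Real] at hR; simp only [hR, true_or, or_true])

/-- **No sporadic composition factor for the alternating groups of degree at most 21.** -/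
theorem alt_false_of {n : ℕ} (h5 : 5 ≤ n) (h21 : n < 22) {G : Type v} [Group G] [Finite G] {X : Type u} [Group X]
    (h : ∀ m, (∃ g : G, orderOf g = m) ↔ ∃ a : alternatingGroup (Fin n), orderOf a = m) (hsp : Cfsg.IsSporadic X)
    (hst : St G X) (T : OrderTable.{u}) (hk : IsKnownSimple' X) (hodd : IsSporadicGroup X → OI X)
    (h16 : n = 16 → Spor.IsoSuz X → OI X → False) : False := by
  have hfin := finite_of_st hst
  have hs := isSimple_of_sp hsp
  obtain ⟨x, hx, hg, hc, hcN, hna⟩ := reduce h5 h21 h hsp hst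
  have hR : Real x.1 X := Cfsg.Agent.H403.real_of_card T hk hna hx hc
  have hO : OI X := hodd (sporadic_of_real hg hR)
  refine cases_main h5 h21 hs h hg hR hcN hO hst ?_ (fun h1 h2 => h16 h1 h2 hO)
  rintro rfl hJ
  exact ten_false h hJ hO hst

end Cfsg.Agent.H61.SpAlt
end

private theorem dce_3ec637069f69 : _root_.True := by
  try have : _root_.True := by simp only [_root_.Cfsg.Agent.OrdDiv.Real.eq_6]
  try have : _root_.True := by simp only [_root_.Cfsg.Agent.OrdDiv.Real.eq_36]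
  try have : _root_.True := by simp only [_root_.Cfsg.Agent.H61.SpAlt.grps.eq_2]
  try have : _root_.True := by simp only [_root_.Cfsg.Agent.OrdDiv.Real.eq_33]
  try have : _root_.True := by simp only [_root_.Cfsg.Agent.OrdDiv.Real.eq_12]
  try have : _root_.True := by simp only [_root_.Cfsg.Agent.OrdDiv.Real.eq_30]
  try have : _root_.True := by simp only [_root_.Cfsg.Agent.H61.SpAlt.grps.eq_1]
  try have : _root_.True := by simp only [_root_.Cfsg.Agent.OrdDiv.Real.eq_39]
  try have : _root_.True := by simp only [_root_.Cfsg.Agent.OrdDiv.Real.eq_22]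
  try have : _root_.True := by simp only [_root_.Cfsg.Agent.OrdDiv.Real.eq_2]
  try have : _root_.True := by simp only [_root_.Cfsg.Agent.OrdDiv.Real.eq_27]
  try have : _root_.True := by simp only [_root_.Cfsg.Agent.OrdDiv.Real.eq_38]
  try have : _root_.True := by simp only [_root_.Cfsg.Agent.H61.SpAlt.itf.eq_1]
  try have : _root_.True := by simp only [_root_.Cfsg.Agent.OrdDiv.Real.eq_35]
  try have : _root_.True := by simp only [_root_.Cfsg.Agent.OrdDiv.Real.eq_17]
  try have : _root_.True := by simp only [_root_.Cfsg.Agent.H61.SpAlt.grps.eq_14]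
  try have : _root_.True := by simp only [_root_.Cfsg.Agent.H61.SpAlt.grps.eq_10]
  try have : _root_.True := by simp only [_root_.Cfsg.Agent.OrdDiv.Real.eq_29]
  try have : _root_.True := by simp only [_root_.Cfsg.Agent.OrdDiv.Real.eq_4]
  try have : _root_.True := by simp only [_root_.Cfsg.Agent.OrdDiv.Real.eq_8]
  try have : _root_.True := by simp only [_root_.Cfsg.Agent.OrdDiv.Real.eq_21]
  try have : _root_.True := by simp only [_root_.Cfsg.Agent.OrdDiv.Real.eq_31]
  try have : _root_.True := by simp only [_root_.Cfsg.Agent.OrdDiv.Real.eq_10]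
  try have : _root_.True := by simp only [_root_.Cfsg.Agent.OrdDiv.Real.eq_18]
  try have : _root_.True := by simp only [_root_.Cfsg.Agent.OrdDiv.Real.eq_7]
  try have : _root_.True := by simp only [_root_.Cfsg.Agent.H61.SpAlt.grps.eq_13]
  try have : _root_.True := by simp only [_root_.Cfsg.Agent.OrdDiv.Real.eq_9]
  try have : _root_.True := by simp only [_root_.Cfsg.Agent.OrdDiv.Real.eq_32]
  try have : _root_.True := by simp only [_root_.Cfsg.Agent.OrdDiv.Real.eq_5]
  try have : _root_.True := by simp only [_root_.Cfsg.Agent.H998.SpAlt.nm.eq_1]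
  try have : _root_.True := by simp only [_root_.Cfsg.Agent.H61.SpAlt.grps.eq_12]
  try have : _root_.True := by simp only [_root_.Cfsg.Agent.OrdDiv.Real.eq_34]
  try have : _root_.True := by simp only [_root_.Cfsg.Agent.H61.SpAlt.grps.eq_5]
  try have : _root_.True := by simp only [_root_.Cfsg.Agent.OrdDiv.Real.eq_19]
  try have : _root_.True := by simp only [_root_.Cfsg.Agent.OrdDiv.Real.eq_3]
  try have : _root_.True := by simp only [_root_.Cfsg.Agent.OrdDiv.Real.eq_11]
  try have : _root_.True := by simp only [_root_.Cfsg.Agent.OrdDiv.Real.eq_25]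
  try have : _root_.True := by simp only [_root_.Cfsg.Agent.OrdDiv.Real.eq_41]
  try have : _root_.True := by simp only [_root_.Cfsg.Agent.OrdDiv.Real.eq_14]
  try have : _root_.True := by simp only [_root_.Cfsg.Agent.H61.SpAlt.itf.eq_2]
  try have : _root_.True := by simp only [_root_.Cfsg.Agent.OrdDiv.Real.eq_28]
  try have : _root_.True := by simp only [_root_.Cfsg.Agent.H61.SpAlt.grps.eq_3]
  try have : _root_.True := by simp only [_root_.Cfsg.Agent.OrdDiv.Real.eq_43]
  try have : _root_.True := by simp only [_root_.Cfsg.Agent.OrdDiv.Real.eq_1]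
  try have : _root_.True := by simp only [_root_.Cfsg.Agent.H61.SpAlt.grps.eq_16]
  try have : _root_.True := by simp only [_root_.Cfsg.Agent.OrdDiv.Real.eq_15]
  try have : _root_.True := by simp only [_root_.Cfsg.Agent.OrdDiv.Real.eq_13]
  try have : _root_.True := by simp only [_root_.Cfsg.Agent.H61.SpAlt.grps.eq_7]
  try have : _root_.True := by simp only [_root_.Cfsg.Agent.H61.SpAlt.grps.eq_9]
  try have : _root_.True := by simp only [_root_.Cfsg.Agent.OrdDiv.Real.eq_24]
  try have : _root_.True := by simp only [_root_.Cfsg.Agent.OrdDiv.Real.eq_42]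
  try have : _root_.True := by simp only [_root_.Cfsg.Agent.OrdDiv.Real.eq_23]
  try have : _root_.True := by simp only [_root_.Cfsg.Agent.H61.SpAlt.grps.eq_15]
  try have : _root_.True := by simp only [_root_.Cfsg.Agent.OrdDiv.Real.eq_16]
  try have : _root_.True := by simp only [_root_.Cfsg.Agent.OrdDiv.Real.eq_20]
  try have : _root_.True := by simp only [_root_.Cfsg.Agent.OrdDiv.Real.eq_44]
  try have : _root_.True := by simp only [_root_.Cfsg.Agent.OrdDiv.Real.eq_26]
  try have : _root_.True := by simp only [_root_.Cfsg.Agent.H61.SpAlt.grps.eq_4]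
  try have : _root_.True := by simp only [_root_.Cfsg.Agent.H61.SpAlt.grps.eq_8]
  try have : _root_.True := by simp only [_root_.Cfsg.Agent.H61.SpAlt.itf.eq_def]
  try have : _root_.True := by simp only [_root_.Cfsg.Agent.H61.SpAlt.grps.eq_6]
  try have : _root_.True := by simp only [_root_.Cfsg.Agent.OrdDiv.Real.eq_37]
  try have : _root_.True := by simp only [_root_.Cfsg.Agent.OrdDiv.Real.eq_40]
  try have : _root_.True := by simp only [_root_.Cfsg.Agent.H61.SpAlt.grps.eq_11]
  exact _root_.True.intro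
end

-- part: H998/SpAlt/Shult
section
set_option linter.all false
open scoped Cfsg.Agent.FastGrp

/-!
# The Shult step (helper998, for S3666)

`ρ : G1 →* AddMonoid.End A`, `A` a finite elementary abelian `s`-group, irreducible; `K1` normal in `G1`; `x` of prime
order `r` not dividing `|K1|`, `r ≠ 2 ^ m + 1`, with `∑_{i < r} ρ x ^ i = 0`.  Then `ρ x` commutes with `ρ k` for all
`k ∈ K1`.  The theorem of Shult (S3041) is a hypothesis.
-/

set_option autoImplicit false
set_option linter.unusedSectionVars false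

namespace Cfsg.Agent.H998.SpAlt

open Subgroup
open scoped commutatorElement

universe u v

/-- the statement of S3041 over the prime field -/
def ShultStmt : Prop :=
  ∀ (X : Type u) [Group X] [Finite X] (G R : Subgroup X) [G.Normal] (_ : G ⊔ R = ⊤) (r : ℕ) (_ : r.Prime)
    (_ : Nat.card R = r) (_ : ¬ r ∣ Nat.card G) (p : ℕ) [Fact p.Prime] (V : Type u) [AddCommGroup V]
    [Module (ZMod p) V] [FiniteDimensional (ZMod p) V] [Nontrivial V] (ρ : Representation (ZMod p) X V)
    (_ : Function.Injective ρ) (_ : ∀ W : Submodule (ZMod p) V, (∀ x : X, W.map (ρ x) ≤ W) → W = ⊥ ∨ W = ⊤)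
    (_ : ∀ v : V, (∀ x ∈ R, ρ x v = v) → v = 0), ⁅G, R⁆ = ⊥ ∨ ∃ m : ℕ, r = 2 ^ m + 1

section

variable {H : Type u} [Group H] {A : Type u} [AddCommGroup A]

/-- factorisation through the image -/
theorem ker_fac {H : Type u} [Group H] {M : Type v} [Monoid M] (ρ : H →* M) :
    ∃ (Q : Type u) (_ : Group Q) (q : H →* Q) (ρ' : Q →* M),
      Function.Surjective q ∧ Function.Injective ρ' ∧ ∀ h : H, ρ' (q h) = ρ h := by
  refine ⟨H ⧸ ρ.ker, inferInstance, QuotientGroup.mk' ρ.ker, QuotientGroup.lift ρ.ker ρ fun _ h => h,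
    QuotientGroup.mk'_surjective _, ?_, fun h => rfl⟩
  intro a b hab
  obtain ⟨a, rfl⟩ := QuotientGroup.mk'_surjective _ a
  obtain ⟨b, rfl⟩ := QuotientGroup.mk'_surjective _ b
  have h1 : ρ a = ρ b := hab
  refine QuotientGroup.eq.2 ?_
  rw [MonoidHom.mem_ker, map_mul, ← h1, ← map_mul, inv_mul_cancel, map_one]

/-- restriction to an invariant subgroup -/
def res (ρ : H →* AddMonoid.End A) (B : AddSubgroup A) (hB : ∀ h, ∀ b ∈ B, ρ h b ∈ B) : H →* AddMonoid.End B where
  toFun h := ((ρ h : A →+ A).comp B.subtype).codRestrict B fun b => hB h b b.2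
  map_one' := by
    ext b
    show (ρ 1) (b : A) = b
    rw [map_one]
    rfl
  map_mul' h k := by
    ext b
    show (ρ (h * k)) (b : A) = ρ h (ρ k b)
    rw [map_mul]
    rfl

/-- the quotient by an invariant subgroup -/
def quo (ρ : H →* AddMonoid.End A) (B : AddSubgroup A) (hB : ∀ h, ∀ b ∈ B, ρ h b ∈ B) : H →* AddMonoid.End (A ⧸ B) where
  toFun h := QuotientAddGroup.map B B (ρ h : A →+ A) fun b hb => hB h b hb
  map_one' := by
    refine AddMonoidHom.ext fun b => ?_
    obtain ⟨b, rfl⟩ := QuotientAddGroup.mk_surjective b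
    show ((ρ 1 b : A) : A ⧸ B) = b
    rw [map_one]
    rfl
  map_mul' h k := by
    refine AddMonoidHom.ext fun b => ?_
    obtain ⟨b, rfl⟩ := QuotientAddGroup.mk_surjective b
    show ((ρ (h * k) b : A) : A ⧸ B) = ((ρ h (ρ k b) : A) : A ⧸ B)
    rw [map_mul]
    rfl

/-- an endomorphism as a linear map over the prime field -/
def zl (A : Type u) [AddCommGroup A] (s : ℕ) [Module (ZMod s) A] : AddMonoid.End A →* (A →ₗ[ZMod s] A) where
  toFun f := AddMonoidHom.toZModLinearMap s (f : A →+ A)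
  map_one' := LinearMap.ext fun _ => rfl
  map_mul' _ _ := LinearMap.ext fun _ => rfl

theorem zl_apply (A : Type u) [AddCommGroup A] (s : ℕ) [Module (ZMod s) A] (f : AddMonoid.End A) (a : A) :
    zl A s f a = f a := rfl

theorem zl_inj (A : Type u) [AddCommGroup A] (s : ℕ) [Module (ZMod s) A] : Function.Injective (zl A s) := by
  intro f g h
  refine AddMonoidHom.ext fun a => ?_
  exact (zl_apply A s f a).symm.trans ((LinearMap.congr_fun h a).trans (zl_apply A s g a))

/-- the faithful case, in the language of linear representations -/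
theorem shult_aux (hSh : ShultStmt.{u}) (A : Type u) [AddCommGroup A] [Finite A] [Nontrivial A] (s : ℕ)
    (hs : s.Prime) [Module (ZMod s) A] {X : Type u} [Group X] [Finite X] {ρ : X →* AddMonoid.End A}
    (hρ : Function.Injective ρ) {K : Subgroup X} [K.Normal] {x : X} {r : ℕ} (hr : r.Prime)
    (hx : orderOf x = r) (hrK : ¬ r ∣ Nat.card K) (hrm : ∀ m : ℕ, r ≠ 2 ^ m + 1)
    (hKx : K ⊔ zpowers x = ⊤) (hfix : ∀ a : A, ρ x a = a → a = 0)
    (hirr : ∀ B : AddSubgroup A, (∀ h, ∀ b ∈ B, ρ h b ∈ B) → B = ⊥ ∨ B = ⊤) : ⁅K, zpowers x⁆ = ⊥ := by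
  have := Fact.mk hs
  have hinj : Function.Injective ((zl A s).comp ρ) := by
    intro a b hab
    exact hρ (zl_inj A s hab)
  have hW : ∀ W : Submodule (ZMod s) A, (∀ y : X, W.map (((zl A s).comp ρ) y) ≤ W) → W = ⊥ ∨ W = ⊤ := by
    intro W hW
    have hB : ∀ h, ∀ b ∈ W.toAddSubgroup, ρ h b ∈ W.toAddSubgroup := by
      intro h b hb
      exact hW h ⟨b, hb, rfl⟩
    rcases hirr W.toAddSubgroup hB with h | h
    · left
      rw [eq_bot_iff]
      intro w hw
      have h1 : w ∈ W.toAddSubgroup := hw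
      rw [h] at h1
      exact h1
    · right
      rw [eq_top_iff]
      intro w _
      have h1 : w ∈ W.toAddSubgroup := by rw [h]; exact AddSubgroup.mem_top w
      exact h1
  have hf : ∀ v : A, (∀ y ∈ zpowers x, ((zl A s).comp ρ) y v = v) → v = 0 := by
    intro v hv
    exact hfix v (hv x (mem_zpowers x))
  rcases hSh X K (zpowers x) hKx r hr (by rw [Nat.card_zpowers, hx]) hrK s A ((zl A s).comp ρ) hinj hW hf with h | ⟨m, hm⟩
  · exact h
  · exact absurd hm (hrm m)

theorem pow_apply_sum (f : AddMonoid.End A) (r : ℕ) (a : A) :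
    (∑ i ∈ Finset.range r, f ^ i) a = ∑ i ∈ Finset.range r, (f ^ i) a := by
  induction r with
  | zero => rfl
  | succ r ih =>
    rw [Finset.sum_range_succ, Finset.sum_range_succ, ← ih]
    rfl

/-- the irreducible case -/
theorem shult_irr (hSh : ShultStmt.{u}) [Finite H] [Finite A] [Nontrivial A] {ρ : H →* AddMonoid.End A} {s : ℕ}
    (hs : s.Prime) (hA : ∀ a : A, s • a = 0) {K : Subgroup H} [K.Normal] {x : H} {r : ℕ} (hr : r.Prime)
    (hx : orderOf x = r) (hrK : ¬ r ∣ Nat.card K) (hrs : r ≠ s) (hrm : ∀ m : ℕ, r ≠ 2 ^ m + 1)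
    (hKx : K ⊔ zpowers x = ⊤) (hn : nm ρ x r = 0)
    (hirr : ∀ B : AddSubgroup A, (∀ h, ∀ b ∈ B, ρ h b ∈ B) → B = ⊥ ∨ B = ⊤) :
    ∀ k ∈ K, ρ ⁅k, x⁆ = 1 := by
  have := Fact.mk hs
  have hsA : ∀ {n : ℕ} {a : A}, ¬ s ∣ n → n • a = 0 → a = 0 := by
    intro n a hsn h
    have h1 : addOrderOf a ∣ n := addOrderOf_dvd_of_nsmul_eq_zero h
    have h2 : addOrderOf a ∣ s := addOrderOf_dvd_of_nsmul_eq_zero (hA a)
    rcases (Nat.dvd_prime hs).1 h2 with h3 | h3
    · exact AddMonoid.addOrderOf_eq_one_iff.1 h3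
    · exact absurd (h3 ▸ h1) hsn
  have hsr : ¬ s ∣ r := fun h => hrs ((Nat.prime_dvd_prime_iff_eq hs hr).1 h).symm
  have hfix : ∀ a : A, ρ x a = a → a = 0 := by
    intro a ha
    refine hsA hsr ?_
    have h1 : nm ρ x r a = r • a := by
      have hp : ∀ i : ℕ, (ρ x ^ i) a = a := by
        intro i
        induction i with
        | zero => rfl
        | succ i ih =>
          rw [pow_succ]
          show (ρ x ^ i) (ρ x a) = a
          rw [ha, ih]
      have h2 : nm ρ x r a = ∑ i ∈ Finset.range r, (ρ x ^ i) a := pow_apply_sum _ _ _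
      rw [h2, Finset.sum_congr rfl fun i _ => hp i, Finset.sum_const, Finset.card_range]
    rw [← h1, hn]
    rfl
  obtain ⟨inst⟩ : Nonempty (Module (ZMod s) A) := ⟨AddCommGroup.zmodModule hA⟩
  obtain ⟨Q, _, q, ρ', hqs, hρ', hρq⟩ := ker_fac ρ
  have hQf : Finite Q := Finite.of_surjective q hqs
  have hGn : (K.map q).Normal := Subgroup.Normal.map inferInstance q hqs
  have hx1 : ρ x ≠ 1 := by
    intro h
    obtain ⟨a, ha⟩ := exists_ne (0 : A)
    exact ha (hfix a (by rw [h]; rfl))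
  have hqx : orderOf (q x) = r := by
    have h0 : orderOf (q x) ∣ r := by
      rw [← hx]
      exact orderOf_map_dvd q x
    rcases (Nat.dvd_prime hr).1 h0 with h | h
    · exfalso
      apply hx1
      rw [← hρq, orderOf_eq_one_iff.1 h, map_one]
    · exact h
  have key := shult_aux hSh A s hs hρ' (K := K.map q) hr hqx (fun h => hrK (h.trans (Subgroup.card_map_dvd K q))) hrm
    (by rw [← MonoidHom.map_zpowers, ← Subgroup.map_sup, hKx, Subgroup.map_top_of_surjective q hqs])
    (fun a ha => hfix a (by rw [← hρq]; exact ha))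
    (fun B hB => hirr B fun h b hb => by rw [← hρq]; exact hB (q h) b hb)
  intro k hk
  have h1 : ⁅q k, q x⁆ ∈ ⁅K.map q, zpowers (q x)⁆ :=
    Subgroup.commutator_mem_commutator ⟨k, hk, rfl⟩ (mem_zpowers (q x))
  rw [key, mem_bot, ← map_commutatorElement] at h1
  rw [← hρq, h1, map_one]

/-- **unipotence** -/
theorem shult_unip (hSh : ShultStmt.{u}) [Finite H] {s : ℕ} (hs : s.Prime) {K : Subgroup H} [K.Normal] {x : H} {r : ℕ}
    (hr : r.Prime) (hx : orderOf x = r) (hrK : ¬ r ∣ Nat.card K) (hrs : r ≠ s) (hrm : ∀ m : ℕ, r ≠ 2 ^ m + 1)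
    (hKx : K ⊔ zpowers x = ⊤) : ∀ (N : ℕ) (A : Type u) [AddCommGroup A] [Finite A] (ρ : H →* AddMonoid.End A),
    Nat.card A = N → (∀ a : A, s • a = 0) → nm ρ x r = 0 →
    ∃ n : ℕ, ∀ d ∈ ⁅K, zpowers x⁆, (ρ d - 1) ^ n = 0 := by
  intro N
  induction N using Nat.strong_induction_on with
  | _ N ih =>
    intro A _ _ ρ hN hA hn
    rcases subsingleton_or_nontrivial A with hsub | hnt
    · exact ⟨1, fun d _ => by ext a; exact Subsingleton.elim _ _⟩
    by_cases hirr : ∀ B : AddSubgroup A, (∀ h, ∀ b ∈ B, ρ h b ∈ B) → B = ⊥ ∨ B = ⊤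
    · refine ⟨1, fun d hd => ?_⟩
      have h1 : ⁅K, zpowers x⁆ ≤ ρ.ker := by
        -- generators
        have h2 : ∀ k ∈ K, ρ k * ρ x = ρ x * ρ k := by
          intro k hk
          have h3 := shult_irr hSh hs hA hr hx hrK hrs hrm hKx hn hirr k hk
          have h4 : k * x = ⁅k, x⁆ * (x * k) := by rw [commutatorElement_def]; group
          rw [← map_mul, h4, map_mul, h3, one_mul, map_mul]
        rw [Subgroup.commutator_le]
        rintro k hk _ ⟨j, rfl⟩
        have h3 : ρ (k * x ^ j) = ρ (x ^ j * k) := by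
          have hc : Commute (ρ k) (ρ x) := h2 k hk
          obtain ⟨l, hl⟩ := (isOfFinOrder_of_finite x).mem_powers_iff_mem_zpowers.2 (⟨j, rfl⟩ : x ^ j ∈ zpowers x)
          have hl' : x ^ j = x ^ l := hl.symm
          rw [map_mul, map_mul, hl', map_pow]
          exact hc.pow_right l
        show ρ ⁅k, x ^ j⁆ = 1
        have h4 : ⁅k, x ^ j⁆ = (k * x ^ j) * (x ^ j * k)⁻¹ := by rw [commutatorElement_def]; group
        rw [h4, map_mul, h3, ← map_mul, mul_inv_cancel, map_one]
      have h2 : ρ d = 1 := h1 hd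
      rw [h2, sub_self, pow_one]
    · push Not at hirr
      obtain ⟨B, hB, hB0, hB1⟩ := hirr
      have hBc : Nat.card B < N := by
        rw [← hN]
        refine lt_of_le_of_ne (AddSubgroup.card_le_card_addGroup B) fun h => hB1 (AddSubgroup.card_eq_iff_eq_top B |>.1 h)
      have hQc : Nat.card (A ⧸ B) < N := by
        have h1 := AddSubgroup.card_eq_card_quotient_mul_card_addSubgroup B
        rw [hN] at h1
        have h2 : 1 < Nat.card B := by
          have h3 : 0 < Nat.card B := Nat.card_pos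
          have h4 : Nat.card B ≠ 1 := fun h => hB0 (AddSubgroup.card_eq_one.1 h)
          omega
        rw [h1]
        exact lt_mul_of_one_lt_right Nat.card_pos h2
      have hnr : nm (res ρ B hB) x r = 0 := by
        ext b
        have h1 : ∀ i : ℕ, (((res ρ B hB x ^ i) b : B) : A) = (ρ x ^ i) (b : A) := by
          intro i
          rw [← map_pow, ← map_pow]
          rfl
        have h2 : ((nm (res ρ B hB) x r b : B) : A) = nm ρ x r (b : A) := by
          unfold nm
          rw [pow_apply_sum, pow_apply_sum]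
          rw [AddSubgroup.val_finsetSum]
          exact Finset.sum_congr rfl fun i _ => h1 i
        rw [h2, hn]
        rfl
      have hnq : nm (quo ρ B hB) x r = 0 := by
        refine AddMonoidHom.ext fun a => ?_
        obtain ⟨a, rfl⟩ := QuotientAddGroup.mk_surjective a
        have h1 : ∀ i : ℕ, (quo ρ B hB x ^ i) (a : A ⧸ B) = (((ρ x ^ i) a : A) : A ⧸ B) := by
          intro i
          rw [← map_pow, ← map_pow]
          rfl
        have h2 : nm (quo ρ B hB) x r (a : A ⧸ B) = ((nm ρ x r a : A) : A ⧸ B) := by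
          unfold nm
          rw [pow_apply_sum, pow_apply_sum]
          rw [QuotientAddGroup.mk_sum]
          exact Finset.sum_congr rfl fun i _ => h1 i
        show nm (quo ρ B hB) x r (a : A ⧸ B) = 0
        rw [h2, hn]
        rfl
      obtain ⟨n1, h1⟩ := ih _ hBc B (res ρ B hB) rfl (fun b => Subtype.ext (hA b)) hnr
      obtain ⟨n2, h2⟩ := ih _ hQc (A ⧸ B) (quo ρ B hB) rfl (fun b => by
        obtain ⟨a, rfl⟩ := QuotientAddGroup.mk_surjective b
        rw [← QuotientAddGroup.mk_nsmul, hA]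
        rfl) hnq
      refine ⟨n1 + n2, fun d hd => ?_⟩
      have e1 : ∀ b : B, ((ρ d - 1) ^ n1) (b : A) = 0 := by
        intro b
        have h3 : ∀ n : ℕ, ((((res ρ B hB d - 1) ^ n) b : B) : A) = ((ρ d - 1) ^ n) (b : A) := by
          intro n
          induction n generalizing b with
          | zero => rfl
          | succ n ihn =>
            rw [pow_succ, pow_succ]
            show ((((res ρ B hB d - 1) ^ n) ((res ρ B hB d - 1) b) : B) : A) = ((ρ d - 1) ^ n) ((ρ d - 1) (b : A))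
            rw [ihn]
            rfl
        rw [← h3, h1 d hd]
        rfl
      have e2 : ∀ a : A, ((ρ d - 1) ^ n2) a ∈ B := by
        intro a
        have h3 : ∀ n : ℕ, ∀ a : A, ((quo ρ B hB d - 1) ^ n) (a : A ⧸ B) = ((((ρ d - 1) ^ n) a : A) : A ⧸ B) := by
          intro n
          induction n with
          | zero => intro a; rfl
          | succ n ihn =>
            intro a
            rw [pow_succ, pow_succ]
            show ((quo ρ B hB d - 1) ^ n) ((quo ρ B hB d - 1) (a : A ⧸ B)) =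
              ((((ρ d - 1) ^ n) ((ρ d - 1) a) : A) : A ⧸ B)
            rw [← ihn]
            rfl
        rw [← QuotientAddGroup.eq_zero_iff, ← h3, h2 d hd]
        rfl
      ext a
      rw [pow_add]
      exact e1 ⟨_, e2 a⟩

end

end Cfsg.Agent.H998.SpAlt
end

-- part: H998/SpAlt/ShultTwo
section
prune_inst 0x7f00000000000000000000000000000000000000000000000000000000000000000000000000000000000000000000000000000000000000000000000000000000000000000000000000000000000000003fffffffffffffffffffffffffffbeffbdffffffff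
set_option linter.all false
open scoped Cfsg.Agent.FastGrp

/-!
# The Shult step, conclusion (helper998, for S3666)
-/

set_option autoImplicit false
set_option linter.unusedSectionVars false

namespace Cfsg.Agent.H998.SpAlt

open Subgroup
open scoped commutatorElement

universe u v

/-- a normal `s`-subgroup acts trivially on an irreducible module -/
theorem normal_trivial {Q : Type u} [Group Q] {A : Type v} [AddCommGroup A] [Finite A] [Nontrivial A]
    {ρ : Q →* AddMonoid.End A} {s : ℕ} (hs : s.Prime) (hA : ∀ a : A, s • a = 0)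
    (hirr : ∀ B : AddSubgroup A, (∀ h, ∀ b ∈ B, ρ h b ∈ B) → B = ⊥ ∨ B = ⊤)
    {N : Subgroup Q} (hN : N.Normal) (hNs : IsPGroup s N) : ∀ n ∈ N, ρ n = 1 := by
  have := Fact.mk hs
  let B : AddSubgroup A :=
    { carrier := {a | ∀ n ∈ N, ρ n a = a}
      add_mem' := fun {a b} ha hb n hn => by rw [map_add, ha n hn, hb n hn]
      zero_mem' := fun n _ => map_zero _
      neg_mem' := fun {a} ha n hn => by rw [map_neg, ha n hn] }
  have hB : ∀ h, ∀ b ∈ B, ρ h b ∈ B := by
    intro h b hb n hn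
    have h1 : n * h = h * (h⁻¹ * n * h) := by group
    have h2 : h⁻¹ * n * h ∈ N := by
      have := hN.conj_mem n hn h⁻¹
      rwa [inv_inv] at this
    show (ρ n * ρ h) b = ρ h b
    rw [← map_mul, h1, map_mul]
    show ρ h (ρ (h⁻¹ * n * h) b) = ρ h b
    rw [hb _ h2]
  rcases hirr B hB with h | h
  · exfalso
    let _ : MulAction N A :=
      { smul := fun n a => ρ (n : Q) a
        one_smul := fun a => by
          show ρ ((1 : N) : Q) a = a
          rw [Subgroup.coe_one, map_one]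
          rfl
        mul_smul := fun m n a => by
          show ρ ((m * n : N) : Q) a = ρ (m : Q) (ρ (n : Q) a)
          rw [Subgroup.coe_mul, map_mul]
          rfl }
    have h1 := hNs.card_modEq_card_fixedPoints A
    have h2 : s ∣ Nat.card A := by
      obtain ⟨a, ha⟩ := exists_ne (0 : A)
      have h3 : addOrderOf a = s := by
        rcases (Nat.dvd_prime hs).1 (addOrderOf_dvd_of_nsmul_eq_zero (hA a)) with h | h
        · exact absurd (AddMonoid.addOrderOf_eq_one_iff.1 h) ha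
        · exact h
      rw [← h3]
      exact addOrderOf_dvd_natCard a
    have h3 : MulAction.fixedPoints N A = {0} := by
      ext a
      rw [Set.mem_singleton_iff]
      constructor
      · intro ha
        have h4 : a ∈ B := fun n hn => ha ⟨n, hn⟩
        rw [h] at h4
        exact h4
      · rintro rfl n
        exact map_zero _
    rw [h3] at h1
    have h4 : Nat.card ({0} : Set A) = 1 := by simp
    rw [h4] at h1
    have h5 : s ∣ 1 := (Nat.modEq_zero_iff_dvd.1 (h1.symm.trans (Nat.modEq_zero_iff_dvd.2 h2)))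
    exact hs.one_lt.ne' (Nat.dvd_one.1 h5)
  · intro n hn
    refine AddMonoidHom.ext fun a => ?_
    have h1 : a ∈ B := by rw [h]; exact AddSubgroup.mem_top a
    exact h1 n hn

/-- unipotent elements have `s`-power order -/
theorem pow_of_unip {A : Type v} [AddCommGroup A] {s : ℕ} (hs : s.Prime) (hA : ∀ a : A, s • a = 0)
    {f : AddMonoid.End A} {n : ℕ} (h : (f - 1) ^ n = 0) : f ^ s ^ n = 1 := by
  have := Fact.mk hs
  rcases subsingleton_or_nontrivial A with hsub | hnt
  · exact AddMonoidHom.ext fun a => Subsingleton.elim _ _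
  have hz : ∀ n : ℕ, (n : AddMonoid.End A) = 0 ↔ s ∣ n := by
    intro n
    have h1 : ∀ a : A, (n : AddMonoid.End A) a = n • a := fun a => AddMonoid.End.natCast_apply n a
    constructor
    · intro h
      obtain ⟨a, ha⟩ := exists_ne (0 : A)
      have h2 : n • a = 0 := by
        rw [← h1 a, h]
        rfl
      have h3 : addOrderOf a = s := by
        rcases (Nat.dvd_prime hs).1 (addOrderOf_dvd_of_nsmul_eq_zero (hA a)) with h | h
        · exact absurd (AddMonoid.addOrderOf_eq_one_iff.1 h) ha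
        · exact h
      rw [← h3]
      exact addOrderOf_dvd_of_nsmul_eq_zero h2
    · rintro ⟨k, rfl⟩
      refine AddMonoidHom.ext fun a => ?_
      refine (h1 a).trans ?_
      rw [mul_comm, mul_nsmul, hA]
      rfl
  have : CharP (AddMonoid.End A) s := ⟨hz⟩
  have h1 : (f - 1) ^ s ^ n = f ^ s ^ n - 1 := by
    rw [sub_pow_char_pow_of_commute, one_pow]
    exact Commute.one_right f
  have h2 : (f - 1) ^ s ^ n = 0 := by
    have h3 : n ≤ s ^ n := (Nat.lt_pow_self hs.one_lt).le
    rw [← Nat.sub_add_cancel h3, pow_add, h, mul_zero]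
  rw [h1] at h2
  exact sub_eq_zero.1 h2

/-- **the Shult step** -/
theorem shult_step (hSh : ShultStmt.{u}) {G : Type u} [Group G] [Finite G] {A : Type u} [AddCommGroup A] [Finite A]
    [Nontrivial A] {ρ : G →* AddMonoid.End A} {s : ℕ} (hs : s.Prime) (hA : ∀ a : A, s • a = 0)
    {K : Subgroup G} (hKn : K.Normal) {x : G} {r : ℕ} (hr : r.Prime) (hx : orderOf x = r) (hrK : ¬ r ∣ Nat.card K)
    (hrs : r ≠ s) (hrm : ∀ m : ℕ, r ≠ 2 ^ m + 1) (hn : nm ρ x r = 0)
    (hirr : ∀ B : AddSubgroup A, (∀ h, ∀ b ∈ B, ρ h b ∈ B) → B = ⊥ ∨ B = ⊤) :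
    ∀ k ∈ K, ρ ⁅k, x⁆ = 1 := by
  have := Fact.mk hs
  -- the unipotence
  obtain ⟨n, hun⟩ : ∃ n : ℕ, ∀ d ∈ ⁅K, zpowers x⁆, (ρ d - 1) ^ n = 0 := by
    let H : Subgroup G := K ⊔ zpowers x
    have hKH : K ≤ H := le_sup_left
    have hxH : zpowers x ≤ H := le_sup_right
    have hxm : x ∈ H := hxH (mem_zpowers x)
    have hKn' : (K.subgroupOf H).Normal := hKn.subgroupOf H
    have hzx : (zpowers x).subgroupOf H = zpowers (⟨x, hxm⟩ : H) := by
      apply Subgroup.map_injective H.subtype_injective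
      rw [Subgroup.map_subgroupOf_eq_of_le hxH, MonoidHom.map_zpowers]
      rfl
    have hsup : K.subgroupOf H ⊔ zpowers (⟨x, hxm⟩ : H) = ⊤ := by
      rw [← hzx, ← Subgroup.subgroupOf_sup hKH hxH, Subgroup.subgroupOf_self]
    have hnn : nm (ρ.comp H.subtype) (⟨x, hxm⟩ : H) r = 0 := hn
    obtain ⟨n, h1⟩ := shult_unip hSh hs (K := K.subgroupOf H) (x := (⟨x, hxm⟩ : H)) hr
      (by rw [← hx, ← Subgroup.orderOf_coe])
      (by rw [Nat.card_congr (Subgroup.subgroupOfEquivOfLe hKH).toEquiv]; exact hrK)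
      hrs hrm hsup (Nat.card A) A (ρ.comp H.subtype) rfl hA hnn
    refine ⟨n, fun d hd => ?_⟩
    have h2 : (⁅K.subgroupOf H, zpowers (⟨x, hxm⟩ : H)⁆).map H.subtype = ⁅K, zpowers x⁆ := by
      rw [Subgroup.map_commutator, ← hzx, Subgroup.map_subgroupOf_eq_of_le hKH,
        Subgroup.map_subgroupOf_eq_of_le hxH]
    rw [← h2] at hd
    obtain ⟨d', hd', rfl⟩ := hd
    exact h1 d' hd'
  obtain ⟨Q, _, q, ρ', hqs, hρ', hρq⟩ := ker_fac ρ
  have hirr' : ∀ B : AddSubgroup A, (∀ h, ∀ b ∈ B, ρ' h b ∈ B) → B = ⊥ ∨ B = ⊤ := fun B hB =>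
    hirr B fun h b hb => by rw [← hρq]; exact hB (q h) b hb
  let D : Subgroup G := ⁅K, zpowers x⁆
  have hDK : D ≤ K := Subgroup.commutator_le_left K (zpowers x)
  have hDn : K ≤ normalizer (D : Set G) := normalizer_commutator_ge_left K (zpowers x)
  have hKQ : (K.map q).Normal := hKn.map q hqs
  have hDs : IsPGroup s (D.map q) := by
    rintro ⟨_, d, hd, rfl⟩
    refine ⟨n, Subtype.ext ?_⟩
    show (q d) ^ s ^ n = 1
    apply hρ'
    rw [map_pow, hρq, map_one]
    exact pow_of_unip hs hA (hun d hd)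
  have hDQn : ((D.map q).subgroupOf (K.map q)).Normal := by
    refine ⟨?_⟩
    rintro ⟨_, d1, hd1, rfl⟩ hd ⟨_, k, hk, rfl⟩
    obtain ⟨d, hd2, hd3⟩ := hd
    refine ⟨k * d * k⁻¹, (mem_normalizer_iff.1 (hDn hk) d).1 hd2, ?_⟩
    rw [map_mul, map_mul, map_inv, hd3]
    rfl
  have hle : D.map q ≤ (pCore s (K.map q)).map (K.map q).subtype := by
    have h1 : (D.map q).subgroupOf (K.map q) ≤ pCore s (K.map q) := by
      exact Lib.Cores.le_pCore hDQn hDs.comap_subtype
    have h2 := Subgroup.map_mono (f := (K.map q).subtype) h1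
    rwa [Subgroup.map_subgroupOf_eq_of_le (Subgroup.map_mono hDK)] at h2
  rw [Lib.Cores.map_subtype_pCore s hKQ] at hle
  intro k hk
  rw [← hρq]
  refine normal_trivial hs hA hirr' (Lib.Cores.pCore_normal s) (Lib.Cores.pCore_isPGroup s) _ ?_
  exact (hle ⟨⁅k, x⁆, Subgroup.commutator_mem_commutator hk (mem_zpowers x), rfl⟩).2

end Cfsg.Agent.H998.SpAlt
end

-- part: H998/SpAlt/SuzCore
section
prune_inst 0x7f00000000000000000000000000000000000000000000000000000000000000000000000000000000000000000000000000000000000000000000000000000000000000000000000000000000000000003fffffffffffffffffffffffffffbeffbdffffffff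
set_option linter.all false
open scoped Cfsg.Agent.FastGrp

/-!
# The core of the case `n = 16` (helper998, for S3666)
-/

set_option autoImplicit false
set_option linter.unusedSectionVars false

namespace Cfsg.Agent.H998.SpAlt

open Subgroup
open scoped commutatorElement

universe u v

/-- the data of `Suz` which are used -/
def DSuz (X : Type*) [Group X] : Prop :=
  (∃ x h : X, orderOf x = 11 ∧ orderOf h = 5 ∧ h * x * h⁻¹ = x ^ 3) ∧
  (∃ x h : X, orderOf x = 5 ∧ orderOf h = 4 ∧ h * x * h⁻¹ = x ^ 2) ∧ ∃ x : X, orderOf x = 13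

/-- lifts of Frobenius groups of order prime to the kernel -/
theorem exists_frob' {G1 : Type u} [Group G1] [Finite G1] {X : Type v} [Group X] (f : G1 →* X)
    (hf : Function.Surjective f) {p : ℕ} (hp : p.Prime) (hpk : ¬ p ∣ Nat.card f.ker) {x0 h0 : X} {n k : ℕ}
    (hx : orderOf x0 = p) (hh : orderOf h0 = n) (hcop : n.Coprime (Nat.card f.ker))
    (hc : h0 * x0 * h0⁻¹ = x0 ^ k) (hkp : p.Coprime k) :
    ∃ x h : G1, f x = x0 ∧ f h = h0 ∧ orderOf x = p ∧ orderOf h = n ∧ h * x * h⁻¹ = x ^ k := by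
  obtain ⟨x, hfx, hxo⟩ := exists_lift f hf hx ((Nat.Prime.coprime_iff_not_dvd hp).2 hpk)
  have hxk : orderOf (x ^ k) = p := by
    rw [Nat.Coprime.orderOf_pow (by rw [hxo]; exact hkp), hxo]
  obtain ⟨h, hfh, hhx⟩ := lift_conj f hf hp hpk hxo hxk (h0 := h0) (by rw [hfx, map_pow, hfx, hc])
  obtain ⟨j, hj1, hj2⟩ := exists_lift_pow f h (n := n) (by rw [hfh, hh]) hcop
  refine ⟨x, h ^ j, hfx, by rw [hj1, hfh], hxo, hj2, ?_⟩
  have hpow : ∀ l : ℕ, h ^ l * x * (h ^ l)⁻¹ = x ^ k ^ l := by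
    intro l
    induction l with
    | zero => simp
    | succ l ih =>
      have e : h ^ (l + 1) * x * (h ^ (l + 1))⁻¹ = h * (h ^ l * x * (h ^ l)⁻¹) * h⁻¹ := by rw [pow_succ']; group
      rw [e, ih, ← conj_pow, hhx, ← pow_mul, pow_succ']
  rw [hpow, pow_eq_pow_iff_modEq, hxo, ← hx, ← pow_eq_pow_iff_modEq, ← hfx, ← map_pow, ← hpow, map_mul, map_mul,
    map_inv, hj1, hfh, hfx, hc]

/-- factorisation through the image, with a second homomorphism -/
theorem ker_fac' {H : Type u} [Group H] {M : Type v} [Monoid M] (ρ : H →* M) {X : Type*} [Group X] (f : H →* X)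
    (hk : ∀ h, ρ h = 1 → f h = 1) :
    ∃ (Q : Type u) (_ : Group Q) (q : H →* Q) (ρ' : Q →* M) (f' : Q →* X),
      Function.Surjective q ∧ Function.Injective ρ' ∧ (∀ h : H, ρ' (q h) = ρ h) ∧ ∀ h : H, f' (q h) = f h := by
  refine ⟨H ⧸ ρ.ker, inferInstance, QuotientGroup.mk' ρ.ker, QuotientGroup.lift ρ.ker ρ fun _ h => h,
    QuotientGroup.lift ρ.ker f fun h hh => hk h hh,
    QuotientGroup.mk'_surjective _, ?_, fun h => rfl, fun h => rfl⟩
  intro a b hab
  obtain ⟨a, rfl⟩ := QuotientGroup.mk'_surjective _ a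
  obtain ⟨b, rfl⟩ := QuotientGroup.mk'_surjective _ b
  have h1 : ρ a = ρ b := hab
  refine QuotientGroup.eq.2 ?_
  rw [MonoidHom.mem_ker, map_mul, ← h1, ← map_mul, inv_mul_cancel, map_one]

/-- norms and quotients -/
theorem hnm_quot {G : Type*} [Group G] [Finite G] {G1 : Type*} [Group G1] [Finite G1] {Q : Type*} [Group Q] {A : Type*}
    [AddCommGroup A] {ρ : G1 →* AddMonoid.End A} {ρ' : Q →* AddMonoid.End A} {q : G1 →* Q}
    (hq : Function.Surjective q) (hρ : ∀ g, ρ' (q g) = ρ g) {s : ℕ} (hs : s.Prime) (hA : ∀ a : A, s • a = 0)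
    (hnm : ∀ g : G1, nm ρ g (orderOf g) ≠ 0 → Has G (orderOf g * s)) (hG : ∀ m, Has G1 m → Has G m) {y : Q}
    (hy : nm ρ' y (orderOf y) ≠ 0) : Has G (orderOf y * s) := by
  obtain ⟨g, rfl⟩ := hq y
  obtain ⟨c, hc⟩ := orderOf_map_dvd q g
  by_cases hsc : s ∣ c
  · obtain ⟨d, rfl⟩ := hsc
    refine hG _ (has_of_dvd g ?_)
    rw [hc]
    exact Nat.mul_dvd_mul_left _ (dvd_mul_right s d)
  · refine (hnm g ?_).dvd (Nat.mul_dvd_mul_right (orderOf_map_dvd q g) s)
    obtain ⟨a, ha⟩ : ∃ a, nm ρ' (q g) (orderOf (q g)) a ≠ 0 := by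
      by_contra hcon
      push Not at hcon
      exact hy (AddMonoidHom.ext hcon)
    intro h0
    refine nsmul_ne hs hA hsc ha ?_
    -- `nm ρ g (n c) = c • nm ρ' (q g) n`
    have h1 : ∀ c : ℕ, nm ρ g (orderOf (q g) * c) = c • nm ρ' (q g) (orderOf (q g)) := by
      intro c
      induction c with
      | zero => rw [mul_zero, zero_smul]; rfl
      | succ c ih =>
        have h2 : nm ρ g (orderOf (q g) * (c + 1)) =
            nm ρ g (orderOf (q g) * c) + ∑ i ∈ Finset.range (orderOf (q g)), ρ g ^ (orderOf (q g) * c + i) := by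
          unfold nm
          rw [mul_add, mul_one, Finset.sum_range_add]
        rw [h2, ih, succ_nsmul]
        congr 1
        unfold nm
        refine Finset.sum_congr rfl fun i _ => ?_
        rw [pow_add, pow_mul, ← hρ, ← map_pow, pow_orderOf_eq_one, map_one, one_pow, one_mul]
    have h2 := h1 c
    rw [← hc, h0] at h2
    have h3 : (c • nm ρ' (q g) (orderOf (q g))) a = c • nm ρ' (q g) (orderOf (q g)) a := rfl
    rw [← h3, ← h2]
    rfl

/-- **`Suz`** -/
theorem suz_core (hSh : ShultStmt.{u}) {G : Type u} [Group G] [Finite G] {X : Type v} [Group X] [IsSimpleGroup X]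
    (hD : DSuz X) (f : G →* X) (hf : Function.Surjective f) (hsol : Group.IsSolvable ↥f.ker)
    (h511 : 5 ∣ Nat.card f.ker ∨ 11 ∣ Nat.card f.ker) (h13 : ¬ 13 ∣ Nat.card f.ker) (h26 : ¬ Has G 26)
    (h65 : ¬ Has G 65) (h143 : ¬ Has G 143) (h25 : ¬ Has G 25) (h44 : ¬ Has G 44) : False := by
  obtain ⟨G', _, _, q, f', V, s, hq, hqf, hVn, hVK, hV1, hVc, hs, hs2, hVs, hmin, hrel, -⟩ :=
    exists_layer (fun p => p = 5 ∨ p = 11) _ G rfl f hf hsol (by
      rcases h511 with h | h
      · exact ⟨5, by norm_num, Or.inl rfl, h⟩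
      · exact ⟨11, by norm_num, Or.inr rfl, h⟩)
  have hf' : Function.Surjective f' := by
    intro x
    obtain ⟨g, rfl⟩ := hf x
    exact ⟨q g, hqf g⟩
  have h13' : ¬ 13 ∣ Nat.card f'.ker := by
    intro hd
    apply h13
    have h4 : f'.ker = f.ker.map q := by
      ext z
      obtain ⟨g, rfl⟩ := hq z
      constructor
      · intro h
        exact ⟨g, MonoidHom.mem_ker.2 (by rw [← hqf]; exact h), rfl⟩
      · rintro ⟨g', hg', e⟩
        rw [← e]
        exact MonoidHom.mem_ker.2 (by rw [hqf]; exact hg')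
    rw [h4] at hd
    exact hd.trans (Subgroup.card_map_dvd _ _)
  -- the quotient
  have hfVK : V ≤ f'.ker := hVK
  let f1 : G' ⧸ V →* X := QuotientGroup.lift V f' fun v hv => hfVK hv
  have hf1 : Function.Surjective f1 := by
    intro x
    obtain ⟨g, rfl⟩ := hf' x
    exact ⟨(g : G' ⧸ V), rfl⟩
  have hk1 : f1.ker = f'.ker.map (QuotientGroup.mk' V) := by
    ext z
    obtain ⟨g, rfl⟩ := QuotientGroup.mk'_surjective V z
    constructor
    · intro h
      exact ⟨g, h, rfl⟩
    · rintro ⟨g', hg', e⟩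
      rw [← e]
      exact hg'
  have hcard1 : Nat.card f1.ker = V.relIndex f'.ker := by
    have h3 : ((QuotientGroup.mk' V).ker).relIndex f'.ker = Nat.card ↥(f'.ker.map (QuotientGroup.mk' V)) :=
      Subgroup.relIndex_ker _ _
    rw [QuotientGroup.ker_mk'] at h3
    rw [hk1, h3]
  have h5K : ¬ 5 ∣ Nat.card f1.ker := by rw [hcard1]; exact hrel 5 (by norm_num) (Or.inl rfl)
  have h11K : ¬ 11 ∣ Nat.card f1.ker := by rw [hcard1]; exact hrel 11 (by norm_num) (Or.inr rfl)
  have h13K : ¬ 13 ∣ Nat.card f1.ker := by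
    intro hd
    apply h13'
    rw [hk1] at hd
    exact hd.trans (Subgroup.card_map_dvd _ _)
  have hG' : ∀ m, Has G' m → Has G m := fun m h => Has.of_surj q hq h
  have hG1 : ∀ m, Has (G' ⧸ V) m → Has G' m := fun m h => Has.of_surj _ (QuotientGroup.mk'_surjective V) h
  obtain ⟨A, _, _, _, ρ, hA, hnm, hirr⟩ := exists_qact hVn hV1 hVc hs hVs
  replace hirr := hirr hmin
  obtain ⟨⟨x0, h0, hx0, hh0, hxh0⟩, ⟨x1, h1, hx1, hh1, hxh1⟩, z0, hz0⟩ := hD
  rcases hs2 with rfl | rfl
  · -- `s = 5`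
    obtain ⟨x, h, hfx, hfh, hxo, hho, hhx⟩ := exists_frob' f1 hf1 (by norm_num : Nat.Prime 11) h11K hx0 hh0
      ((Nat.Prime.coprime_iff_not_dvd (by norm_num)).2 h5K) hxh0 (by norm_num)
    have hk : ∀ i, 0 < i → i < 5 → ¬ 3 ^ i ≡ 1 [MOD 11] := by
      intro i hi hi6
      interval_cases i <;> decide
    have hn0 : nm ρ h 5 = 0 := by
      by_contra hne
      have := hnm h (by rw [hho]; exact hne)
      rw [hho] at this
      exact h25 (hG' _ this)
    have hρ := act_frob hA (by norm_num : Nat.Prime 11) (by norm_num) hxo (by norm_num)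
      (by rw [← hho]; exact pow_orderOf_eq_one h) hhx hk hn0
    refine h65 (hG' _ (trivial_has f1 hf1 hs hA hnm hG1 hρ ?_ hz0 (by norm_num)))
    rw [hfx]
    intro h1
    rw [h1, orderOf_one] at hx0
    omega
  · -- `s = 11`
    have hker : ∀ t, ρ t = 1 → f1 t = 1 := by
      intro t ht
      by_contra ht1
      exact h143 (hG' _ (trivial_has f1 hf1 hs hA hnm hG1 ht ht1 hz0 (by norm_num)))
    obtain ⟨Q, _, q2, ρ', f2, hq2, hρ', hρq, hf2q⟩ := ker_fac' ρ f1 hker
    have hQf : Finite Q := Finite.of_surjective q2 hq2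
    have hf2 : Function.Surjective f2 := by
      intro x
      obtain ⟨g, rfl⟩ := hf1 x
      exact ⟨q2 g, hf2q g⟩
    have hk2 : f2.ker = f1.ker.map q2 := by
      ext z
      obtain ⟨g, rfl⟩ := hq2 z
      constructor
      · intro h
        exact ⟨g, MonoidHom.mem_ker.2 (by rw [← hf2q]; exact h), rfl⟩
      · rintro ⟨g', hg', e⟩
        rw [← e]
        exact MonoidHom.mem_ker.2 (by rw [hf2q]; exact hg')
    have hd2 : Nat.card f2.ker ∣ Nat.card f1.ker := by
      rw [hk2]
      exact Subgroup.card_map_dvd _ _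
    have hd3 : Nat.card q2.ker ∣ Nat.card f1.ker := by
      apply Subgroup.card_dvd_of_le
      intro t ht
      rw [MonoidHom.mem_ker] at ht ⊢
      rw [← hf2q, ht, map_one]
    -- elements of order `13` centralize the kernel
    have hcent : ∀ y : Q, orderOf y = 13 → ∀ k ∈ f2.ker, k * y = y * k := by
      intro y hy k hk
      obtain ⟨x, rfl, hx⟩ := exists_lift q2 hq2 hy ((Nat.Prime.coprime_iff_not_dvd (by norm_num)).2
        fun h => h13K (h.trans hd3))
      rw [hk2] at hk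
      obtain ⟨k, hk, rfl⟩ := hk
      have hn0 : nm ρ x 13 = 0 := by
        by_contra hne
        have := hnm x (by rw [hx]; exact hne)
        rw [hx] at this
        exact h143 (hG' _ this)
      have h2 := shult_step hSh hs hA f1.normal_ker (x := x) (by norm_num : Nat.Prime 13) hx h13K (by norm_num)
        (fun m hm => ?_) hn0 hirr k hk
      · rw [← hρq] at h2
        have h3 : q2 ⁅k, x⁆ = 1 := hρ' (h2.trans (map_one ρ').symm)
        rw [map_commutatorElement] at h3
        exact commutatorElement_eq_one_iff_mul_comm.1 h3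
      · have hm4 : m < 4 := by
          by_contra hcon
          have : 2 ^ 4 ≤ 2 ^ m := Nat.pow_le_pow_right (by norm_num) (by omega)
          omega
        interval_cases m <;> omega
    obtain ⟨y, hfy, hy⟩ := exists_lift f2 hf2 hz0 ((Nat.Prime.coprime_iff_not_dvd (by norm_num)).2
        fun h => h13K (h.trans hd2))
    let E : Subgroup Q := centralizer (f2.ker : Set Q)
    have hyE : y ∈ E := mem_centralizer_iff.2 fun k hk => hcent y hy k hk
    have hEn : E.Normal := inferInstance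
    let f3 : ↥E →* X := f2.comp E.subtype
    have hf3 : Function.Surjective f3 := by
      have h1 : (E.map f2).Normal := hEn.map f2 hf2
      have h2 : E.map f2 = ⊤ := by
        rcases h1.eq_bot_or_eq_top with h | h
        · exfalso
          have h2 : f2 y ∈ E.map f2 := ⟨y, hyE, rfl⟩
          rw [h, mem_bot, hfy] at h2
          rw [h2, orderOf_one] at hz0
          omega
        · exact h
      intro x
      obtain ⟨e, he, hx⟩ : x ∈ E.map f2 := by rw [h2]; exact mem_top x
      exact ⟨⟨e, he⟩, hx⟩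
    have hd4 : Nat.card f3.ker ∣ Nat.card f2.ker := by
      have h1 : f3.ker.map E.subtype ≤ f2.ker := by
        rintro _ ⟨k, hk, rfl⟩
        exact hk
      have h2 := Subgroup.card_dvd_of_le h1
      rwa [Nat.card_congr (f3.ker.equivMapOfInjective E.subtype E.subtype_injective).toEquiv.symm] at h2
    have h2K : ¬ 2 ∣ Nat.card f3.ker := by
      intro hd
      obtain ⟨z, hz⟩ := exists_prime_orderOf_dvd_card' 2 hd
      have hzo : orderOf ((z : ↥E) : Q) = 2 := by rw [Subgroup.orderOf_coe, Subgroup.orderOf_coe, hz]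
      have hzk : ((z : ↥E) : Q) ∈ f2.ker := z.2
      have h2 := hcent y hy _ hzk
      have h3 : Has Q (2 * 13) := has_mul h2 (dvd_of_eq hzo.symm) (dvd_of_eq hy.symm) (by norm_num)
      exact h26 (hG' _ (hG1 _ (Has.of_surj q2 hq2 h3)))
    obtain ⟨x, h, hfx, hfh, hxo, hho, hhx⟩ := exists_frob' f3 hf3 (by norm_num : Nat.Prime 5)
      (fun h => h5K ((h.trans hd4).trans hd2)) hx1 hh1
      ((Nat.Prime.coprime_iff_not_dvd (by norm_num)).2 h2K |>.pow_left 2) hxh1 (by norm_num)
    have hk : ∀ i, 0 < i → i < 4 → ¬ 2 ^ i ≡ 1 [MOD 5] := by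
      intro i hi hi6
      interval_cases i <;> decide
    have hho' : orderOf (h : Q) = 4 := by rw [Subgroup.orderOf_coe, hho]
    have hn0 : nm (ρ'.comp E.subtype) h 4 = 0 := by
      by_contra hne
      have := hnm_quot (G := G') hq2 hρq hs hA hnm hG1 (y := (h : Q)) (by rw [hho']; exact hne)
      rw [hho'] at this
      exact h44 (hG' _ this)
    have hρ := act_frob (ρ := ρ'.comp E.subtype) hA (by norm_num : Nat.Prime 5) (by norm_num) hxo (by norm_num)
      (by rw [← hho]; exact pow_orderOf_eq_one h) hhx hk hn0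
    have h2 : (x : Q) = 1 := hρ' (hρ.trans (map_one ρ').symm)
    have h3 : x = 1 := Subtype.ext h2
    rw [h3, orderOf_one] at hxo
    omega

end Cfsg.Agent.H998.SpAlt
end

-- part: H998/SpAlt/SuzDat
section
prune_inst 0x7f00000000000000000000000000000000000000000000000000000000000000000000000000000000000000000000000000000000000000000000000000000000000000000000000000000000000000003fffffffffffffffffffffffffffbeffbdffffffff
set_option linter.all false
open scoped Cfsg.Agent.FastGrp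

/-!
# The Suzuki group: two Frobenius groups, no element of order 55 (helper998, for S3666)
-/

set_option autoImplicit false
set_option maxRecDepth 100000

namespace Cfsg.Agent.H998.SpAlt.SuzDat

open Cfsg Cfsg.Spor Cfsg.Agent.Lib.PermNet Cfsg.Agent.Lib.PermNetOrbit Cfsg.Agent.SporadicRecognition.SuzPhi
  Cfsg.Agent.SporadicRecognition.SuzOrder Cfsg.Agent.Lib.PermNetFix Subgroup

theorem el_append (w w' : List Suz.Gen) : el (w ++ w') = el w * el w' := by
  rw [el, List.map_append, List.prod_append]; rfl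

theorem el_eq {w w' : List Suz.Gen} (h : checkEq 11 (wd w) (wd w') = true) : el w = el w' := by
  apply φ_injective
  rw [φ_el, φ_el]
  exact wperm_eq_of_checkEq (wd_ok w) (wd_ok w') h

theorem el_rp (w : List Suz.Gen) (m : ℕ) : el (rp w m) = el w ^ m := by
  rw [el, rp_prod]; rfl

theorem el_pow {w : List Suz.Gen} {m : ℕ} (h : triv (rp w m) = true) : el w ^ m = 1 := by
  apply φ_injective
  rw [map_pow, φ_el, wperm_wd, ← rp_prod, map_one]
  exact triv_spec h

theorem el_ne {w : List Suz.Gen} (p : ℕ) (h : Nat.beq (ptWord (wd w) p) p = false) : el w ≠ 1 := by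
  intro h0
  have h1 : φ (el w) p = p := by rw [h0, map_one]; rfl
  rw [φ_el, ← ptWord_eq (wd_ok w)] at h1
  rw [h1] at h
  exact absurd h (by simp)

/-! ### the Frobenius groups -/

def x1 : List Suz.Gen := [.c, .b, .a]
def h1 : List Suz.Gen :=
  [.b, .f, .g, .b, .c, .d, .f, .b, .a, .b, .c, .f, .b, .g, .f, .b, .c, .d, .c, .b, .g, .f, .b]
def x2 : List Suz.Gen := [.g, .f, .e, .d, .c, .b]
def h2 : List Suz.Gen :=
  [.c, .b, .d, .e, .g, .b, .c, .d, .c, .e, .f, .b, .c, .d, .c, .b, .g, .f, .d, .e, .b, .a, .b, .c, .d, .c, .b, .a, .b]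

set_option Elab.async false in
theorem dsuz : DSuz Suz := by
  have hx1 : orderOf (el x1) = 5 :=
    orderOf_eq_prime (hp := ⟨by norm_num⟩) (el_pow (by decide +kernel)) (el_ne 1 (by decide +kernel))
  have hx2 : orderOf (el x2) = 11 :=
    orderOf_eq_prime (hp := ⟨by norm_num⟩) (el_pow (by (rewrite [show @Cfsg.Agent.SporadicRecognition.SuzPhi.triv = delta% @Cfsg.Agent.SporadicRecognition.SuzPhi.triv from by delta Cfsg.Agent.SporadicRecognition.SuzPhi.triv; rfl, Cfsg.Agent.Lib.PermNetFast.checkEq_fast]; decide +kernel))) (el_ne 1 (by decide +kernel))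
  have hc1 : el h1 * el x1 * (el h1)⁻¹ = el x1 ^ 2 := by
    rw [mul_inv_eq_iff_eq_mul, pow_two, ← el_append, ← el_append, ← el_append]
    exact el_eq (by decide +kernel)
  have hc2 : el h2 * el x2 * (el h2)⁻¹ = el x2 ^ 3 := by
    rw [mul_inv_eq_iff_eq_mul, ← el_rp, ← el_append, ← el_append]
    exact el_eq (by (rewrite [Cfsg.Agent.Lib.PermNetFast.checkEq_fast]; decide +kernel))
  have hh1 : orderOf (el h1) = 4 := by
    refine (orderOf_frob hx1 (by norm_num) (el_pow (by (rewrite [show @Cfsg.Agent.SporadicRecognition.SuzPhi.triv = delta% @Cfsg.Agent.SporadicRecognition.SuzPhi.triv from by delta Cfsg.Agent.SporadicRecognition.SuzPhi.triv; rfl, Cfsg.Agent.Lib.PermNetFast.checkEq_fast]; decide +kernel))) hc1 ?_).1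
    intro i hi hi6
    interval_cases i <;> decide
  have hh2 : orderOf (el h2) = 5 := by
    refine (orderOf_frob hx2 (by norm_num) (el_pow (by (rewrite [show @Cfsg.Agent.SporadicRecognition.SuzPhi.triv = delta% @Cfsg.Agent.SporadicRecognition.SuzPhi.triv from by delta Cfsg.Agent.SporadicRecognition.SuzPhi.triv; rfl, Cfsg.Agent.Lib.PermNetFast.checkEq_fast]; decide +kernel))) hc2 ?_).1
    intro i hi hi6
    interval_cases i <;> decide
  have h13 : 13 ∣ Nat.card Suz := by rw [card_Suz]; norm_num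
  have : Fact (Nat.Prime 13) := ⟨by norm_num⟩
  obtain ⟨z, hz⟩ := exists_prime_orderOf_dvd_card' 13 h13
  exact ⟨⟨el x2, el h2, hx2, hh2, hc2⟩, ⟨el x1, el h1, hx1, hh1, hc1⟩, z, hz⟩

/-! ### point stabilizers have order prime to 11 -/

theorem trans0 {p : ℕ} (hp : p < 1782) : ∃ g : Suz, φ g 0 = p := by
  have h1 : p ∈ {p : ℕ | U0.testBit p = true} := by
    show U0.testBit p = true
    rw [U0_bits, decide_eq_true_eq]
    exact hp
  rw [← orb0] at h1
  obtain ⟨g, -, hg⟩ := h1
  exact ⟨g, hg⟩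

theorem stab_eleven : ¬ 11 ∣ Nat.card (stabL φ [0]) := by
  let _ : MulAction Suz ℕ := MulAction.compHom ℕ φ
  have h1 : MulAction.stabilizer Suz (0 : ℕ) = stabL φ [0] := by
    ext g
    rw [MulAction.mem_stabilizer_iff, mem_stabL]
    constructor
    · intro h q hq
      rw [List.mem_singleton] at hq
      rw [hq]
      exact h
    · intro h
      exact h 0 (by simp)
  have h2 : (MulAction.orbit Suz (0 : ℕ)).ncard = 1782 := by
    have h3 : MulAction.orbit Suz (0 : ℕ) = {p : ℕ | U0.testBit p = true} := by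
      rw [← orb0, closure_S7]
      ext p
      constructor
      · rintro ⟨g, hg⟩
        exact ⟨g, mem_top _, hg⟩
      · rintro ⟨g, -, hg⟩
        exact ⟨g, hg⟩
    rw [h3]
    exact ncard_testBit (k := 11) (U := U0) (m := 1782) (by decide +kernel) (by decide +kernel)
  have h3 := MulAction.index_stabilizer Suz (0 : ℕ)
  rw [h2, h1] at h3
  have h4 := Subgroup.card_mul_index (stabL φ [0])
  rw [h3, card_Suz] at h4
  intro hd
  obtain ⟨c, hc⟩ := hd
  rw [hc] at h4
  omega

theorem eleven_fpf {u : Suz} (hu : orderOf u = 11) {p : ℕ} (hp : p < 1782) : φ u p ≠ p := by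
  intro h
  obtain ⟨g, rfl⟩ := trans0 hp
  have h1 : g⁻¹ * u * g ∈ stabL φ [0] := by
    intro q hq
    rw [List.mem_singleton] at hq
    rw [hq, map_mul, map_mul, Equiv.Perm.mul_apply, Equiv.Perm.mul_apply, h, map_inv]
    exact Equiv.symm_apply_apply (φ g) 0
  have h2 : orderOf (g⁻¹ * u * g) = 11 := by
    have h3 : g⁻¹ * u * g = MulAut.conj g⁻¹ u := by simp
    rw [h3, MulEquiv.orderOf_eq, hu]
  apply stab_eleven
  rw [← h2]
  exact Subgroup.orderOf_dvd_natCard _ h1

/-- an element whose number of moved points is prime to 11 -/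
theorem not_comm {y u : Suz} (hu : orderOf u = 11) (hc : Commute u y) {m : ℕ}
    (hm : {p : ℕ | φ y p ≠ p}.ncard = m) (hlt : ∀ p, φ y p ≠ p → p < 1782) : 11 ∣ m := by
  have hfin : {p : ℕ | φ y p ≠ p}.Finite := (Set.finite_lt_nat 1782).subset hlt
  have hf : Finite {p : ℕ | φ y p ≠ p} := hfin
  have hinv : ∀ g ∈ zpowers u, ∀ p, φ y p ≠ p → φ y (φ g p) ≠ φ g p := by
    rintro _ ⟨j, rfl⟩ p hp h
    apply hp
    have h1 : Commute (u ^ j) y := hc.zpow_left j
    have h2 : φ y (φ (u ^ j) p) = φ (u ^ j) (φ y p) := by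
      rw [← Equiv.Perm.mul_apply, ← Equiv.Perm.mul_apply, ← map_mul, ← map_mul, h1.eq]
    have h3 : φ (u ^ j) (φ y p) = φ (u ^ j) p := h2.symm.trans h
    exact (φ (u ^ j)).injective h3
  let _ : MulAction (zpowers u) {p : ℕ | φ y p ≠ p} :=
    { smul := fun g p => ⟨φ (g : Suz) p, hinv g g.2 p p.2⟩
      one_smul := fun p => Subtype.ext (by
        show φ ((1 : zpowers u) : Suz) p = p
        rw [Subgroup.coe_one, map_one]
        rfl)
      mul_smul := fun g h p => Subtype.ext (by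
        show φ ((g * h : zpowers u) : Suz) p = φ (g : Suz) (φ (h : Suz) p)
        rw [Subgroup.coe_mul, map_mul]
        rfl) }
  have : Fact (Nat.Prime 11) := ⟨by norm_num⟩
  have hp : IsPGroup 11 (zpowers u) := IsPGroup.of_card (n := 1) (by rw [Nat.card_zpowers, hu, pow_one])
  have h1 := hp.card_modEq_card_fixedPoints {p : ℕ | φ y p ≠ p}
  have h2 : MulAction.fixedPoints (zpowers u) {p : ℕ | φ y p ≠ p} = ∅ := by
    rw [Set.eq_empty_iff_forall_notMem]
    rintro ⟨p, hp⟩ h
    have h3 : (⟨φ u p, hinv u (mem_zpowers u) p hp⟩ : {p : ℕ | φ y p ≠ p}) = ⟨p, hp⟩ := h ⟨u, mem_zpowers u⟩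
    exact eleven_fpf hu (hlt p hp) (congrArg Subtype.val h3)
  rw [h2] at h1
  have h3 : Nat.card (∅ : Set {p : ℕ | φ y p ≠ p}) = 0 := by simp
  rw [h3] at h1
  rw [← hm]
  exact (Nat.modEq_zero_iff_dvd).1 h1

/-! ### a Sylow 5-subgroup -/

def X : List Suz.Gen := [.a, .b]
def W : List Suz.Gen := [.c, .b, .a, .d, .c, .b, .a, .b, .c, .d, .c, .d, .b, .c, .e]

/-- the word `X ^ i W ^ j` -/
def xw (i j : ℕ) : List Suz.Gen := rp X i ++ rp W j

/-- the check of the number of moved points -/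
noncomputable def chk (i j : ℕ) : Bool :=
  seqB (moved 11 (wd (xw i j))) fun M => seqB (pc 11 M) fun m =>
    and (Nat.beq (Nat.shiftRight M 1782) 0) (or (Nat.beq m 1780) (Nat.beq m 1770))

theorem chk_spec {i j : ℕ} (h : chk i j = true) : (∀ p, φ (el (xw i j)) p ≠ p → p < 1782) ∧
    ({p : ℕ | φ (el (xw i j)) p ≠ p}.ncard = 1780 ∨ {p : ℕ | φ (el (xw i j)) p ≠ p}.ncard = 1770) := by
  unfold chk at h
  rw [seqB_eq, seqB_eq, Bool.and_eq_true, Bool.or_eq_true] at h
  obtain ⟨h1, h2⟩ := h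
  have h3 : ∀ p, φ (el (xw i j)) p ≠ p ↔ (moved 11 (wd (xw i j))).testBit p = true := by
    intro p
    rw [φ_el]
    by_cases hp : p < 2 ^ 11
    · exact (testBit_moved (wd_ok _) hp).symm
    · have h4 : wperm (wd (xw i j)) p = p := wperm_eq_of_le (wd_ok _) (by omega)
      have h5 : (moved 11 (wd (xw i j))).testBit p = false := by
        have h6 := congrArg (fun x => Nat.testBit x (p - 1782)) (Nat.eq_of_beq_eq_true h1)
        simp only [Nat.zero_testBit] at h6
        have h7 : (Nat.shiftRight (moved 11 (wd (xw i j))) 1782).testBit (p - 1782) =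
            (moved 11 (wd (xw i j))).testBit (1782 + (p - 1782)) := Nat.testBit_shiftRight _
        rw [h7] at h6
        rwa [show 1782 + (p - 1782) = p by omega] at h6
      rw [h4, h5]
      simp
  have h8 : {p : ℕ | φ (el (xw i j)) p ≠ p} = {p | (moved 11 (wd (xw i j))).testBit p = true} := by
    ext p
    exact h3 p
  have h9 : Nat.beq (Nat.shiftRight (moved 11 (wd (xw i j))) (Nat.pow 2 11)) 0 = true := by
    have h10 : (moved 11 (wd (xw i j))) >>> 1782 = 0 := Nat.eq_of_beq_eq_true h1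
    have h11 : (moved 11 (wd (xw i j))) >>> (2 ^ 11) = 0 := by
      rw [show 2 ^ 11 = 1782 + 266 by norm_num, Nat.shiftRight_add, h10]
      exact Nat.zero_shiftRight _
    have h12 : Nat.shiftRight (moved 11 (wd (xw i j))) (Nat.pow 2 11) = 0 := h11
    rw [h12]
    rfl
  refine ⟨?_, ?_⟩
  · intro p hp
    rw [h3] at hp
    by_contra hcon
    have h6 := congrArg (fun x => Nat.testBit x (p - 1782)) (Nat.eq_of_beq_eq_true h1)
    simp only [Nat.zero_testBit] at h6
    have h7 : (Nat.shiftRight (moved 11 (wd (xw i j))) 1782).testBit (p - 1782) =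
        (moved 11 (wd (xw i j))).testBit (1782 + (p - 1782)) := Nat.testBit_shiftRight _
    rw [h7, show 1782 + (p - 1782) = p by omega, hp] at h6
    exact absurd h6 (by simp)
  · rw [h8]
    rcases h2 with h2 | h2
    · exact Or.inl (ncard_testBit h9 h2)
    · exact Or.inr (ncard_testBit h9 h2)

set_option Elab.async false in
theorem chk_all : ([(1, 0), (0, 1), (1, 1), (1, 2), (1, 3), (1, 4)].all fun x => chk x.1 x.2) = true := by
  (rewrite [show @Cfsg.Agent.H998.SpAlt.SuzDat.chk = delta% @Cfsg.Agent.H998.SpAlt.SuzDat.chk from by delta Cfsg.Agent.H998.SpAlt.SuzDat.chk; rfl, Cfsg.Agent.Lib.PermNetFast.pcO_fast, Cfsg.Agent.Lib.PermNetFast.moved_fast]; decide +kernel)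

theorem X5 : el X ^ 5 = 1 := el_pow (by decide +kernel)

set_option Elab.async false in
theorem W5 : el W ^ 5 = 1 := el_pow (by (rewrite [show @Cfsg.Agent.SporadicRecognition.SuzPhi.triv = delta% @Cfsg.Agent.SporadicRecognition.SuzPhi.triv from by delta Cfsg.Agent.SporadicRecognition.SuzPhi.triv; rfl, Cfsg.Agent.Lib.PermNetFast.checkEq_fast]; decide +kernel))

theorem XW : Commute (el X) (el W) := by
  show el X * el W = el W * el X
  rw [← el_append, ← el_append]
  exact el_eq (by decide +kernel)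

theorem el_xw (i j : ℕ) : el (xw i j) = el X ^ i * el W ^ j := by
  rw [xw, el_append, el_rp, el_rp]

theorem X_order : orderOf (el X) = 5 := orderOf_eq_prime (hp := ⟨by norm_num⟩) X5 (el_ne 1 (by decide +kernel))

theorem W_ne (c : ℕ) (hc : c < 5) : el W ≠ el X ^ c := by
  intro h
  rw [← el_rp] at h
  have h1 : ∀ p, φ (el W) p = φ (el (rp X c)) p := fun p => by rw [h]
  have h2 : ∀ p, ptWord (wd W) p = ptWord (wd (rp X c)) p := fun p => by
    have := h1 p
    rwa [φ_el, φ_el, ← ptWord_eq (wd_ok W), ← ptWord_eq (wd_ok (rp X c))] at this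
  have h3 : ([0, 1, 2, 3, 4].any fun c => [0, 1, 2, 3, 4, 20, 100, 500, 1000, 1500].all fun p => Nat.beq (ptWord (wd W) p) (ptWord (wd (rp X c)) p)) =
      false := by decide +kernel
  rw [List.any_eq_false] at h3
  refine h3 c ?_ ?_
  · simp only [List.mem_cons, List.not_mem_nil, or_false]
    omega
  · rw [List.all_eq_true]
    intro p _
    rw [h2]
    exact Nat.beq_refl _

/-- the subgroup `⟨X, W⟩` -/
def E : Subgroup Suz where
  carrier := {g | ∃ i j : ℕ, g = el X ^ i * el W ^ j}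
  mul_mem' := by
    rintro _ _ ⟨i, j, rfl⟩ ⟨k, l, rfl⟩
    refine ⟨i + k, j + l, ?_⟩
    have h : el W ^ j * el X ^ k = el X ^ k * el W ^ j := ((XW.pow_pow k j).eq).symm
    rw [pow_add, pow_add]
    calc el X ^ i * el W ^ j * (el X ^ k * el W ^ l) = el X ^ i * (el W ^ j * el X ^ k) * el W ^ l := by group
      _ = el X ^ i * (el X ^ k * el W ^ j) * el W ^ l := by rw [h]
      _ = _ := by group
  one_mem' := ⟨0, 0, by rw [pow_zero, pow_zero, mul_one]⟩
  inv_mem' := by
    rintro _ ⟨i, j, rfl⟩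
    refine ⟨4 * i, 4 * j, ?_⟩
    have h : el W ^ j * el X ^ (4 * i) = el X ^ (4 * i) * el W ^ j := ((XW.pow_pow (4 * i) j).eq).symm
    rw [inv_eq_iff_mul_eq_one]
    calc el X ^ i * el W ^ j * (el X ^ (4 * i) * el W ^ (4 * j)) =
        el X ^ i * (el W ^ j * el X ^ (4 * i)) * el W ^ (4 * j) := by group
      _ = el X ^ i * (el X ^ (4 * i) * el W ^ j) * el W ^ (4 * j) := by rw [h]
      _ = el X ^ (5 * i) * el W ^ (5 * j) := by
        rw [show 5 * i = i + 4 * i by ring, show 5 * j = j + 4 * j by ring, pow_add, pow_add]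
        group
      _ = 1 := by rw [pow_mul, pow_mul, X5, W5, one_pow, one_pow, one_mul]

theorem pow_mod {g : Suz} (hg : g ^ 5 = 1) (n : ℕ) : g ^ n = g ^ (n % 5) := by
  conv_lhs => rw [← Nat.div_add_mod n 5]
  rw [pow_add, pow_mul, hg, one_pow, one_mul]

theorem eq_zero {i j : ℕ} (h : el X ^ i * el W ^ j = 1) : i % 5 = 0 ∧ j % 5 = 0 := by
  by_cases hj : j % 5 = 0
  · rw [pow_mod W5 j, hj, pow_zero, mul_one] at h
    refine ⟨?_, hj⟩
    have := orderOf_dvd_of_pow_eq_one h
    rw [X_order] at this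
    exact Nat.mod_eq_zero_of_dvd this
  · exfalso
    -- `W` is a power of `X`
    obtain ⟨k, hk⟩ : ∃ k, (j * k) % 5 = 1 := by
      have h5 : j % 5 < 5 := Nat.mod_lt _ (by norm_num)
      have : j % 5 = 1 ∨ j % 5 = 2 ∨ j % 5 = 3 ∨ j % 5 = 4 := by omega
      rcases this with h | h | h | h
      · exact ⟨1, by omega⟩
      · exact ⟨3, by omega⟩
      · exact ⟨2, by omega⟩
      · exact ⟨4, by omega⟩
    have h1 : el X ^ (i * k) * el W ^ (j * k) = 1 := by
      rw [pow_mul, pow_mul, ← (XW.pow_pow i j).mul_pow, h, one_pow]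
    rw [pow_mod W5 (j * k), hk, pow_one] at h1
    have h2 : el W = el X ^ (4 * (i * k)) := by
      have h3 : el X ^ (4 * (i * k)) * el X ^ (i * k) = 1 := by
        rw [← pow_add, show 4 * (i * k) + i * k = 5 * (i * k) by ring, pow_mul, X5, one_pow]
      calc el W = (el X ^ (4 * (i * k)) * el X ^ (i * k)) * el W := by rw [h3, one_mul]
        _ = el X ^ (4 * (i * k)) * (el X ^ (i * k) * el W) := by group
        _ = _ := by rw [h1, mul_one]
    rw [pow_mod X5] at h2
    exact W_ne _ (Nat.mod_lt _ (by norm_num)) h2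

theorem card_E : 25 ≤ Nat.card E := by
  let f : Fin 5 × Fin 5 → E := fun x => ⟨el X ^ (x.1 : ℕ) * el W ^ (x.2 : ℕ), x.1, x.2, rfl⟩
  have hf : Function.Injective f := by
    rintro ⟨i, j⟩ ⟨k, l⟩ h
    have h1 : el X ^ (i : ℕ) * el W ^ (j : ℕ) = el X ^ (k : ℕ) * el W ^ (l : ℕ) := congrArg Subtype.val h
    have h2 : el X ^ ((i : ℕ) + 4 * k) * el W ^ ((j : ℕ) + 4 * l) = 1 := by
      have hc : el W ^ (j : ℕ) * el X ^ (4 * (k : ℕ)) = el X ^ (4 * (k : ℕ)) * el W ^ (j : ℕ) :=
        ((XW.pow_pow _ _).eq).symm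
      have hc' : el W ^ (l : ℕ) * el X ^ (4 * (k : ℕ)) = el X ^ (4 * (k : ℕ)) * el W ^ (l : ℕ) :=
        ((XW.pow_pow _ _).eq).symm
      calc el X ^ ((i : ℕ) + 4 * k) * el W ^ ((j : ℕ) + 4 * l) =
          el X ^ (i : ℕ) * (el X ^ (4 * (k : ℕ)) * el W ^ (j : ℕ)) * el W ^ (4 * (l : ℕ)) := by
            rw [pow_add, pow_add]; group
        _ = (el X ^ (i : ℕ) * el W ^ (j : ℕ)) * el X ^ (4 * (k : ℕ)) * el W ^ (4 * (l : ℕ)) := by
            rw [← hc]; group
        _ = el X ^ (k : ℕ) * (el W ^ (l : ℕ) * el X ^ (4 * (k : ℕ))) * el W ^ (4 * (l : ℕ)) := by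
            rw [h1]; group
        _ = el X ^ (5 * (k : ℕ)) * el W ^ (5 * (l : ℕ)) := by
            rw [hc', show 5 * (k : ℕ) = k + 4 * k by ring, show 5 * (l : ℕ) = l + 4 * l by ring, pow_add, pow_add]
            group
        _ = 1 := by rw [pow_mul, pow_mul, X5, W5, one_pow, one_pow, one_mul]
    obtain ⟨h3, h4⟩ := eq_zero h2
    have h5 : (i : ℕ) = k := by omega
    have h6 : (j : ℕ) = l := by omega
    exact Prod.ext (Fin.ext h5) (Fin.ext h6)
  have h1 := Nat.card_le_card_of_injective f hf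
  simpa using h1

theorem conj_E {y : Suz} (hy : orderOf y = 5) : ∃ (g : Suz) (i j : ℕ), g * y * g⁻¹ = el X ^ i * el W ^ j := by
  have : Fact (Nat.Prime 5) := ⟨by norm_num⟩
  have hE : IsPGroup 5 E := by
    rintro ⟨_, i, j, rfl⟩
    refine ⟨1, Subtype.ext ?_⟩
    show (el X ^ i * el W ^ j) ^ 5 ^ 1 = 1
    rw [pow_one, (XW.pow_pow i j).mul_pow, ← pow_mul, ← pow_mul, mul_comm i, mul_comm j, pow_mul, pow_mul, X5, W5,
      one_pow, one_pow, one_mul]
  obtain ⟨P, hP⟩ := hE.exists_le_sylow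
  have hPc : Nat.card P = 25 := by
    rw [P.card_eq_multiplicity, card_Suz]
    have : (448345497600 : ℕ).factorization 5 = 2 := by
      have h1 : (448345497600 : ℕ) = 5 ^ 2 * 17933819904 := by norm_num
      rw [h1, Nat.factorization_mul (by norm_num) (by norm_num), Finsupp.add_apply, Nat.Prime.factorization_pow (by norm_num),
        Finsupp.single_eq_same, Nat.factorization_eq_zero_of_not_dvd (by norm_num)]
    rw [this]
    norm_num
  have hEP : E = (P : Subgroup Suz) := by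
    refine Subgroup.eq_of_le_of_card_ge hP ?_
    rw [show Nat.card ↥(P : Subgroup Suz) = 25 from hPc]
    exact card_E
  have hy5 : IsPGroup 5 (zpowers y) := IsPGroup.of_card (n := 1) (by rw [Nat.card_zpowers, hy, pow_one])
  obtain ⟨Q, hQ⟩ := hy5.exists_le_sylow
  obtain ⟨g, hg⟩ := MulAction.exists_smul_eq Suz Q P
  have h1 : g * y * g⁻¹ ∈ (P : Subgroup Suz) := by
    rw [← hg]
    exact Subgroup.smul_mem_pointwise_smul _ _ _ (hQ (mem_zpowers y))
  rw [← hEP] at h1
  obtain ⟨i, j, h⟩ := h1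
  exact ⟨g, i, j, h⟩

/-- **there is no element of order 55** -/
theorem no_fifty_five : ¬ Has Suz 55 := by
  rintro ⟨g, hg⟩
  have hu : orderOf (g ^ 5) = 11 := by
    rw [orderOf_pow' _ (by norm_num), hg]
    norm_num
  have hy : orderOf (g ^ 11) = 5 := by
    rw [orderOf_pow' _ (by norm_num), hg]
    norm_num
  obtain ⟨c, i, j, hc⟩ := conj_E hy
  have hu' : orderOf (c * g ^ 5 * c⁻¹) = 11 := by
    have h3 : c * g ^ 5 * c⁻¹ = MulAut.conj c (g ^ 5) := by simp
    rw [h3, MulEquiv.orderOf_eq, hu]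
  have hcm : Commute (c * g ^ 5 * c⁻¹) (el X ^ i * el W ^ j) := by
    rw [← hc]
    show c * g ^ 5 * c⁻¹ * (c * g ^ 11 * c⁻¹) = c * g ^ 11 * c⁻¹ * (c * g ^ 5 * c⁻¹)
    group
  have key : ∀ a b : ℕ, chk a b = true → ∀ k : ℕ, (el X ^ i * el W ^ j) ^ k = el X ^ a * el W ^ b → False := by
    intro a b hab k hk
    obtain ⟨h1, h2⟩ := chk_spec hab
    rw [el_xw, ← hk] at h1 h2
    have h3 := hcm.pow_right k
    rcases h2 with h2 | h2
    · have := not_comm hu' h3 h2 h1
      omega
    · have := not_comm hu' h3 h2 h1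
      omega
  have hall := List.all_eq_true.1 chk_all
  have hpow : ∀ k : ℕ, (el X ^ i * el W ^ j) ^ k = el X ^ ((i * k) % 5) * el W ^ ((j * k) % 5) := by
    intro k
    rw [(XW.pow_pow i j).mul_pow, ← pow_mul, ← pow_mul, pow_mod X5, pow_mod W5]
  have hinv : ∀ n : ℕ, n % 5 ≠ 0 → ∃ k, (n * k) % 5 = 1 := by
    intro n hn
    have h5 : n % 5 < 5 := Nat.mod_lt _ (by norm_num)
    have : n % 5 = 1 ∨ n % 5 = 2 ∨ n % 5 = 3 ∨ n % 5 = 4 := by omega
    rcases this with h | h | h | h
    · exact ⟨1, by omega⟩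
    · exact ⟨3, by omega⟩
    · exact ⟨2, by omega⟩
    · exact ⟨4, by omega⟩
  by_cases hi : i % 5 = 0
  · by_cases hj : j % 5 = 0
    · -- `y = 1`
      rw [pow_mod X5 i, pow_mod W5 j, hi, hj, pow_zero, pow_zero, mul_one] at hc
      have h1 : g ^ 11 = 1 := by
        have := congrArg (fun x => c⁻¹ * x * c) hc
        simpa [mul_assoc] using this
      rw [h1, orderOf_one] at hy
      omega
    · obtain ⟨k, hk⟩ := hinv j hj
      refine key 0 1 (hall (0, 1) (by simp)) k ?_
      rw [hpow, hk, Nat.mul_mod, hi]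
      simp
  · obtain ⟨k, hk⟩ := hinv i hi
    have h5 : (j * k) % 5 < 5 := Nat.mod_lt _ (by norm_num)
    refine key 1 ((j * k) % 5) (hall (1, (j * k) % 5) ?_) k ?_
    · generalize (j * k) % 5 = l at h5
      interval_cases l <;> simp
    · rw [hpow, hk]

end Cfsg.Agent.H998.SpAlt.SuzDat

private theorem dce_843d04230f2d : _root_.True := by
  try have : _root_.True := by simp only [_root_.Cfsg.Agent.H998.SpAlt.SuzDat.xw.eq_1]
  exact _root_.True.intro
end

-- part: H998/SpAlt/Sixteen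
section
set_option linter.all false
open scoped Cfsg.Agent.FastGrp

/-!
# S3666, the alternating group of degree 16 (helper998)

The theorem of Shult (S3041) is the hypothesis `ShultStmt`.
-/

set_option autoImplicit false

namespace Cfsg.Agent.H998.SpAlt

open Cfsg Subgroup

universe u v

theorem DSuz.congr {X Y : Type*} [Group X] [Group Y] (e : X ≃* Y) (h : DSuz X) : DSuz Y := by
  obtain ⟨⟨x, h, hx, hh, hc⟩, ⟨y, k, hy, hk, hd⟩, z, hz⟩ := h
  refine ⟨⟨e x, e h, ?_, ?_, ?_⟩, ⟨e y, e k, ?_, ?_, ?_⟩, e z, ?_⟩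
  · rw [MulEquiv.orderOf_eq, hx]
  · rw [MulEquiv.orderOf_eq, hh]
  · rw [← map_inv, ← map_mul, ← map_mul, hc, map_pow]
  · rw [MulEquiv.orderOf_eq, hy]
  · rw [MulEquiv.orderOf_eq, hk]
  · rw [← map_inv, ← map_mul, ← map_mul, hd, map_pow]
  · rw [MulEquiv.orderOf_eq, hz]

/-- **S3666, degree 16.** -/
theorem sixteen_false (hSh : ShultStmt.{u}) {G : Type u} [Group G] [Finite G]
    (h : ∀ m, (∃ g : G, orderOf g = m) ↔ ∃ a : alternatingGroup (Fin 16), orderOf a = m) {X : Type v} [Group X]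
    (hX : Spor.IsoSuz X) (hO : OI X) (hst : St G X) : False := by
  obtain ⟨eX⟩ := hX
  have hSs : IsSimpleGroup Spor.Suz := Cfsg.Agent.SporadicRecognition.SuzOrder.simple
  have hsimple : IsSimpleGroup X := eX.isSimpleGroup
  have hno : ∀ m, ((gen (16 + 16) 16 16).all fun x => !(Nat.beq x.1 m) || x.2) = true → ¬ Has G m := by
    intro m hm hh
    exact alt_not hm ((h m).1 hh)
  have h26 : ¬ Has G 26 := hno 26 (by decide +kernel)
  have h55 : Has G 55 := by
    refine (h 55).2 ?_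
    exact alt_has (n := 16) {11, 5} (by decide) (by decide) (by decide)
  have h13G : Has G 13 := by
    refine (h 13).2 ?_
    exact alt_has (n := 16) {13} (by decide) (by decide) (by decide)
  obtain ⟨K, hKn, S, hSn, hKs, hC, ⟨e⟩, hd⟩ := hst
  have hXS : Nat.card ↥S = Nat.card X := Nat.card_congr e.toEquiv
  -- `13 ∤ |K|`
  have h13K : ¬ 13 ∣ Nat.card ↥K := by
    refine not_dvd_K K S (by norm_num) fun k hk => ?_
    rw [hXS]
    refine hd 13 (by norm_num) (by norm_num) ?_ h26 k hk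
    obtain ⟨g, hg⟩ := h13G
    have h1 := orderOf_dvd_natCard g
    rwa [hg] at h1
  have h511 : 5 ∣ Nat.card ↥K ∨ 11 ∣ Nat.card ↥K := by
    by_contra hcon
    push Not at hcon
    have h1 : Nat.Coprime 55 (Nat.card ↥K) := by
      have : (55 : ℕ) = 5 * 11 := by norm_num
      rw [this]
      exact Nat.Coprime.mul_left ((Nat.Prime.coprime_iff_not_dvd (by norm_num)).2 hcon.1)
        ((Nat.Prime.coprime_iff_not_dvd (by norm_num)).2 hcon.2)
    obtain ⟨s, hs⟩ := has_S K S hC (hO.congr e.symm) (by decide) h1 h55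
    exact SuzDat.no_fifty_five ⟨eX (e s), by rw [MulEquiv.orderOf_eq, MulEquiv.orderOf_eq, hs]⟩
  obtain ⟨G0, f, hf, hsol, hker⟩ := exists_surj K S e hKs
  have hG0 : ∀ {m : ℕ}, ¬ Has G m → ¬ Has ↥G0 m := by
    rintro m hm ⟨g, hg⟩
    exact hm ⟨(g : G), by rw [Subgroup.orderOf_coe, hg]⟩
  exact suz_core hSh (SuzDat.dsuz.congr eX.symm) f hf hsol (by rw [hker]; exact h511) (by rw [hker]; exact h13K)
    (hG0 h26) (hG0 (hno 65 (by decide +kernel))) (hG0 (hno 143 (by decide +kernel)))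
    (hG0 (hno 25 (by decide +kernel))) (hG0 (hno 44 (by decide +kernel)))

end Cfsg.Agent.H998.SpAlt
end
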